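import Mathlib

/-!
A group acted on without fixed points by an element of prime order, acting itself on an abelian group on which all
the norms of the coset vanish, acts trivially.
-/

set_option autoImplicit false
set_option linter.unusedSectionVars false

namespace Cfsg.Lib.CITExt.TwoS

open Subgroup Finset

variable {G : Type*} [Group G] [Finite G]

/-- the core of the norm argument, for automorphisms -/
theorem fixed_of_norm_aut {V : Type*} [CommGroup V] {A : Type*} [Group A] (W : Subgroup A) [Fintype W]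
    (φ : A →* MulAut V) {g : A} {ρ : ℕ} (hρ : ρ.Prime) (hg : g ^ ρ = 1)
    (hgW : ∀ w ∈ W, g * w * g⁻¹ ∈ W) (hfix : ∀ w ∈ W, g * w * g⁻¹ = w → w = 1)
    (hN : ∀ w ∈ W, ∀ v : V, ∏ i ∈ range ρ, (φ ((w * g) ^ i)) v = 1) (v : V) :
    ∀ w ∈ W, φ w (v ^ Fintype.card W) = v ^ Fintype.card W := by
  classical
  have hgi : ∀ i : ℕ, ∀ w ∈ W, g ^ i * w * (g ^ i)⁻¹ ∈ W := by
    intro i
    induction i with
    | zero => intro w hw; simpa using hw
    | succ i ih =>
      intro w hw
      have := hgW _ (ih w hw)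
      rw [pow_succ']
      simpa [mul_assoc] using this
  have hfi : ∀ i : ℕ, 0 < i → i < ρ → ∀ w ∈ W, g ^ i * w * (g ^ i)⁻¹ = w → w = 1 := by
    intro i h0 hi w hw e
    refine hfix w hw ?_
    obtain ⟨j, hj⟩ := Nat.exists_mul_mod_eq_one_of_coprime (k := ρ)
      ((hρ.coprime_iff_not_dvd.2 fun hd => by have := Nat.le_of_dvd h0 hd; omega).symm) hρ.one_lt
    have hc : Commute (g ^ i) w := mul_inv_eq_iff_eq_mul.1 e
    have hgj : (g ^ i) ^ j = g := by
      rw [← pow_mul]
      refine (pow_eq_pow_mod (n := ρ) _ hg).trans ?_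
      rw [hj.2, pow_one]
    exact mul_inv_eq_iff_eq_mul.2 (hgj ▸ hc.pow_left j).eq
  -- the coset
  have hco : ∀ i : ℕ, 0 < i → i < ρ →
      Function.Bijective fun x : W => (⟨(x : A) * (g ^ i * (x : A)⁻¹ * (g ^ i)⁻¹),
        W.mul_mem x.2 (hgi i _ (W.inv_mem x.2))⟩ : W) := by
    intro i h0 hi
    refine Finite.injective_iff_bijective.1 fun x y e => ?_
    have e' : (x : A) * (g ^ i * (x : A)⁻¹ * (g ^ i)⁻¹) = y * (g ^ i * (y : A)⁻¹ * (g ^ i)⁻¹) :=
      congrArg Subtype.val e
    have := hfi i h0 hi ((y : A)⁻¹ * x) (W.mul_mem (W.inv_mem y.2) x.2) (by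
      calc g ^ i * ((y : A)⁻¹ * x) * (g ^ i)⁻¹
          = (y : A)⁻¹ * ((y : A) * (g ^ i * (y : A)⁻¹ * (g ^ i)⁻¹)) * (g ^ i * x * (g ^ i)⁻¹) := by group
        _ = (y : A)⁻¹ * x := by rw [← e']; group)
    exact Subtype.ext (inv_mul_eq_one.1 this).symm
  have hexch : ∀ i ∈ range ρ, ∏ w : W, φ (((w : A) * g) ^ i) v =
      if i = 0 then v ^ Fintype.card W else ∏ w : W, φ ((w : A) * g ^ i) v := by
    intro i hi
    split_ifs with h0
    · subst h0
      simp
    · have hi' := mem_range.1 hi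
      have h1 : 1 < ρ := hρ.one_lt
      -- reindex by the conjugates of `g`
      have e1 := Fintype.prod_bijective _ (hco 1 one_pos h1)
        (fun x : W => φ ((x : A) * g ^ i * (x : A)⁻¹) v)
        (fun w : W => φ (((w : A) * g) ^ i) v) fun x => by
          show _ = φ _ v
          rw [show (x : A) * (g ^ 1 * (x : A)⁻¹ * (g ^ 1)⁻¹) * g = x * g * (x : A)⁻¹ by group, conj_pow]
      have e2 := Fintype.prod_bijective _ (hco i (Nat.pos_of_ne_zero h0) hi')
        (fun x : W => φ ((x : A) * g ^ i * (x : A)⁻¹) v)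
        (fun w : W => φ ((w : A) * g ^ i) v) fun x => by
          show _ = φ _ v
          congr 2
          group
      exact e1.symm.trans e2
  have hsum : v ^ Fintype.card W * ∏ i ∈ (range ρ).erase 0, ∏ w : W, φ ((w : A) * g ^ i) v = 1 := by
    have h := (prod_congr rfl fun w _ => hN _ w.2 v : ∏ w : W, _ = ∏ _w : W, (1 : V))
    rw [prod_comm, prod_const_one, prod_congr rfl hexch,
      ← mul_prod_erase _ _ (mem_range.2 hρ.pos)] at h
    rw [if_pos rfl] at h
    rw [← h]
    congr 1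
    exact prod_congr rfl fun i hi => (if_neg (mem_erase.1 hi).1).symm
  have hall : (∏ w : W, φ (w : A) v) * ∏ i ∈ (range ρ).erase 0, ∏ w : W, φ ((w : A) * g ^ i) v = 1 := by
    have h := mul_prod_erase (range ρ) (fun i => ∏ w : W, φ ((w : A) * g ^ i) v) (mem_range.2 hρ.pos)
    simp only [pow_zero, mul_one] at h
    rw [h, prod_comm]
    refine prod_eq_one fun w _ => ?_
    have := hN 1 W.one_mem v
    simp only [one_mul] at this
    simp only [map_mul, MulAut.mul_apply]
    rw [← map_prod, this, map_one]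
  have key : v ^ Fintype.card W = ∏ w : W, φ (w : A) v := mul_right_cancel (hsum.trans hall.symm)
  intro w hw
  rw [key, map_prod]
  exact Fintype.prod_bijective (fun x : W => (⟨w, hw⟩ : W) * x) (Group.mulLeft_bijective _) _ _ fun x => by
    rw [← MulAut.mul_apply, ← map_mul]
    rfl

/-- the norm argument for subgroups -/
theorem commute_of_norm {V W : Subgroup G} (hVc : ∀ a ∈ V, ∀ b ∈ V, Commute a b) {g : G} {ρ : ℕ} (hρ : ρ.Prime)
    (hg : g ^ ρ = 1) (hgV : ∀ v ∈ V, g * v * g⁻¹ ∈ V) (hWV : ∀ w ∈ W, ∀ v ∈ V, w * v * w⁻¹ ∈ V)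
    (hgW : ∀ w ∈ W, g * w * g⁻¹ ∈ W) (hfix : ∀ w ∈ W, g * w * g⁻¹ = w → w = 1)
    (hN : ∀ w ∈ W, ∀ v ∈ V, (v * (w * g)) ^ ρ = (w * g) ^ ρ) (hcop : (Nat.card ↥W).Coprime (Nat.card ↥V)) :
    ∀ w ∈ W, ∀ v ∈ V, Commute w v := by
  classical
  haveI : Fintype W := Fintype.ofFinite _
  letI : CommGroup V :=
    { (inferInstance : Group V) with mul_comm := fun x y => Subtype.ext (hVc x x.2 y y.2).eq }
  set A := normalizer (V : Set G) with hA
  have hmem : ∀ {x : G}, (∀ v ∈ V, x * v * x⁻¹ ∈ V) → x ∈ A := by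
    intro x hx
    have hb : Function.Surjective fun v : V => (⟨x * v * x⁻¹, hx v v.2⟩ : V) :=
      Finite.injective_iff_surjective.1 fun a b e => Subtype.ext (by simpa using congrArg Subtype.val e)
    refine Subgroup.mem_normalizer_iff.2 fun v => ⟨hx v, fun h => ?_⟩
    obtain ⟨y, hy⟩ := hb ⟨_, h⟩
    have : x * (y : G) * x⁻¹ = x * v * x⁻¹ := congrArg Subtype.val hy
    have hyv : (y : G) = v := by simpa using this
    exact hyv ▸ y.2
  have hgA : g ∈ A := hmem hgV
  have hWA : W ≤ A := fun w hw => hmem (hWV w hw)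
  let φ : ↥A →* MulAut V :=
    { toFun := fun a =>
        { toFun := fun v => ⟨a * v * (a : G)⁻¹, (mem_normalizer_iff.1 a.2 v).1 v.2⟩
          invFun := fun v => ⟨(a : G)⁻¹ * v * a, (mem_normalizer_iff'.1 a.2 _).2 (by
            simp [mul_assoc])⟩
          left_inv := fun v => Subtype.ext (by simp [mul_assoc])
          right_inv := fun v => Subtype.ext (by simp [mul_assoc])
          map_mul' := fun v w => Subtype.ext (by simp [mul_assoc]) }
      map_one' := MulEquiv.ext fun v => Subtype.ext (by simp)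
      map_mul' := fun a b => MulEquiv.ext fun v => Subtype.ext (by simp [mul_assoc]) }
  have hφ : ∀ (a : ↥A) (v : V), ((φ a v : V) : G) = a * v * (a : G)⁻¹ := fun a v => rfl
  have key : ∀ (h : ↥A) (v : V) (m : ℕ),
      ((v : G) * h) ^ m = ((∏ i ∈ range m, φ (h ^ i) v : V) : G) * (h : G) ^ m := by
    intro h v m
    induction m with
    | zero => simp
    | succ m ih =>
      rw [pow_succ, ih, prod_range_succ, Subgroup.coe_mul, hφ, pow_succ]
      push_cast
      group
  haveI : Fintype ↥(W.subgroupOf A) := Fintype.ofFinite _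
  have h0 := fun v : V => fixed_of_norm_aut (V := V) (W.subgroupOf A) φ (g := ⟨g, hgA⟩) hρ (Subtype.ext (by simpa using hg))
    (fun w hw => by simpa [mem_subgroupOf] using hgW _ hw)
    (fun w hw e => Subtype.ext (hfix _ hw (by simpa using congrArg Subtype.val e)))
    (fun w hw u => by
      have h1 := key (w * ⟨g, hgA⟩) u ρ
      push_cast at h1
      rw [hN (w : G) (mem_subgroupOf.1 hw) u u.2] at h1
      exact Subtype.ext (right_eq_mul.1 h1))
    v
  intro w hw v hv
  have hc : Fintype.card ↥(W.subgroupOf A) = Nat.card ↥W := by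
    rw [← Nat.card_eq_fintype_card]
    exact Nat.card_congr (subgroupOfEquivOfLe hWA).toEquiv
  obtain ⟨u, hu⟩ := (powCoprime (G := V) hcop.symm).surjective ⟨v, hv⟩
  have hu' : u ^ Nat.card ↥W = ⟨v, hv⟩ := hu
  have := h0 u ⟨w, hWA hw⟩ hw
  rw [hc, hu'] at this
  exact mul_inv_eq_iff_eq_mul.1 (congrArg Subtype.val this)

end Cfsg.Lib.CITExt.TwoS
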