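import Cfsg.Agent.CITExt.Almost
import Cfsg.Agent.CITExt.TwoS.Norm
import Cfsg.Agent.Transfer.FrobeniusApps

/-!
Groups in which the only element orders divisible by 2 or by a fixed odd prime `s` are `2`, `s` and `2s`: the
elementary facts and the absence of solvable normal subgroups.
-/

set_option autoImplicit false
set_option linter.unusedSectionVars false
set_option linter.style.haveILetI false

namespace Cfsg.Lib.CITExt.TwoS

open Subgroup Cfsg.Lib.CITGroups

universe u

/-- the orders divisible by `2` or `s` are `2`, `s`, `2s` -/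
structure Hyp (s : ℕ) (G : Type*) [Group G] : Prop where
  prime : s.Prime
  ne_two : s ≠ 2
  two : ∀ g : G, 2 ∣ orderOf g → orderOf g = 2 ∨ orderOf g = 2 * s
  spart : ∀ g : G, s ∣ orderOf g → orderOf g = s ∨ orderOf g = 2 * s

theorem mem_nrm {G : Type*} [Group G] [Finite G] {K : Subgroup G} {g : G} (h : ∀ k ∈ K, g * k * g⁻¹ ∈ K) :
    g ∈ normalizer (K : Set G) := by
  have hb : Function.Surjective fun v : K => (⟨g * v * g⁻¹, h v v.2⟩ : K) :=
    Finite.injective_iff_surjective.1 fun a b e => Subtype.ext (by simpa using congrArg Subtype.val e)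
  refine Subgroup.mem_normalizer_iff.2 fun v => ⟨h v, fun hv => ?_⟩
  obtain ⟨y, hy⟩ := hb ⟨_, hv⟩
  have hyv : (y : G) = v := by simpa using congrArg Subtype.val hy
  exact hyv ▸ y.2

theorem nrm_conj {G : Type*} [Group G] {K : Subgroup G} {g k : G} (hg : g ∈ normalizer (K : Set G)) (hk : k ∈ K) :
    g * k * g⁻¹ ∈ K := (mem_normalizer_iff.1 hg k).1 hk

variable {G : Type u} [Group G] [Finite G] {s : ℕ}

theorem Hyp.of_injective (h : Hyp s G) {H : Type*} [Group H] (f : H →* G) (hf : Function.Injective f) :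
    Hyp s H where
  prime := h.prime
  ne_two := h.ne_two
  two g hg := by rw [← orderOf_injective f hf] at hg ⊢; exact h.two _ hg
  spart g hg := by rw [← orderOf_injective f hf] at hg ⊢; exact h.spart _ hg

theorem Hyp.subgroup (h : Hyp s G) (H : Subgroup G) : Hyp s ↥H := h.of_injective H.subtype H.subtype_injective

theorem Hyp.odd_s (h : Hyp s G) : Odd s := h.prime.odd_of_ne_two h.ne_two

theorem Hyp.sq_two (h : Hyp s G) {g : G} (hg : Two g) : g * g = 1 := by
  obtain ⟨k, hk⟩ := hg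
  rcases k with _ | k
  · have hg1 : g = 1 := orderOf_eq_one_iff.1 (by simpa using hk)
    rw [hg1, mul_one]
  rcases h.two g (hk ▸ dvd_pow_self 2 k.succ_ne_zero) with e | e
  · rw [← pow_two, ← e, pow_orderOf_eq_one]
  · exfalso
    have hd : s ∣ 2 ^ (k + 1) := hk ▸ e ▸ dvd_mul_left s 2
    exact h.ne_two ((Nat.prime_dvd_prime_iff_eq h.prime Nat.prime_two).1 (h.prime.dvd_of_dvd_pow hd))

theorem Hyp.pow_s (h : Hyp s G) {g : G} {k : ℕ} (hg : orderOf g = s ^ k) : g ^ s = 1 := by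
  rcases k with _ | k
  · have hg1 : g = 1 := orderOf_eq_one_iff.1 (by simpa using hg)
    rw [hg1, one_pow]
  rcases h.spart g (hg ▸ dvd_pow_self s k.succ_ne_zero) with e | e
  · rw [← e, pow_orderOf_eq_one]
  · exfalso
    have hd : 2 ∣ s ^ (k + 1) := hg ▸ e ▸ dvd_mul_right 2 s
    exact h.ne_two ((Nat.prime_dvd_prime_iff_eq Nat.prime_two h.prime).1 (Nat.prime_two.dvd_of_dvd_pow hd)).symm

theorem Hyp.order_s (h : Hyp s G) {K : Subgroup G} (hK : IsPGroup s ↥K) {g : G} (hg : g ∈ K) (h1 : g ≠ 1) :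
    orderOf g = s := by
  haveI := Fact.mk h.prime
  obtain ⟨k, hk⟩ := IsPGroup.iff_orderOf.1 hK ⟨g, hg⟩
  rw [orderOf_mk] at hk
  exact orderOf_eq_prime (h.pow_s hk) h1

theorem Hyp.order_two (h : Hyp s G) {K : Subgroup G} (hK : IsPGroup 2 ↥K) {g : G} (hg : g ∈ K) (h1 : g ≠ 1) :
    orderOf g = 2 := orderOf_eq_prime (by rw [pow_two, h.sq_two (two_of_mem hK hg)]) h1

theorem Hyp.comm_two_group (h : Hyp s G) {K : Subgroup G} (hK : IsPGroup 2 ↥K) {a b : G} (ha : a ∈ K) (hb : b ∈ K) :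
    Commute a b := by
  have e : ∀ c ∈ K, c⁻¹ = c := fun c hc => inv_eq_of_mul_eq_one_right (h.sq_two (two_of_mem hK hc))
  show a * b = b * a
  rw [← e _ (K.mul_mem ha hb), mul_inv_rev, e a ha, e b hb]

/-- an element of order prime to `2s` commutes with no element of order `2` or `s` -/
theorem Hyp.not_comm (h : Hyp s G) {x y : G} {r : ℕ} (hr : r.Prime) (hr2 : r ≠ 2) (hrs : r ≠ s)
    (hx : orderOf x = r) (hy : orderOf y = 2 ∨ orderOf y = s) : ¬ Commute x y := by
  intro hc
  have hco : (orderOf x).Coprime (orderOf y) := by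
    rw [hx]
    rcases hy with e | e <;> rw [e]
    · exact (Nat.coprime_primes hr Nat.prime_two).2 hr2
    · exact (Nat.coprime_primes hr h.prime).2 hrs
  have ho := hc.orderOf_mul_eq_mul_orderOf_of_coprime hco
  rw [hx] at ho
  rcases hy with e | e <;> rw [e] at ho
  · rcases h.two (x * y) (ho ▸ dvd_mul_left 2 r) with e1 | e1 <;> rw [ho] at e1
    · have := hr.two_le; omega
    · exact hrs (Nat.eq_of_mul_eq_mul_left two_pos (by rw [mul_comm, e1]))
  · rcases h.spart (x * y) (ho ▸ dvd_mul_left s r) with e1 | e1 <;> rw [ho] at e1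
    · exact hr.one_lt.ne' (Nat.eq_of_mul_eq_mul_right h.prime.pos (by rw [e1, one_mul]))
    · exact hr2 (Nat.eq_of_mul_eq_mul_right h.prime.pos e1)

/-- the centraliser of an element of order `2` or `s` is a `{2, s}`-group -/
theorem Hyp.primes_cent (h : Hyp s G) {y : G} (hy : orderOf y = 2 ∨ orderOf y = s) {K : Subgroup G}
    (hK : ∀ k ∈ K, Commute k y) {r : ℕ} (hr : r.Prime) (hd : r ∣ Nat.card ↥K) : r = 2 ∨ r = s := by
  haveI := Fact.mk hr
  by_contra hne
  push Not at hne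
  obtain ⟨x, hx⟩ := exists_prime_orderOf_dvd_card' (G := ↥K) r hd
  exact h.not_comm hr hne.1 hne.2 (by rw [orderOf_coe]; exact hx) hy (hK x x.2)

theorem Hyp.solvable_of_primes (h : Hyp s G) {K : Subgroup G}
    (hK : ∀ r : ℕ, r.Prime → r ∣ Nat.card ↥K → r = 2 ∨ r = s) : Group.IsSolvable ↥K := by
  refine Cfsg.Lib.Chars.burnside_isSolvable 2 s Nat.prime_two h.prime ↥K
    ⟨(Nat.card ↥K).factorization 2, (Nat.card ↥K).factorization s, ?_⟩
  have hne : Nat.card ↥K ≠ 0 := Nat.card_pos.ne'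
  refine Nat.eq_of_factorization_eq hne
    (mul_ne_zero (pow_ne_zero _ two_ne_zero) (pow_ne_zero _ h.prime.ne_zero)) fun r => ?_
  rw [Nat.factorization_mul (pow_ne_zero _ two_ne_zero) (pow_ne_zero _ h.prime.ne_zero), Finsupp.add_apply,
    Nat.prime_two.factorization_pow, h.prime.factorization_pow]
  by_cases hr : r.Prime
  · by_cases hd : r ∣ Nat.card ↥K
    · rcases hK r hr hd with rfl | rfl <;> simp [h.ne_two, Ne.symm h.ne_two]
    · rw [Nat.factorization_eq_zero_of_not_dvd hd]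
      rcases eq_or_ne r 2 with rfl | h2
      · simp [Nat.factorization_eq_zero_of_not_dvd hd, h.ne_two]
      · rcases eq_or_ne r s with rfl | h3
        · simp [Nat.factorization_eq_zero_of_not_dvd hd, Ne.symm h.ne_two]
        · simp [h2, h3, Ne.symm h2, Ne.symm h3]
  · rw [Nat.factorization_eq_zero_of_not_prime _ hr]
    have h2 : r ≠ 2 := fun e => hr (e ▸ Nat.prime_two)
    have h3 : r ≠ s := fun e => hr (e ▸ h.prime)
    simp [Ne.symm h2, Ne.symm h3]

theorem Hyp.solvable_centralizer (h : Hyp s G) {y : G} (hy : orderOf y = 2 ∨ orderOf y = s) :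
    Group.IsSolvable ↥(centralizer ({y} : Set G)) :=
  h.solvable_of_primes fun _ hr hd => h.primes_cent hy (fun _ hk => mem_centralizer_singleton_iff.1 hk) hr hd

/-- the norms of an element of odd prime order on an abelian `s`-group or `2`-group are trivial -/
theorem Hyp.norm_trivial (h : Hyp s G) {V : Subgroup G} (hVc : ∀ a ∈ V, ∀ b ∈ V, Commute a b)
    (hV : IsPGroup s ↥V ∨ IsPGroup 2 ↥V) {x : G} {r : ℕ} (hr : r.Prime) (hr2 : r ≠ 2) (hx : orderOf x = r)
    (hxV : ∀ v ∈ V, x * v * x⁻¹ ∈ V) (hfree : IsPGroup 2 ↥V → r ≠ s) :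
    ∀ v ∈ V, (v * x) ^ r = x ^ r := by
  intro v hv
  have hx1 : x ^ r = 1 := hx ▸ pow_orderOf_eq_one x
  have key : ∀ m : ℕ, ∃ e ∈ V, (v * x) ^ m = e * x ^ m := by
    intro m
    induction m with
    | zero => exact ⟨1, V.one_mem, by simp⟩
    | succ m ih =>
      obtain ⟨e, he, ihe⟩ := ih
      refine ⟨v * (x * e * x⁻¹), V.mul_mem hv (hxV e he), ?_⟩
      rw [pow_succ', ihe, pow_succ']
      group
  obtain ⟨e, he, hee⟩ := key r
  rw [hee, hx1, mul_one]
  rw [hx1, mul_one] at hee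
  by_contra he1
  have hce : Commute x e := by
    have h1 : Commute e (v * x) := hee ▸ (Commute.self_pow (v * x) r).symm
    have h2 : Commute e (v⁻¹ * (v * x)) := (hVc e he v hv).inv_right.mul_right h1
    rwa [inv_mul_cancel_left, Commute.symm_iff] at h2
  rcases hV with hV | hV
  · haveI := Fact.mk hr
    rcases eq_or_ne r s with rfl | hrs
    · obtain ⟨k, hk⟩ := IsPGroup.iff_orderOf.1 hV ⟨e, he⟩
      rw [orderOf_mk] at hk
      have h3 : orderOf (v * x) ∣ r ^ (k + 1) :=
        orderOf_dvd_of_pow_eq_one (by rw [pow_succ', pow_mul, hee, ← hk, pow_orderOf_eq_one])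
      obtain ⟨j, -, hj⟩ := (Nat.dvd_prime_pow h.prime).1 h3
      exact he1 (hee.symm.trans (h.pow_s hj))
    · exact h.not_comm hr hr2 hrs hx (Or.inr (h.order_s hV he he1)) hce
  · exact h.not_comm hr hr2 (hfree hV) hx (Or.inl (h.order_two hV he he1)) hce

/-- a fixed-point-free action by an element of prime order of a group of order prime to the module kills the
module action -/
theorem Hyp.commute_of_fpf (h : Hyp s G) {V W : Subgroup G} (hVc : ∀ a ∈ V, ∀ b ∈ V, Commute a b)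
    (hV : IsPGroup s ↥V ∨ IsPGroup 2 ↥V) {g : G} {r : ℕ} (hr : r.Prime) (hr2 : r ≠ 2) (hg : orderOf g = r)
    (hgV : ∀ v ∈ V, g * v * g⁻¹ ∈ V) (hWV : ∀ w ∈ W, ∀ v ∈ V, w * v * w⁻¹ ∈ V)
    (hgW : ∀ w ∈ W, g * w * g⁻¹ ∈ W) (hfix : ∀ w ∈ W, Commute g w → w = 1)
    (hfree : IsPGroup 2 ↥V → r ≠ s) (hcop : (Nat.card ↥W).Coprime (Nat.card ↥V)) :
    ∀ w ∈ W, ∀ v ∈ V, Commute w v := by
  refine commute_of_norm hVc hr (hg ▸ pow_orderOf_eq_one g) hgV hWV hgW
    (fun w hw e => hfix w hw (mul_inv_eq_iff_eq_mul.1 e)) (fun w hw => ?_) hcop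
  -- `w g` is a conjugate of `g`
  have hb : Function.Surjective fun x : W => (⟨x * (g * (x : G)⁻¹ * g⁻¹), W.mul_mem x.2 (hgW _ (W.inv_mem x.2))⟩ : W) := by
    refine Finite.injective_iff_surjective.1 fun a b e => ?_
    have e' : (a : G) * (g * (a : G)⁻¹ * g⁻¹) = b * (g * (b : G)⁻¹ * g⁻¹) := congrArg Subtype.val e
    refine Subtype.ext (inv_mul_eq_one.1 (hfix _ (W.mul_mem (W.inv_mem b.2) a.2) (mul_inv_eq_iff_eq_mul.1 ?_))).symm
    calc g * ((b : G)⁻¹ * a) * g⁻¹ = (b : G)⁻¹ * ((b : G) * (g * (b : G)⁻¹ * g⁻¹)) * (g * a * g⁻¹) := by group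
      _ = (b : G)⁻¹ * a := by rw [← e']; group
  obtain ⟨x, hx⟩ := hb ⟨w, hw⟩
  have hx' : (x : G) * (g * (x : G)⁻¹ * g⁻¹) = w := congrArg Subtype.val hx
  have hwg : w * g = MulAut.conj (x : G) g := by rw [MulAut.conj_apply, ← hx']; group
  have ho : orderOf (w * g) = r := by rw [hwg, MulEquiv.orderOf_eq, hg]
  refine fun v hv => h.norm_trivial hVc hV hr hr2 ho (fun u hu => ?_) hfree v hv
  rw [show w * g * u * (w * g)⁻¹ = w * (g * u * g⁻¹) * w⁻¹ by group]
  exact hWV w hw _ (hgV u hu)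

/-- the fixed-point-free part of an element of odd prime order on a 2-group -/
theorem Hyp.exists_fpf_part (h : Hyp s G) {K : Subgroup G} (hK : IsPGroup 2 ↥K) {g : G} {r : ℕ} (hr : r.Prime)
    (hr2 : r ≠ 2) (hg : orderOf g = r) (hgK : ∀ k ∈ K, g * k * g⁻¹ ∈ K) (hne : ∃ k ∈ K, ¬ Commute g k) :
    ∃ W : Subgroup G, W ≤ K ∧ W ≠ ⊥ ∧ (∀ w ∈ W, g * w * g⁻¹ ∈ W) ∧ ∀ w ∈ W, Commute g w → w = 1 := by
  have hc := fun {a b : G} (ha : a ∈ K) (hb : b ∈ K) => h.comm_two_group hK ha hb
  let f : ↥K →* ↥K :=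
    { toFun := fun k => ⟨k * (g * k * g⁻¹), K.mul_mem k.2 (hgK k k.2)⟩
      map_one' := Subtype.ext (by simp)
      map_mul' := fun a b => Subtype.ext (by
        push_cast
        calc (a : G) * b * (g * ((a : G) * b) * g⁻¹) = a * (b * (g * a * g⁻¹)) * (g * b * g⁻¹) := by group
          _ = a * ((g * a * g⁻¹) * b) * (g * b * g⁻¹) := by rw [(hc b.2 (hgK a a.2)).eq]
          _ = a * (g * a * g⁻¹) * (b * (g * b * g⁻¹)) := by group) }
  have hsq : ∀ k ∈ K, k * k = 1 := fun k hk => h.sq_two (two_of_mem hK hk)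
  refine ⟨f.range.map K.subtype, map_subtype_le _, ?_, ?_, ?_⟩
  · obtain ⟨k, hk, hnc⟩ := hne
    intro e
    have h1 : k * (g * k * g⁻¹) ∈ f.range.map K.subtype := ⟨f ⟨k, hk⟩, ⟨⟨k, hk⟩, rfl⟩, rfl⟩
    rw [e, mem_bot] at h1
    refine hnc (mul_inv_eq_iff_eq_mul.1 (mul_left_cancel (a := k) ?_))
    rw [h1, hsq k hk]
  · rintro _ ⟨_, ⟨k, rfl⟩, rfl⟩
    refine ⟨f ⟨g * k * g⁻¹, hgK k k.2⟩, ⟨_, rfl⟩, ?_⟩
    show g * (k : G) * g⁻¹ * (g * (g * (k : G) * g⁻¹) * g⁻¹) = g * ((k : G) * (g * (k : G) * g⁻¹)) * g⁻¹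
    group
  · rintro _ ⟨_, ⟨k, rfl⟩, rfl⟩ hcw
    set x : G := (k : G) * (g * k * g⁻¹) with hx
    have hxK : x ∈ K := K.mul_mem k.2 (hgK k k.2)
    have hgx : ∀ i : ℕ, g ^ i * x * (g ^ i)⁻¹ = x := fun i =>
      mul_inv_eq_iff_eq_mul.2 ((hcw : Commute g x).pow_left i).eq
    have hstep : ∀ i : ℕ, g ^ i * k * (g ^ i)⁻¹ = x ^ i * k := by
      intro i
      induction i with
      | zero => simp
      | succ i ih =>
        have h1 : g * (k : G) * g⁻¹ = (k : G) * x := by
          rw [hx, ← mul_assoc, hsq k k.2, one_mul]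
        calc g ^ (i + 1) * (k : G) * (g ^ (i + 1))⁻¹ = g ^ i * (g * k * g⁻¹) * (g ^ i)⁻¹ := by group
          _ = (g ^ i * k * (g ^ i)⁻¹) * (g ^ i * x * (g ^ i)⁻¹) := by rw [h1]; group
          _ = x ^ (i + 1) * k := by rw [ih, hgx, mul_assoc, (hc k.2 hxK).eq, ← mul_assoc, ← pow_succ]
    have hxr : x ^ r = 1 := by
      have := hstep r
      rw [← hg, pow_orderOf_eq_one, one_mul, inv_one, mul_one, hg] at this
      exact right_eq_mul.1 this
    show x = 1
    by_contra hx1
    have h2 := h.order_two hK hxK hx1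
    exact hr2 ((Nat.prime_dvd_prime_iff_eq Nat.prime_two hr).1 (h2 ▸ orderOf_dvd_of_pow_eq_one hxr)).symm

theorem solvable_of_normal_quotient (N : Subgroup G) [N.Normal] (hN : Group.IsSolvable ↥N)
    (hQ : Group.IsSolvable (G ⧸ N)) : Group.IsSolvable G := by
  haveI := hN
  haveI := hQ
  exact Group.isSolvable_of_ker_le_range N.subtype (QuotientGroup.mk' N)
    (by rw [QuotientGroup.ker_mk', Subgroup.range_subtype])

/-- A nonsolvable group has no nontrivial normal 2-subgroup. -/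
theorem Hyp.no_two_normal (h : Hyp s G) (hns : ¬ Group.IsSolvable G) (V : Subgroup G) [V.Normal]
    (hV : IsPGroup 2 ↥V) : V = ⊥ := by
  haveI : Fact (Nat.Prime 2) := ⟨Nat.prime_two⟩
  by_contra hne
  obtain ⟨v, hv, hv1⟩ := (Subgroup.bot_or_exists_ne_one V).resolve_left hne
  set C := centralizer (V : Set G) with hC
  haveI : C.Normal := inferInstanceAs (centralizer (V : Set G)).Normal
  have hP : ∀ P : Sylow 2 G, (P : Subgroup G) ≤ C := fun P x hx => mem_centralizer_iff.2 fun y hy => by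
    obtain ⟨g, hg⟩ := MulAction.exists_smul_eq G (hV.exists_le_sylow.choose) P
    have hVP : V ≤ (P : Subgroup G) := by
      intro z hz
      rw [← hg, Sylow.coe_subgroup_smul, Subgroup.mem_pointwise_smul_iff_inv_smul_mem]
      refine hV.exists_le_sylow.choose_spec ?_
      simpa using ‹V.Normal›.conj_mem z hz g⁻¹
    exact (h.comm_two_group P.2 (hVP hy) hx).eq
  refine hns (solvable_of_normal_quotient C ?_ ?_)
  · haveI := h.solvable_centralizer (y := v) (Or.inl (h.order_two hV hv hv1))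
    exact Cfsg.Lib.Coprime.isSolvable_of_le (centralizer_le (Set.singleton_subset_iff.2 hv)) inferInstance
  · refine Cfsg.Agent.PF.isSolvable_of_odd _ (Nat.not_even_iff_odd.1 fun he => ?_)
    obtain ⟨P⟩ := (inferInstance : Nonempty (Sylow 2 G))
    rw [← Subgroup.index_eq_card] at he
    exact P.not_dvd_index (he.two_dvd.trans (Subgroup.index_dvd_of_le (hP P)))

/-- A group with at most two elements in a Sylow 2-subgroup is solvable. -/
theorem solvable_of_small (S : Sylow 2 G) (hS : Nat.card ↥(S : Subgroup G) ≤ 2) : Group.IsSolvable G := by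
  haveI : Fact (Nat.Prime 2) := ⟨Nat.prime_two⟩
  have hN : normalizer ((S : Subgroup G) : Set G) ≤ centralizer ((S : Subgroup G) : Set G) := by
    intro g hg
    refine mem_centralizer_iff.2 fun x hx => ?_
    rcases eq_or_ne x 1 with rfl | hx1
    · simp
    have hgx : g * x * g⁻¹ = x := by
      by_contra hne
      have hg1 : g * x * g⁻¹ ≠ 1 := fun e => hx1 (conj_eq_one_iff.1 e)
      have hsub : ({1, x, g * x * g⁻¹} : Set G) ⊆ (S : Subgroup G) := by
        rintro _ (rfl | rfl | rfl)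
        exacts [one_mem _, hx, nrm_conj hg hx]
      have h3 := Set.ncard_le_ncard hsub (Set.toFinite _)
      rw [Set.ncard_eq_three.2 ⟨1, x, g * x * g⁻¹, hx1.symm, hg1.symm, Ne.symm hne, rfl⟩,
        ← Nat.card_coe_set_eq] at h3
      exact absurd (h3.trans hS) (by norm_num)
    exact ((mul_inv_eq_iff_eq_mul.1 hgx).symm : x * g = g * x)
  set K := (MonoidHom.transferSylow S hN).ker
  haveI : K.Normal := MonoidHom.normal_ker _
  refine solvable_of_normal_quotient K (Cfsg.Agent.PF.isSolvable_of_odd _ (Nat.not_even_iff_odd.1 fun he =>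
    MonoidHom.not_dvd_card_ker_transferSylow S hN he.two_dvd)) ?_
  haveI := S.2.isNilpotent
  exact Group.isSolvable_of_isSolvable_injective
    (f := (QuotientGroup.kerLift (MonoidHom.transferSylow S hN))) (QuotientGroup.kerLift_injective _)

/-- In a nonsolvable group the normaliser of a Sylow 2-subgroup has an element of odd prime order which does not
centralise it. -/
theorem Hyp.exists_moving (h : Hyp s G) (hns : ¬ Group.IsSolvable G) (S : Sylow 2 G) :
    ∃ g ∈ normalizer ((S : Subgroup G) : Set G), ∃ r : ℕ, r.Prime ∧ r ≠ 2 ∧ orderOf g = r ∧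
      ∃ k ∈ (S : Subgroup G), ¬ Commute g k := by
  haveI : Fact (Nat.Prime 2) := ⟨Nat.prime_two⟩
  by_contra hcon
  push Not at hcon
  have hN : normalizer ((S : Subgroup G) : Set G) ≤ centralizer ((S : Subgroup G) : Set G) := by
    refine Cfsg.Lib.Transfer.le_of_forall_prime_pow fun g hg r k hr hk => mem_centralizer_iff.2 fun x hx => ?_
    show x * g = g * x
    rcases eq_or_ne r 2 with rfl | hr2
    · have h1 := (IsPGroup.of_card (p := 2) ((Nat.card_zpowers g).trans hk)).inf_normalizer_sylow S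
      have h3 : g ∈ zpowers g ⊓ normalizer ((S : Subgroup G) : Set G) := ⟨mem_zpowers g, hg⟩
      replace h3 : g ∈ zpowers g ⊓ (S : Subgroup G) := h1 ▸ h3
      exact (h.comm_two_group S.2 hx h3.2).eq
    rcases Nat.eq_zero_or_pos k with rfl | hk0
    · rw [pow_zero, orderOf_eq_one_iff] at hk
      simp [hk]
    obtain ⟨j, rfl⟩ : ∃ j, k = j + 1 := ⟨k - 1, by omega⟩
    have hg' : orderOf (g ^ r ^ j) = r := by
      rw [orderOf_pow' g (pow_ne_zero _ hr.ne_zero), hk, pow_succ, Nat.gcd_eq_right (dvd_mul_right _ _),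
        Nat.mul_div_cancel_left _ (pow_pos hr.pos j)]
    rcases eq_or_ne x 1 with rfl | hx1
    · simp
    have hc := hcon _ (pow_mem hg _) r hr hr2 hg' x hx
    rcases eq_or_ne r s with rfl | hrs
    · rcases eq_or_ne j 0 with rfl | hj0
      · simpa using hc.symm.eq
      exfalso
      have h2 := orderOf_dvd_of_pow_eq_one (h.pow_s hk)
      rw [hk] at h2
      exact absurd ((Nat.pow_dvd_pow_iff_le_right hr.one_lt (k := j + 1) (l := 1)).1 (by rwa [pow_one]))
        (by omega)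
    · exact absurd hc (h.not_comm hr hr2 hrs hg' (Or.inl (h.order_two S.2 hx hx1)))
  set K := (MonoidHom.transferSylow S hN).ker
  haveI : K.Normal := MonoidHom.normal_ker _
  refine hns (solvable_of_normal_quotient K (Cfsg.Agent.PF.isSolvable_of_odd _ (Nat.not_even_iff_odd.1 fun he =>
    MonoidHom.not_dvd_card_ker_transferSylow S hN he.two_dvd)) ?_)
  haveI := S.2.isNilpotent
  exact Group.isSolvable_of_isSolvable_injective
    (f := (QuotientGroup.kerLift (MonoidHom.transferSylow S hN))) (QuotientGroup.kerLift_injective _)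

/-- an involution with no fixed point on an abelian group of odd order inverts it -/
theorem inv_of_no_fix {V : Subgroup G} (hVc : ∀ a ∈ V, ∀ b ∈ V, Commute a b) {t : G} (htt : t * t = 1)
    (htV : ∀ v ∈ V, t * v * t⁻¹ ∈ V) (hfix : ∀ v ∈ V, Commute t v → v = 1) {v : G} (hv : v ∈ V) :
    t * v * t⁻¹ = v⁻¹ := by
  refine eq_inv_of_mul_eq_one_left (hfix _ (V.mul_mem (htV v hv) hv) (mul_inv_eq_iff_eq_mul.1 ?_))
  calc t * (t * v * t⁻¹ * v) * t⁻¹ = (t * t) * v * (t * t)⁻¹ * (t * v * t⁻¹) := by group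
    _ = v * (t * v * t⁻¹) := by rw [htt]; group
    _ = t * v * t⁻¹ * v := (hVc _ hv _ (htV v hv)).eq

/-- A nonsolvable group has no nontrivial solvable normal subgroup. -/
theorem Hyp.no_solvable_normal (h : Hyp s G) (hns : ¬ Group.IsSolvable G) (R : Subgroup G) (hR : R.Normal)
    (hRs : Group.IsSolvable ↥R) : R = ⊥ := by
  haveI : Fact (Nat.Prime 2) := ⟨Nat.prime_two⟩
  by_contra hne
  obtain ⟨L, hL, hLR, hL1, hmin⟩ := exists_minimal_normal hR hne
  haveI := hL
  have hLc := comm_of_minimal_solvable hmin (Cfsg.Lib.Coprime.isSolvable_of_le hLR hRs) hL1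
  obtain ⟨r, hr, hrd⟩ := Nat.exists_prime_and_dvd (n := Nat.card ↥L) (by
    rwa [Ne, Subgroup.card_eq_one])
  haveI := Fact.mk hr
  let V : Subgroup G :=
    { carrier := {x | x ∈ L ∧ x ^ r = 1}
      one_mem' := ⟨L.one_mem, one_pow r⟩
      mul_mem' := fun {a b} ha hb => ⟨L.mul_mem ha.1 hb.1, by rw [(hLc a ha.1 b hb.1).mul_pow, ha.2, hb.2, one_mul]⟩
      inv_mem' := fun {a} ha => ⟨L.inv_mem ha.1, by rw [inv_pow, ha.2, inv_one]⟩ }
  haveI : V.Normal := ⟨fun x hx g => ⟨hL.conj_mem x hx.1 g, by rw [conj_pow, hx.2, mul_one, mul_inv_cancel]⟩⟩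
  have hVc : ∀ a ∈ V, ∀ b ∈ V, Commute a b := fun a ha b hb => hLc a ha.1 b hb.1
  obtain ⟨x, hx⟩ := exists_prime_orderOf_dvd_card' (G := ↥L) r hrd
  have hxr : orderOf (x : G) = r := by rw [orderOf_coe, hx]
  have hxV : (x : G) ∈ V := ⟨x.2, hxr ▸ pow_orderOf_eq_one _⟩
  have hVr : IsPGroup r ↥V := fun v => ⟨1, Subtype.ext (by simpa using v.2.2)⟩
  have hVord : ∀ v ∈ V, v ≠ 1 → orderOf v = r := fun v hv h1 => orderOf_eq_prime hv.2 h1
  rcases eq_or_ne r 2 with rfl | hr2
  · have := h.no_two_normal hns V hVr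
    exact (fun e => by rw [e, orderOf_one] at hxr; omega : (x : G) ≠ 1) (by rwa [this, mem_bot] at hxV)
  have hx1 : (x : G) ≠ 1 := fun e => by rw [e, orderOf_one] at hxr; exact hr.one_lt.ne hxr
  set C := centralizer (V : Set G) with hC
  haveI : C.Normal := inferInstanceAs (centralizer (V : Set G)).Normal
  -- the centraliser has odd order
  have hCodd : Odd (Nat.card ↥C) := by
    refine Nat.not_even_iff_odd.1 fun he => ?_
    obtain ⟨t, ht⟩ := exists_prime_orderOf_dvd_card' (G := ↥C) 2 he.two_dvd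
    have hxt : Commute (x : G) (t : G) := mem_centralizer_iff.1 t.2 _ hxV
    have hrs : r = s := by
      by_contra hrs
      exact h.not_comm hr hr2 hrs hxr (Or.inl (by rw [orderOf_coe, ht])) hxt
    obtain ⟨T⟩ := (inferInstance : Nonempty (Sylow 2 ↥C))
    set T' := (T : Subgroup ↥C).map C.subtype with hT'
    have hT2 : IsPGroup 2 ↥T' := T.2.map _
    have hT1 : T' ≠ ⊥ := by
      rw [hT', ne_eq, Subgroup.map_eq_bot_iff, Subgroup.ker_subtype, le_bot_iff]
      intro e
      have h1 := T.not_dvd_index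
      rw [e, Subgroup.index_bot] at h1
      exact h1 he.two_dvd
    have hNs : Group.IsSolvable ↥(normalizer (T' : Set G)) := by
      by_contra hN
      haveI : (T'.subgroupOf (normalizer (T' : Set G))).Normal := Subgroup.normal_in_normalizer
      have := (h.subgroup _).no_two_normal hN (T'.subgroupOf (normalizer (T' : Set G)))
        (hT2.comap_of_injective _ (Subgroup.subtype_injective _))
      rw [subgroupOf_eq_bot] at this
      exact hT1 (eq_bot_iff.2 fun y hy => this.le_bot ⟨hy, le_normalizer hy⟩)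
    have htop := Sylow.normalizer_sup_eq_top T
    refine hns (solvable_of_normal_quotient C (Cfsg.Lib.Coprime.isSolvable_of_le
      (centralizer_le (Set.singleton_subset_iff.2 hxV)) (h.solvable_centralizer (y := (x : G)) (Or.inr (hxr.trans hrs)))) ?_)
    haveI := hNs
    refine Group.isSolvable_of_surjective (f := (QuotientGroup.mk' C).comp (normalizer (T' : Set G)).subtype) ?_
    intro q
    obtain ⟨g, rfl⟩ := QuotientGroup.mk'_surjective C q
    have hg : g ∈ normalizer (T' : Set G) ⊔ C := by rw [hT', htop]; trivial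
    obtain ⟨a, ha, b, hb, rfl⟩ := Subgroup.mem_sup_of_normal_right.1 hg
    exact ⟨⟨a, ha⟩, ((QuotientGroup.mk'_eq_mk' C).2 ⟨b, hb, rfl⟩)⟩
  have htV : ∀ (g : G), ∀ v ∈ V, g * v * g⁻¹ ∈ V := fun g v hv => ‹V.Normal›.conj_mem v hv g
  have hnC : ∀ t, orderOf t = 2 → t ∉ C := fun t ht htC => by
    have h1 : orderOf (⟨t, htC⟩ : ↥C) ∣ Nat.card ↥C := _root_.orderOf_dvd_natCard _
    rw [orderOf_mk, ht] at h1
    exact Nat.not_even_iff_odd.2 hCodd (even_iff_two_dvd.2 h1)
  obtain ⟨S⟩ := (inferInstance : Nonempty (Sylow 2 G))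
  rcases eq_or_ne r s with hrs | hrs
  · subst hrs
    obtain ⟨g, hg, ρ, hρ, hρ2, hgρ, hmove⟩ := h.exists_moving hns S
    obtain ⟨W, hWS, hW1, hgW, hWfix⟩ := h.exists_fpf_part S.2 hρ hρ2 hgρ (fun k hk => nrm_conj hg hk) hmove
    obtain ⟨w, hw, hw1⟩ := (Subgroup.bot_or_exists_ne_one W).resolve_left hW1
    have hcomm := h.commute_of_fpf hVc (Or.inl hVr) hρ hρ2 hgρ (htV g) (fun w _ => htV w) hgW hWfix
      (fun h2 => absurd (hxr.symm.trans (h.order_two h2 hxV hx1)) hr2)
      (by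
        obtain ⟨a, ha⟩ := IsPGroup.iff_card.1 (S.2.to_le hWS)
        obtain ⟨b, hb⟩ := IsPGroup.iff_card.1 hVr
        rw [ha, hb]
        exact Nat.Coprime.pow _ _ ((Nat.coprime_primes Nat.prime_two hr).2 (Ne.symm hr2)))
    exact hnC w (h.order_two S.2 (hWS hw) hw1) (mem_centralizer_iff.2 fun v hv => (hcomm w hw v hv).symm.eq)
  · have hinv : ∀ t, orderOf t = 2 → ∀ v ∈ V, t * v * t⁻¹ = v⁻¹ := fun t ht v hv =>
      inv_of_no_fix hVc (by rw [← pow_two, ← ht, pow_orderOf_eq_one]) (htV t) (fun u hu hc => by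
        by_contra hu1
        exact h.not_comm hr hr2 hrs (hVord u hu hu1) (Or.inl ht) hc.symm) hv
    refine hns (solvable_of_small S ?_)
    have hsub : (((S : Subgroup G) : Set G) \ {1}).Subsingleton := by
      rintro a ⟨ha, ha1 : a ≠ 1⟩ b ⟨hb, hb1 : b ≠ 1⟩
      by_contra hab
      have hb2 : b * b = 1 := h.sq_two (two_of_mem S.2 hb)
      have hab1 : a * b ≠ 1 := fun e => hab (mul_right_cancel (e.trans hb2.symm))
      have i1 := hinv a (h.order_two S.2 ha ha1)
      have i2 := hinv b (h.order_two S.2 hb hb1)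
      have i3 := hinv (a * b) (h.order_two S.2 (mul_mem ha hb) hab1) x hxV
      rw [show a * b * x * (a * b)⁻¹ = a * (b * x * b⁻¹) * a⁻¹ by group, i2 _ hxV,
        i1 _ (V.inv_mem hxV), inv_inv] at i3
      have h2 : (x : G) ^ 2 = 1 := by rw [pow_two]; nth_rw 1 [i3]; exact inv_mul_cancel _
      exact hr2 ((Nat.prime_dvd_prime_iff_eq hr Nat.prime_two).1 (hxr ▸ orderOf_dvd_of_pow_eq_one h2))
    have hc1 : Nat.card ↥(S : Subgroup G) = (((S : Subgroup G) : Set G) \ {1}).ncard + 1 := by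
      rw [Set.ncard_sdiff_singleton_add_one (one_mem _)]
      rfl
    have := Set.ncard_le_one_iff_subsingleton.2 hsub
    omega

/-- Normalisers of nontrivial solvable subgroups are solvable. -/
theorem Hyp.solvable_local (h : Hyp s G) {R : Subgroup G} (hR : R ≠ ⊥) (hRs : Group.IsSolvable ↥R) :
    Group.IsSolvable ↥(normalizer (R : Set G)) := by
  by_contra hN
  have hb := (h.subgroup _).no_solvable_normal hN (R.subgroupOf (normalizer (R : Set G)))
    Subgroup.normal_in_normalizer (by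
      haveI := hRs
      exact Group.isSolvable_of_isSolvable_injective
        (f := (subgroupOfEquivOfLe (le_normalizer (H := R))).toMonoidHom)
        (subgroupOfEquivOfLe (le_normalizer (H := R))).injective)
  rw [subgroupOf_eq_bot] at hb
  exact hR (eq_bot_iff.2 fun y hy => hb.le_bot ⟨hy, le_normalizer hy⟩)

end Cfsg.Lib.CITExt.TwoS
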