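import Cfsg.Agent.CITExt.TwoS.Solv
import Cfsg.Agent.HallHigman.Drop
import Cfsg.Agent.PGroups.Basic

/-!
A solvable group with a nontrivial `s`-core in which the elements of order `s` centralise every 2-subgroup which
they normalise has all of them in its `s`-core.
-/

set_option autoImplicit false
set_option linter.unusedSectionVars false
set_option linter.style.haveILetI false

namespace Cfsg.Lib.CITExt.TwoS

open Subgroup Cfsg.Lib.CITGroups

universe u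

variable {G : Type u} [Group G] [Finite G] {s : ℕ}

theorem Hyp.zpowers_sgroup (h : Hyp s G) {x : G} (hx : x ^ s = 1) : IsPGroup s ↥(zpowers x) := by
  obtain ⟨i, -, hi⟩ := (Nat.dvd_prime_pow h.prime).1 (show orderOf x ∣ s ^ 1 by
    rw [pow_one]; exact orderOf_dvd_of_pow_eq_one hx)
  exact IsPGroup.of_card (n := i) ((Nat.card_zpowers x).trans hi)

theorem Hyp.pow_of_mem (h : Hyp s G) {K : Subgroup G} (hK : IsPGroup s ↥K) {x : G} (hx : x ∈ K) : x ^ s = 1 := by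
  haveI := Fact.mk h.prime
  obtain ⟨k, hk⟩ := IsPGroup.iff_orderOf.1 hK ⟨x, hx⟩
  rw [orderOf_mk] at hk
  exact h.pow_s hk

/-- an element of order `s` normalising an `s`-group generates an `s`-group with it -/
theorem Hyp.sgroup_mul (h : Hyp s G) {K : Subgroup G} (hK : IsPGroup s ↥K) {x : G} (hx : x ^ s = 1)
    (hxK : ∀ k ∈ K, x * k * x⁻¹ ∈ K) {k : G} (hk : k ∈ K) : (k * x) ^ s = 1 :=
  h.pow_of_mem (hK.to_sup_of_normal_left' (h.zpowers_sgroup hx) (zpowers_le.2 (mem_nrm hxK)))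
    (mul_mem (mem_sup_left hk) (mem_sup_right (mem_zpowers x)))

/-- a subgroup of odd prime order `r ≠ s` commutes with no element of order `2` or `s` -/
theorem Hyp.not_comm_pgroup (h : Hyp s G) {R : Subgroup G} {r : ℕ} (hr : r.Prime) (hr2 : r ≠ 2) (hrs : r ≠ s)
    (hR : IsPGroup r ↥R) {x y : G} (hx : x ∈ R) (hy : orderOf y = 2 ∨ orderOf y = s) (hc : Commute x y) :
    x = 1 := by
  haveI := Fact.mk hr
  by_contra hx1
  obtain ⟨k, hk⟩ := IsPGroup.iff_orderOf.1 hR ⟨x, hx⟩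
  rw [orderOf_mk] at hk
  rcases k with _ | k
  · exact hx1 (orderOf_eq_one_iff.1 (by simpa using hk))
  have ho : orderOf (x ^ r ^ k) = r := by
    rw [orderOf_pow' x (pow_ne_zero _ hr.ne_zero), hk, pow_succ, Nat.gcd_eq_right (dvd_mul_right _ _),
      Nat.mul_div_cancel_left _ (pow_pos hr.pos k)]
  exact h.not_comm hr hr2 hrs ho hy (hc.pow_left _)

theorem Hyp.sclosed (h : Hyp s G) [Group.IsSolvable G] (hne : Cfsg.pCore s G ≠ ⊥)
    (hc : ∀ y : G, y ^ s = 1 → ∀ K : Subgroup G, IsPGroup 2 ↥K → (∀ k ∈ K, y * k * y⁻¹ ∈ K) →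
      ∀ k ∈ K, Commute y k) :
    ∀ y : G, y ^ s = 1 → y ∈ Cfsg.pCore s G := by
  haveI := Fact.mk h.prime
  intro y hy
  by_contra hyR
  set R0 := Cfsg.pCore s G with hR0
  have hR0s : IsPGroup s ↥R0 := Cfsg.Lib.Components.isPGroup_pCore s
  set π := QuotientGroup.mk' R0 with hπ
  haveI : Group.IsSolvable (G ⧸ R0) := Group.isSolvable_of_surjective (QuotientGroup.mk'_surjective R0)
  have hcore : Cfsg.pCore s (G ⧸ R0) = ⊥ := Cfsg.Lib.HallHigman.pCore_quotient_pCore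
  set F := Cfsg.fittingSubgroup (G ⧸ R0) with hF
  have hy1 : π y ≠ 1 := fun e => hyR ((QuotientGroup.eq_one_iff _).1 e)
  -- some primary part of the Fitting subgroup is moved
  obtain ⟨q, hq, hnc⟩ : ∃ q : ℕ, q.Prime ∧ ∃ k ∈ Cfsg.pCore q (G ⧸ R0), ¬ Commute (π y) k := by
    by_contra hcon
    push Not at hcon
    have hle : F ≤ centralizer ({π y} : Set (G ⧸ R0)) := by
      rw [hF, Cfsg.Lib.Components.fitting_eq_iSup_pCore]
      exact iSup_le fun q k hk => mem_centralizer_singleton_iff.2 (hcon q.1 q.2 k hk).symm.eq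
    have hyC : π y ∈ centralizer (F : Set (G ⧸ R0)) :=
      mem_centralizer_iff.2 fun k hk => mem_centralizer_singleton_iff.1 (hle hk)
    let Z : Subgroup (G ⧸ R0) :=
      { carrier := {x | x ∈ centralizer (F : Set (G ⧸ R0)) ∧ x ^ s = 1}
        one_mem' := ⟨one_mem _, one_pow s⟩
        mul_mem' := fun {a b} ha hb => ⟨mul_mem ha.1 hb.1, by
          have hab : Commute a b := (mem_centralizer_iff.1 hb.1 a (Cfsg.Lib.Coprime.centralizer_fitting_le ha.1))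
          rw [hab.mul_pow, ha.2, hb.2, one_mul]⟩
        inv_mem' := fun {a} ha => ⟨inv_mem ha.1, by rw [inv_pow, ha.2, inv_one]⟩ }
    haveI : Z.Normal := ⟨fun x hx g => ⟨(inferInstance : (centralizer (F : Set (G ⧸ R0))).Normal).conj_mem x hx.1 g,
      by rw [conj_pow, hx.2, mul_one, mul_inv_cancel]⟩⟩
    have hZ : Z ≤ ⊥ := hcore ▸ Cfsg.Lib.Components.le_pCore
      (fun x => ⟨1, Subtype.ext (by simpa using x.2.2)⟩)
    exact hy1 (mem_bot.1 (hZ ⟨hyC, by rw [← map_pow, hy, map_one]⟩))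
  obtain ⟨k₀, hk₀, hk₀c⟩ := hnc
  haveI := Fact.mk hq
  have hqs : q ≠ s := fun e => by
    subst e
    rw [hcore, mem_bot] at hk₀
    exact hk₀c (hk₀ ▸ Commute.one_right _)
  set O := Cfsg.pCore q (G ⧸ R0) with hO
  set K := O.comap π with hK
  haveI : K.Normal := Normal.comap inferInstance _
  obtain ⟨R⟩ := (inferInstance : Nonempty (Sylow q ↥K))
  set R' := (R : Subgroup ↥K).map K.subtype with hR'
  have hRq : IsPGroup q ↥R' := R.2.map _
  -- the Sylow subgroup covers the primary part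
  have hcov : ∀ c ∈ K, ∃ r ∈ R', π r = π c := by
    let f : ↥K →* ↥O := π.subgroupComap O
    have hsurj : Function.Surjective f :=
      π.subgroupComap_surjective_of_surjective O (QuotientGroup.mk'_surjective R0)
    have h1 : ((R : Subgroup ↥K).map f).index = 1 := by
      by_contra hne1
      obtain ⟨n, hn⟩ := IsPGroup.iff_card.1 (Cfsg.Lib.Components.isPGroup_pCore (G := G ⧸ R0) q)
      obtain ⟨j, -, hj⟩ := (Nat.dvd_prime_pow hq).1 (hn ▸ Subgroup.index_dvd_card ((R : Subgroup ↥K).map f))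
      rcases j with _ | j
      · exact hne1 (by simpa using hj)
      exact R.not_dvd_index ((hj ▸ dvd_pow_self q j.succ_ne_zero).trans
        (Subgroup.index_map_dvd (R : Subgroup ↥K) hsurj))
    intro c hc
    have h2 : f ⟨c, hc⟩ ∈ (R : Subgroup ↥K).map f := by rw [Subgroup.index_eq_one.1 h1]; trivial
    obtain ⟨r, hr, hrc⟩ := h2
    exact ⟨r, ⟨r, hr, rfl⟩, congrArg Subtype.val hrc⟩
  have htop : normalizer (R' : Set G) ⊔ K = ⊤ := Sylow.normalizer_sup_eq_top R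
  obtain ⟨a, ha, c, hcK, hac⟩ := Subgroup.mem_sup_of_normal_right.1 (htop.symm ▸ mem_top y)
  obtain ⟨r, hr, hrc⟩ := hcov c hcK
  set b := a * r with hb
  have hbN : b ∈ normalizer (R' : Set G) := mul_mem ha (le_normalizer hr)
  have hπb : π b = π y := by rw [hb, map_mul, hrc, ← map_mul, hac]
  have hbs : b ^ s = 1 := by
    have hb0 : b * y⁻¹ ∈ R0 := by
      rw [← QuotientGroup.eq_one_iff]
      show π (b * y⁻¹) = 1
      rw [map_mul, map_inv, hπb, mul_inv_cancel]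
    have := h.sgroup_mul hR0s hy (fun k hk => (inferInstance : (Cfsg.pCore s G).Normal).conj_mem k hk y) hb0
    rwa [inv_mul_cancel_right] at this
  have hbR : ∀ k ∈ R', b * k * b⁻¹ ∈ R' := fun k hk => nrm_conj hbN hk
  obtain ⟨c₀, hc₀⟩ := QuotientGroup.mk'_surjective R0 k₀
  obtain ⟨r₀, hr₀, hr₀c⟩ := hcov c₀ (show π c₀ ∈ O by rw [hc₀]; exact hk₀)
  have hbr : ¬ Commute b r₀ := fun e => hk₀c (by
    have := e.map π
    rwa [hπb, hr₀c, hc₀] at this)
  rcases eq_or_ne q 2 with rfl | hq2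
  · exact hbr (hc b hbs R' hRq hbR r₀ hr₀)
  have hb1 : b ≠ 1 := fun e => hbr (e ▸ Commute.one_left _)
  have hbo : orderOf b = s := orderOf_eq_prime hbs hb1
  haveI : Nontrivial ↥R0 := R0.nontrivial_iff_ne_bot.2 hne
  haveI : Nontrivial ↥(center ↥R0) := hR0s.center_nontrivial
  set V := (center ↥R0).map R0.subtype with hV
  have hVc : ∀ a ∈ V, ∀ b ∈ V, Commute a b := by
    rintro _ ⟨a, ha, rfl⟩ _ ⟨b, -, rfl⟩
    exact congrArg Subtype.val (mem_center_iff.1 ha b).symm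
  have hVs : IsPGroup s ↥V := hR0s.to_le (map_subtype_le _)
  haveI : V.Normal := inferInstanceAs ((center ↥R0).map R0.subtype).Normal
  obtain ⟨z, hz⟩ := exists_ne (1 : ↥(center ↥R0))
  set x : G := ((z : ↥R0) : G) with hxdef
  have hxV : x ∈ V := ⟨z, z.2, rfl⟩
  have hxo : orderOf x = s := h.order_s hR0s (z : ↥R0).2 fun e => hz (Subtype.ext (Subtype.ext e))
  have hcomm := h.commute_of_fpf hVc (Or.inl hVs) h.prime h.ne_two hbo
    (fun v hv => ‹V.Normal›.conj_mem v hv b) (fun w _ v hv => ‹V.Normal›.conj_mem v hv w) hbR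
    (fun w hw hc' => h.not_comm_pgroup hq hq2 hqs hRq hw (Or.inr hbo) hc'.symm)
    (fun h2 => absurd (hxo.symm.trans (h.order_two h2 hxV fun e => by
      rw [e, orderOf_one] at hxo
      exact h.prime.one_lt.ne hxo)) h.ne_two)
    (by
      obtain ⟨i, hi⟩ := IsPGroup.iff_card.1 hRq
      obtain ⟨j, hj⟩ := IsPGroup.iff_card.1 hVs
      rw [hi, hj]
      exact Nat.Coprime.pow _ _ ((Nat.coprime_primes hq h.prime).2 hqs))
  exact hbr ((h.not_comm_pgroup hq hq2 hqs hRq hr₀ (Or.inr hxo) (hcomm r₀ hr₀ x hxV)) ▸ Commute.one_right _)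

/-- the form for a subgroup -/
theorem Hyp.sclosed_in (h : Hyp s G) {Y : Subgroup G} (hY : Group.IsSolvable ↥Y) {R : Subgroup G} (hR : R ≤ Y)
    (hRs : IsPGroup s ↥R) (hR1 : R ≠ ⊥) (hRn : ∀ g ∈ Y, ∀ x ∈ R, g * x * g⁻¹ ∈ R)
    (hc : ∀ y ∈ Y, y ^ s = 1 → ∀ K : Subgroup G, K ≤ Y → IsPGroup 2 ↥K → (∀ k ∈ K, y * k * y⁻¹ ∈ K) →
      ∀ k ∈ K, Commute y k) :
    ∃ R0 : Subgroup G, R0 ≤ Y ∧ IsPGroup s ↥R0 ∧ R ≤ R0 ∧ (∀ g ∈ Y, ∀ x ∈ R0, g * x * g⁻¹ ∈ R0) ∧
      ∀ y ∈ Y, y ^ s = 1 → y ∈ R0 := by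
  haveI := hY
  haveI : (R.subgroupOf Y).Normal := ⟨fun x hx g => hRn g g.2 x hx⟩
  have hle : R.subgroupOf Y ≤ Cfsg.pCore s ↥Y :=
    Cfsg.Lib.Components.le_pCore (hRs.comap_of_injective _ Y.subtype_injective)
  have hne : Cfsg.pCore s ↥Y ≠ ⊥ := fun e => hR1 (eq_bot_iff.2 fun x hx => mem_bot.2 (by
    have h1 : (⟨x, hR hx⟩ : ↥Y) = 1 := mem_bot.1 (e ▸ hle (mem_subgroupOf.2 hx))
    exact congrArg Subtype.val h1))
  refine ⟨(Cfsg.pCore s ↥Y).map Y.subtype, map_subtype_le _, (Cfsg.Lib.Components.isPGroup_pCore s).map _,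
    fun x hx => ⟨⟨x, hR hx⟩, hle (mem_subgroupOf.2 hx), rfl⟩, ?_, ?_⟩
  · rintro g hg _ ⟨x, hx, rfl⟩
    exact ⟨⟨g, hg⟩ * x * ⟨g, hg⟩⁻¹, (inferInstance : (Cfsg.pCore s ↥Y).Normal).conj_mem x hx _, rfl⟩
  intro y hy hys
  refine ⟨⟨y, hy⟩, (h.subgroup Y).sclosed hne ?_ ⟨y, hy⟩ (Subtype.ext hys), rfl⟩
  intro z hz K hK hzK k hk
  have := hc z z.2 (by simpa using congrArg Subtype.val hz) (K.map Y.subtype) (map_subtype_le _) (hK.map _)
    (by rintro _ ⟨a, ha, rfl⟩; exact ⟨_, hzK a ha, rfl⟩) k ⟨k, hk, rfl⟩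
  exact Subtype.ext this.eq

end Cfsg.Lib.CITExt.TwoS
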