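import Cfsg.Agent.CITExt.TwoS.Signal
import Cfsg.Agent.CITExt.TwoS.Closed
import Cfsg.Agent.S1225

/-!
The invariant `s`-subgroup of the strongly embedded subgroup is centralised by the Sylow 2-subgroup.
-/

set_option autoImplicit false
set_option linter.unusedSectionVars false
set_option linter.style.haveILetI false

namespace Cfsg.Lib.CITExt.TwoS

open Subgroup Cfsg.Lib.CITGroups
open scoped commutatorElement

universe u

variable {G : Type u} [Group G] [Finite G] {s : ℕ}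

namespace Setup

variable {S : Sylow 2 G} {Q : Subgroup G}

local notation "M" => normalizer (Q : Set G)

theorem exists_one (L : Setup s S Q) : ∃ t ∈ (S : Subgroup G), t ≠ 1 :=
  (Subgroup.bot_or_exists_ne_one (S : Subgroup G)).resolve_left fun hb => by
    have := L.four
    rw [hb] at this
    norm_num at this

theorem trans (L : Setup s S Q) (hns : ¬ Group.IsSolvable G) {t t' : G} (ht : t ∈ (S : Subgroup G)) (ht1 : t ≠ 1)
    (ht' : t' ∈ (S : Subgroup G)) (ht1' : t' ≠ 1) :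
    ∃ n ∈ normalizer ((S : Subgroup G) : Set G), n * t * n⁻¹ = t' := by
  haveI : Fact (Nat.Prime 2) := ⟨Nat.prime_two⟩
  obtain ⟨g, hg⟩ := isConj_iff.1 (Cfsg.Lib.StrongEmb.all_conj (L.strongly hns) (L.hyp.order_S S ht ht1)
    (L.hyp.order_S S ht' ht1'))
  obtain ⟨n, hn, hne⟩ := Cfsg.Lib.Transfer.abelian_sylow_fusion S
    ⟨⟨fun a b => Subtype.ext (L.hyp.comm_two_group S.2 a.2 b.2).eq⟩⟩ t g ht (by rw [hg]; exact ht')
  exact ⟨n, hn, hne.symm.trans hg⟩

theorem cent_S (L : Setup s S Q) {x : G} (hx : x ^ s = 1) (hc : ∀ t ∈ (S : Subgroup G), Commute x t) : x ∈ Q := by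
  obtain ⟨t, ht, ht1⟩ := L.exists_one
  refine L.contains t ht ht1 (L.hyp.cent_le_ot (R := zpowers x) ⟨L.hyp.zpowers_sgroup hx, fun a ha y hy => ?_⟩
    ht ht1 (mem_zpowers x) (hc t ht))
  obtain ⟨k, rfl⟩ := mem_zpowers_iff.1 hy
  rw [((hc a ha).symm.zpow_right k).eq, mul_inv_cancel_right]
  exact hy

theorem split (L : Setup s S Q) {y : G} (hy : y ∈ M) (hys : y ^ s = 1) :
    ∃ q ∈ Q, ∃ n ∈ normalizer ((S : Subgroup G) : Set G), n ^ s = 1 ∧ y = q * n := by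
  obtain ⟨q, hq, n, hn, rfl⟩ := L.decomp hy
  refine ⟨q, hq, n, hn, ?_, rfl⟩
  have := L.hyp.sgroup_mul L.inv.1 hys (fun k hk => nrm_conj hy hk) (Q.inv_mem hq)
  rwa [inv_mul_cancel_left] at this

/-- if an element of order `s` moves the Sylow 2-subgroup then some involution centralises `Q` -/
theorem exists_central_of_moving (L : Setup s S Q) {n : G} (hn : n ∈ normalizer ((S : Subgroup G) : Set G))
    (hns' : n ^ s = 1) (hmove : ∃ k ∈ (S : Subgroup G), ¬ Commute n k) :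
    ∃ w ∈ (S : Subgroup G), w ≠ 1 ∧ ∀ q ∈ Q, Commute w q := by
  haveI : Fact (Nat.Prime 2) := ⟨Nat.prime_two⟩
  haveI := Fact.mk L.hyp.prime
  have h := L.hyp
  obtain ⟨k, hk, hkn⟩ := hmove
  have hno : orderOf n = s := orderOf_eq_prime hns' fun e => hkn (e ▸ Commute.one_left _)
  obtain ⟨W, hWS, hW1, hgW, hWfix⟩ :=
    h.exists_fpf_part S.2 h.prime h.ne_two hno (fun a ha => nrm_conj hn ha) ⟨k, hk, hkn⟩
  obtain ⟨w₀, hw₀, hw₀1⟩ := (Subgroup.bot_or_exists_ne_one W).resolve_left hW1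
  refine ⟨w₀, hWS hw₀, hw₀1, ?_⟩
  have hnM : n ∈ M := L.normalizer_le hn
  have hWM : W ≤ M := hWS.trans L.sylow_le
  -- the Frattini subgroup
  set Φ := (frattini ↥Q).map Q.subtype with hΦ
  have hΦn : ∀ g ∈ M, ∀ x ∈ Φ, g * x * g⁻¹ ∈ Φ := by
    rintro g hg _ ⟨y, hy, rfl⟩
    exact ⟨Q.normalizerMonoidHom ⟨g, hg⟩ y, (characteristic_iff_map_eq.mp (frattini_characteristic (G := ↥Q))
      (Q.normalizerMonoidHom ⟨g, hg⟩)).le ⟨y, hy, rfl⟩, rfl⟩
  set F := Φ.subgroupOf M with hF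
  haveI : F.Normal := ⟨fun x hx g => hΦn g g.2 x hx⟩
  set π := QuotientGroup.mk' F with hπ
  set V := (Q.subgroupOf M).map π with hV
  set W' := (W.subgroupOf M).map π with hW'
  have hQs : IsPGroup s ↥(Q.subgroupOf M) := L.inv.1.comap_of_injective _ (Subgroup.subtype_injective _)
  have hW2 : IsPGroup 2 ↥(W.subgroupOf M) := (S.2.to_le hWS).comap_of_injective _ (Subgroup.subtype_injective _)
  have hVc : ∀ a ∈ V, ∀ b ∈ V, Commute a b := by
    rintro _ ⟨a, ha, rfl⟩ _ ⟨b, hb, rfl⟩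
    have h1 : π (⁅a, b⁆) = 1 := (QuotientGroup.eq_one_iff _).2
      ⟨⁅(⟨a, ha⟩ : ↥Q), ⟨b, hb⟩⁆, Cfsg.Lib.PGroups.commutator_le_frattini L.inv.1
        (Subgroup.commutator_mem_commutator (mem_top _) (mem_top _)), rfl⟩
    rw [map_commutatorElement] at h1
    exact commutatorElement_eq_one_iff_commute.1 h1
  have hcomm := commute_of_norm (V := V) (W := W') hVc (g := π ⟨n, hnM⟩) h.prime
    (by rw [← map_pow]; exact (congrArg π (Subtype.ext (by simpa using hns'))).trans (map_one π))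
    (by
      rintro _ ⟨a, ha, rfl⟩
      exact ⟨⟨n, hnM⟩ * a * ⟨n, hnM⟩⁻¹, nrm_conj hnM ha, by simp⟩)
    (by
      rintro _ ⟨w, hw, rfl⟩ _ ⟨a, ha, rfl⟩
      exact ⟨w * a * w⁻¹, nrm_conj (K := Q) w.2 ha, by simp⟩)
    (by
      rintro _ ⟨w, hw, rfl⟩
      exact ⟨⟨n, hnM⟩ * w * ⟨n, hnM⟩⁻¹, hgW _ hw, by simp⟩)
    (by
      rintro _ ⟨w, hw, rfl⟩ e
      set c : ↥M := ⟨n, hnM⟩ * w * ⟨n, hnM⟩⁻¹ * w⁻¹ with hc
      have hcF : π c = 1 := by rw [hc, map_mul, map_mul, map_mul, map_inv, map_inv, e, mul_inv_cancel]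
      have hcF' : c ∈ F := (QuotientGroup.eq_one_iff c).1 hcF
      have hcQ : (c : G) ∈ Q := map_subtype_le _ (mem_subgroupOf.1 hcF')
      have hcW : (c : G) ∈ W := W.mul_mem (hgW _ hw) (W.inv_mem hw)
      have hc1 : (c : G) = 1 := by
        by_contra hne
        exact h.ne_two ((h.order_s L.inv.1 hcQ hne).symm.trans (h.order_two S.2 (hWS hcW) hne))
      rw [hWfix (w : G) hw (mul_inv_eq_iff_eq_mul.1 (mul_inv_eq_one.1 hc1)) |> fun e => (Subtype.ext e : w = 1),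
        map_one])
    (by
      rintro _ ⟨w, hw, rfl⟩ _ ⟨a, ha, rfl⟩
      have hb : Function.Surjective fun x : W =>
          (⟨x * (n * (x : G)⁻¹ * n⁻¹), W.mul_mem x.2 (hgW _ (W.inv_mem x.2))⟩ : W) := by
        refine Finite.injective_iff_surjective.1 fun a b e => ?_
        have e' : (a : G) * (n * (a : G)⁻¹ * n⁻¹) = b * (n * (b : G)⁻¹ * n⁻¹) := congrArg Subtype.val e
        refine Subtype.ext (inv_mul_eq_one.1 (hWfix _ (W.mul_mem (W.inv_mem b.2) a.2) (mul_inv_eq_iff_eq_mul.1 ?_))).symm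
        calc n * ((b : G)⁻¹ * a) * n⁻¹ = (b : G)⁻¹ * ((b : G) * (n * (b : G)⁻¹ * n⁻¹)) * (n * a * n⁻¹) := by group
          _ = (b : G)⁻¹ * a := by rw [← e']; group
      obtain ⟨x, hx⟩ := hb ⟨(w : G), hw⟩
      have hwn : ((w : G) * n) ^ s = 1 := by
        rw [← (congrArg Subtype.val hx : (x : G) * (n * (x : G)⁻¹ * n⁻¹) = w),
          show (x : G) * (n * (x : G)⁻¹ * n⁻¹) * n = x * n * (x : G)⁻¹ by group, conj_pow, hns', mul_one,
          mul_inv_cancel]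
      have h1 := h.sgroup_mul L.inv.1 hwn (fun b hb => nrm_conj (mul_mem w.2 hnM) hb) (k := (a : G)) ha
      rw [← map_mul, ← map_mul, ← map_pow, ← map_pow]
      congr 1
      exact Subtype.ext (by push_cast; rw [h1, hwn]))
    (by
      obtain ⟨i, hi⟩ := IsPGroup.iff_card.1 (hW2.map π)
      obtain ⟨j, hj⟩ := IsPGroup.iff_card.1 (hQs.map π)
      rw [show Nat.card ↥W' = 2 ^ i from hi, show Nat.card ↥V = s ^ j from hj]
      exact Nat.Coprime.pow _ _ ((Nat.coprime_primes Nat.prime_two h.prime).2 (Ne.symm h.ne_two)))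
  have hle := Cfsg.Lib.Coprime.le_centralizer_of_frattini (A := W) (K := Q) hWM
    (by
      obtain ⟨i, hi⟩ := IsPGroup.iff_card.1 (S.2.to_le hWS)
      obtain ⟨j, hj⟩ := IsPGroup.iff_card.1 (L.inv.1.to_subgroup (frattini ↥Q))
      rw [hi, hj]
      exact Nat.Coprime.pow _ _ ((Nat.coprime_primes Nat.prime_two h.prime).2 (Ne.symm h.ne_two)))
    (fun w hw q hq => by
      have e := hcomm (π ⟨w, hWM hw⟩) ⟨_, hw, rfl⟩ (π ⟨q, le_normalizer hq⟩) ⟨_, hq, rfl⟩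
      have h2 : π (⟨w, hWM hw⟩ * ⟨q, le_normalizer hq⟩ * ⟨w, hWM hw⟩⁻¹ * ⟨q, le_normalizer hq⟩⁻¹) = 1 := by
        rw [map_mul, map_mul, map_mul, map_inv, map_inv, e.eq, mul_inv_cancel_right, mul_inv_cancel]
      have h3 : _ ∈ F := (QuotientGroup.eq_one_iff (N := F) _).1 h2
      exact (mem_subgroupOf.1 h3))
  exact fun q hq => (mem_centralizer_iff.1 (hle hw₀) q hq).symm

theorem central_of_one (L : Setup s S Q) (hns : ¬ Group.IsSolvable G) {w : G} (hw : w ∈ (S : Subgroup G))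
    (hw1 : w ≠ 1) (hwQ : ∀ q ∈ Q, Commute w q) : ∀ t ∈ (S : Subgroup G), ∀ q ∈ Q, Commute t q := by
  intro t ht q hq
  rcases eq_or_ne t 1 with rfl | ht1
  · exact Commute.one_left _
  obtain ⟨n, hn, rfl⟩ := L.trans hns hw hw1 ht ht1
  have := (hwQ _ (L.stable n⁻¹ (inv_mem hn) q hq)).map (MulAut.conj n).toMonoidHom
  simpa [mul_assoc] using this

/-- a 2-element and an element commuting with it -/
theorem cent_two_part (L : Setup s S Q) {t n : G} (ht : t ∈ (S : Subgroup G)) (ht1 : t ≠ 1)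
    (hn : n ∈ normalizer ((S : Subgroup G) : Set G)) (hc : Commute n t) :
    n ^ s ∈ (S : Subgroup G) ∧ (n ^ 2) ^ s = 1 := by
  haveI : Fact (Nat.Prime 2) := ⟨Nat.prime_two⟩
  have h := L.hyp
  have hdvd : orderOf n ∣ 2 * s := by
    by_cases h2 : 2 ∣ orderOf n
    · rcases h.two n h2 with e | e <;> rw [e]
      exact dvd_mul_right 2 s
    by_cases hs : s ∣ orderOf n
    · rcases h.spart n hs with e | e <;> rw [e]
      exact dvd_mul_left s 2
    rcases eq_or_ne (orderOf n) 1 with e | e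
    · rw [e]; exact one_dvd _
    obtain ⟨r, hr, hrd⟩ := Nat.exists_prime_and_dvd e
    exact absurd ((hc.pow_left (orderOf n / r))) (h.not_comm hr (fun e' => h2 (e' ▸ hrd)) (fun e' => hs (e' ▸ hrd))
      (orderOf_pow_orderOf_div (orderOf_pos n).ne' hrd) (Or.inl (h.order_S S ht ht1)))
  have h1 : n ^ (2 * s) = 1 := orderOf_dvd_iff_pow_eq_one.1 hdvd
  refine ⟨?_, by rwa [← pow_mul]⟩
  have h2 : IsPGroup 2 ↥(zpowers (n ^ s)) := by
    obtain ⟨i, -, hi⟩ := (Nat.dvd_prime_pow Nat.prime_two).1 (show orderOf (n ^ s) ∣ 2 ^ 1 by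
      rw [pow_one]
      exact orderOf_dvd_of_pow_eq_one (by rwa [← pow_mul, mul_comm s 2]))
    exact IsPGroup.of_card (n := i) ((Nat.card_zpowers _).trans hi)
  have h3 : n ^ s ∈ zpowers (n ^ s) ⊓ normalizer ((S : Subgroup G) : Set G) := ⟨mem_zpowers _, pow_mem hn s⟩
  have h4 : zpowers (n ^ s) ⊓ normalizer ((S : Subgroup G) : Set G) = zpowers (n ^ s) ⊓ (S : Subgroup G) :=
    h2.inf_normalizer_sylow S
  exact (h4 ▸ h3 : n ^ s ∈ zpowers (n ^ s) ⊓ (S : Subgroup G)).2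

/-- an element of the centraliser of an involution of `S` is in `QS`, if its `s`-part is -/
theorem cent_le_of (L : Setup s S Q) {t x : G} (ht : t ∈ (S : Subgroup G)) (ht1 : t ≠ 1) (hc : Commute x t)
    (hs : ∀ n ∈ normalizer ((S : Subgroup G) : Set G), n ^ s = 1 → Commute n t → n ∈ Q ⊔ (S : Subgroup G)) :
    x ∈ Q ⊔ (S : Subgroup G) := by
  obtain ⟨o, ho, n, hnC, hn, rfl⟩ := (L.hyp.solvable_structure (L.hyp.solvable_centralizer
    (Or.inl (L.hyp.order_S S ht ht1))) (L.hyp.sylow_le_cent S ht) S.2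
    (sylow_relIndex S _ (L.hyp.sylow_le_cent S ht))).2 x (mem_centralizer_singleton_iff.2 hc.eq)
  have hnt : Commute n t := mem_centralizer_singleton_iff.1 hnC
  obtain ⟨h1, h2⟩ := L.cent_two_part ht ht1 (mem_nrm hn) hnt
  refine mul_mem (mem_sup_left (L.contains t ht ht1 ho)) ?_
  obtain ⟨k, hk⟩ := L.hyp.odd_s
  have e : n = n ^ s * ((n ^ 2) ^ k)⁻¹ := by rw [hk, ← pow_mul, pow_succ']; group
  rw [e]
  exact mul_mem (mem_sup_right h1) (inv_mem (pow_mem (hs _ (pow_mem (mem_nrm hn) 2) h2 (hnt.pow_left 2)) k))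

theorem mem_sup_cases (L : Setup s S Q) {x : G} (hx : x ∈ Q ⊔ (S : Subgroup G)) :
    x ^ 2 ∈ Q ∧ (Odd (orderOf x) → x ∈ Q) := by
  have h2 : x ^ 2 ∈ Q := by
    rw [sup_comm, ← SetLike.mem_coe, coe_mul_of_left_le_normalizer_right _ _ L.sylow_le] at hx
    obtain ⟨a, ha, q, hq, rfl⟩ := hx
    have e : (a * q) ^ 2 = (a * q * a⁻¹) * (a * a) * q := by rw [pow_two]; group
    rw [e, L.hyp.sq_two (two_of_mem S.2 ha), mul_one]
    exact mul_mem (L.inv.2 a ha q hq) hq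
  refine ⟨h2, fun ho => ?_⟩
  obtain ⟨k, hk⟩ := ho
  have e : x = ((x ^ 2) ^ k)⁻¹ := by
    refine eq_inv_of_mul_eq_one_right ?_
    rw [← pow_mul, ← pow_succ, ← hk, pow_orderOf_eq_one]
  rw [e]
  exact inv_mem (pow_mem h2 k)

/-- The Sylow 2-subgroup centralises `Q`. -/
theorem centralizes (L : Setup s S Q) (hns : ¬ Group.IsSolvable G) :
    ∀ t ∈ (S : Subgroup G), ∀ q ∈ Q, Commute t q := by
  classical
  haveI : Fact (Nat.Prime 2) := ⟨Nat.prime_two⟩
  haveI := Fact.mk L.hyp.prime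
  have h := L.hyp
  have hSE := L.strongly hns
  by_cases hmove : ∃ n ∈ normalizer ((S : Subgroup G) : Set G), n ^ s = 1 ∧ ∃ k ∈ (S : Subgroup G), ¬ Commute n k
  · obtain ⟨n, hn, hns', hk⟩ := hmove
    obtain ⟨w, hw, hw1, hwQ⟩ := L.exists_central_of_moving hn hns' hk
    exact L.central_of_one hns hw hw1 hwQ
  push Not at hmove
  have hMs : ∀ y ∈ M, y ^ s = 1 → y ∈ Q := fun y hy hys => by
    obtain ⟨q, hq, n, hn, hns', rfl⟩ := L.split hy hys
    exact mul_mem hq (L.cent_S hns' (hmove n hn hns'))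
  -- an `s`-group containing `Q` is `Q`
  have hsyl : ∀ P : Subgroup G, IsPGroup s ↥P → Q ≤ P → P = Q := by
    intro P hP hQP
    by_contra hne
    haveI : Group.IsNilpotent ↥P := hP.isNilpotent
    have hlt := Group.normalizerCondition_of_isNilpotent (G := ↥P) (Q.subgroupOf P) (lt_top_iff_ne_top.2 fun e =>
      hne (le_antisymm (subgroupOf_eq_top.1 e) hQP))
    obtain ⟨y, hy, hyQ⟩ := SetLike.exists_of_lt hlt
    refine hyQ (mem_subgroupOf.2 (hMs y (mem_nrm fun k hk => ?_) (h.pow_of_mem hP y.2)))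
    exact mem_subgroupOf.1 ((mem_normalizer_iff.1 hy ⟨k, hQP hk⟩).1 (mem_subgroupOf.2 hk))
  have hconj : ∀ P : Subgroup G, IsPGroup s ↥P → ∃ g : G, ∀ x ∈ P, g⁻¹ * x * g ∈ Q := by
    intro P hP
    obtain ⟨PQ, hPQ⟩ := L.inv.1.exists_le_sylow
    obtain ⟨P', hP'⟩ := hP.exists_le_sylow
    obtain ⟨g, hg⟩ := MulAction.exists_smul_eq G PQ P'
    refine ⟨g, fun x hx => ?_⟩
    have h1 := hP' hx
    rw [← hg, Sylow.coe_subgroup_smul, Subgroup.mem_pointwise_smul_iff_inv_smul_mem] at h1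
    rw [← hsyl _ PQ.2 hPQ]
    simpa using h1
  -- elements of order `s` centralise the 2-subgroups which they normalise
  have hc2 : ∀ y : G, y ^ s = 1 → ∀ K : Subgroup G, IsPGroup 2 ↥K → (∀ k ∈ K, y * k * y⁻¹ ∈ K) →
      ∀ k ∈ K, Commute y k := by
    intro y hy K hK hyK k hk
    rcases eq_or_ne k 1 with rfl | hk1
    · exact Commute.one_right _
    obtain ⟨P', hP'⟩ := hK.exists_le_sylow
    obtain ⟨g, hg⟩ := MulAction.exists_smul_eq G P' S
    have hKS : ∀ a ∈ K, g * a * g⁻¹ ∈ (S : Subgroup G) := fun a ha => by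
      rw [← hg, Sylow.coe_subgroup_smul]
      exact ⟨a, hP' ha, rfl⟩
    have hKg : K.map (MulAut.conj g).toMonoidHom ≤ (S : Subgroup G) := by
      rintro _ ⟨a, ha, rfl⟩; exact hKS a ha
    have hyg : g * y * g⁻¹ ∈ normalizer ((K.map (MulAut.conj g).toMonoidHom : Subgroup G) : Set G) := mem_nrm (by
      rintro _ ⟨a, ha, rfl⟩
      exact ⟨y * a * y⁻¹, hyK a ha, by simp [mul_assoc]⟩)
    have hyM : g * y * g⁻¹ ∈ M := Cfsg.Lib.StrongEmb.normalizers_of hSE (hKg.trans L.sylow_le) (hK.map _)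
      (fun e => hk1 (by
        have h1 : g * k * g⁻¹ ∈ K.map (MulAut.conj g).toMonoidHom := ⟨k, hk, rfl⟩
        rw [e, mem_bot] at h1
        exact conj_eq_one_iff.1 h1)) hyg
    have hyQ := hMs _ hyM (by rw [conj_pow, hy, mul_one, mul_inv_cancel])
    set y' := g * y * g⁻¹
    set k' := g * k * g⁻¹
    have hk' : k' ∈ (S : Subgroup G) := hKS k hk
    have hc1 : y' * k' * y'⁻¹ * k'⁻¹ ∈ (S : Subgroup G) := mul_mem (by
      rw [show y' * k' * y'⁻¹ = g * (y * k * y⁻¹) * g⁻¹ by simp [y', k', mul_assoc]]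
      exact hKS _ (hyK k hk)) (inv_mem hk')
    have hc2' : y' * k' * y'⁻¹ * k'⁻¹ ∈ Q := by
      rw [show y' * k' * y'⁻¹ * k'⁻¹ = y' * (k' * y'⁻¹ * k'⁻¹) by group]
      exact mul_mem hyQ (L.inv.2 k' hk' _ (inv_mem hyQ))
    have h1 : y' * k' * y'⁻¹ * k'⁻¹ = 1 := by
      by_contra hne
      exact h.ne_two ((h.order_s L.inv.1 hc2' hne).symm.trans (h.order_two S.2 hc1 hne))
    rw [mul_inv_eq_one, mul_inv_eq_iff_eq_mul] at h1
    have := (show Commute y' k' from h1).map (MulAut.conj g⁻¹).toMonoidHom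
    simpa [y', k', mul_assoc] using this
  -- trivial intersections
  have hTI : ∀ g : G, g ∉ M → Q ⊓ Q.map (MulAut.conj g).toMonoidHom = ⊥ := by
    by_contra hcon
    push Not at hcon
    obtain ⟨g₀, hg₀, hne₀⟩ := hcon
    set A := {g : G | g ∉ M ∧ Q ⊓ Q.map (MulAut.conj g).toMonoidHom ≠ ⊥}
    obtain ⟨g, ⟨hg, hne⟩, hmax⟩ := Set.exists_max_image A
      (fun g => Nat.card ↥(Q ⊓ Q.map (MulAut.conj g).toMonoidHom)) (Set.toFinite _) ⟨g₀, hg₀, hne₀⟩
    set Q' := Q.map (MulAut.conj g).toMonoidHom with hQ'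
    set D0 := Q ⊓ Q' with hD0
    have hQ's : IsPGroup s ↥Q' := L.inv.1.map _
    have hcard : Nat.card ↥Q' = Nat.card ↥Q := Subgroup.card_map_of_injective (MulAut.conj g).injective
    have hQQ' : Q' ≠ Q := fun e => hg (mem_nrm fun k hk => e.le ⟨k, hk, rfl⟩)
    haveI : Group.IsNilpotent ↥D0 := (L.inv.1.to_le inf_le_left).isNilpotent
    obtain ⟨R0, hR0Y, hR0s, -, -, hR0⟩ := h.sclosed_in (h.solvable_local hne inferInstance) le_normalizer
      (L.inv.1.to_le (inf_le_left : D0 ≤ Q)) hne (fun g hg x hx => nrm_conj hg hx)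
      (fun y _ hy K _ hK hyK => hc2 y hy K hK hyK)
    have hgrow : ∀ R : Subgroup G, IsPGroup s ↥R → D0 ≤ R → D0 ≠ R → ∃ x ∈ R, x ∉ D0 ∧ x ∈ R0 := by
      intro R hR hle hneq
      haveI : Group.IsNilpotent ↥R := hR.isNilpotent
      have hlt := Group.normalizerCondition_of_isNilpotent (G := ↥R) (D0.subgroupOf R) (lt_top_iff_ne_top.2
        fun e => hneq (le_antisymm hle (subgroupOf_eq_top.1 e)))
      obtain ⟨y, hy, hyD⟩ := SetLike.exists_of_lt hlt
      refine ⟨y, y.2, fun e => hyD (mem_subgroupOf.2 e), hR0 _ (mem_nrm fun k hk => ?_) (h.pow_of_mem hR y.2)⟩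
      exact mem_subgroupOf.1 ((mem_normalizer_iff.1 hy ⟨k, hle hk⟩).1 (mem_subgroupOf.2 hk))
    have hD0R : D0 ≤ R0 := fun x hx => hR0 x (le_normalizer hx) (h.pow_of_mem L.inv.1 hx.1)
    have hne1 : D0 ≠ Q := fun e => hQQ' (Subgroup.eq_of_le_of_card_ge
      (inf_eq_left.1 e) hcard.le).symm
    obtain ⟨x, hxQ, hxD, hxR⟩ := hgrow Q L.inv.1 inf_le_left hne1
    obtain ⟨k, hk⟩ := hconj R0 hR0s
    have hkM : k ∈ M := by
      by_contra hkM
      have h3 : D0 ⊔ zpowers x ≤ Q ⊓ Q.map (MulAut.conj k).toMonoidHom := sup_le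
        (fun a ha => ⟨ha.1, ⟨k⁻¹ * a * k, hk a (hD0R ha), by simp [mul_assoc]⟩⟩)
        (zpowers_le.2 ⟨hxQ, ⟨k⁻¹ * x * k, hk x hxR, by simp [mul_assoc]⟩⟩)
      have h4 := hmax k ⟨hkM, fun e => hne (le_bot_iff.1 (e ▸ le_sup_left.trans h3))⟩
      have h5 : D0 ⊔ zpowers x = D0 := (Subgroup.eq_of_le_of_card_ge le_sup_left
        ((Subgroup.card_le_of_le h3).trans h4)).symm
      exact hxD (h5.le (mem_sup_right (mem_zpowers x)))
    have hR0Q : R0 ≤ Q := fun a ha => by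
      have := nrm_conj hkM (hk a ha)
      simpa [mul_assoc] using this
    obtain ⟨y, hyQ', hyD, hyR⟩ := hgrow Q' hQ's inf_le_right (fun e => hQQ'
      (Subgroup.eq_of_le_of_card_ge (inf_eq_right.1 e) hcard.ge))
    exact hyD ⟨hR0Q hyR, hyQ'⟩
  obtain ⟨u, hu, huM⟩ := L.exists_outside hns
  set D := M ⊓ (M).map (MulAut.conj u).toMonoidHom with hD
  have hDodd : Odd (Nat.card ↥D) := hSE.2.2 u huM
  have hDQ : ∀ x ∈ D, x ∈ Q → x = 1 := by
    intro x hx hxQ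
    have h1 : u⁻¹ * x * u ∈ M := (Cfsg.Lib.StrongEmb.mem_conj_iff).1 hx.2
    have h2 := hMs _ h1 (by
      have := congrArg (MulAut.conj u⁻¹) (h.pow_of_mem L.inv.1 hxQ)
      simpa [map_pow] using this)
    have h3 : x ∈ Q ⊓ Q.map (MulAut.conj u).toMonoidHom := ⟨hxQ, ⟨_, h2, by simp [mul_assoc]⟩⟩
    rwa [hTI u huM, mem_bot] at h3
  obtain ⟨t, ht, ht1⟩ := L.exists_one
  refine L.central_of_one hns ht ht1 fun q hq => ?_
  have hto := h.order_S S ht ht1
  have hqt : orderOf (q * t * q⁻¹) = 2 := by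
    rw [show q * t * q⁻¹ = MulAut.conj q t from rfl, MulEquiv.orderOf_eq, hto]
  obtain ⟨d, hd, hdt⟩ := (Cfsg.Agent.S1225.result M hSE u hu huM t (q * t * q⁻¹) hto (L.sylow_le ht) hqt
    (mul_mem (mul_mem (le_normalizer hq) (L.sylow_le ht)) (inv_mem (le_normalizer hq)))).1
  have hc : Commute (q⁻¹ * d) t := by
    show q⁻¹ * d * t = t * (q⁻¹ * d)
    rw [show q⁻¹ * d * t = q⁻¹ * (d * t * d⁻¹) * d by group, hdt]
    group
  have hdQ : d ∈ Q ⊔ (S : Subgroup G) := by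
    have h1 := L.cent_le_of ht ht1 hc (fun n hn hns' _ => mem_sup_left (L.cent_S hns' (hmove n hn hns')))
    simpa using mul_mem (mem_sup_left hq : q ∈ Q ⊔ (S : Subgroup G)) h1
  have hd1 : d = 1 := hDQ d hd ((L.mem_sup_cases hdQ).2 (Odd.of_dvd_nat hDodd (by
    rw [← orderOf_mk d hd]; exact _root_.orderOf_dvd_natCard _)))
  rw [hd1, one_mul, inv_one, mul_one] at hdt
  exact (mul_inv_eq_iff_eq_mul.1 hdt.symm).symm

end Setup

end Cfsg.Lib.CITExt.TwoS
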