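import Cfsg.Agent.CITExt.TwoS.Fusion
import Cfsg.Agent.S0346

/-!
If all elements of order `s` of the strongly embedded subgroup lie in `Q`, the group is a Zassenhaus group whose
degree is impossible.
-/

set_option autoImplicit false
set_option linter.unusedSectionVars false
set_option linter.style.haveILetI false

namespace Cfsg.Lib.CITExt.TwoS

open Subgroup Cfsg.Lib.CITGroups

universe u

variable {G : Type u} [Group G] [Finite G] {s : ℕ}

theorem smul_mk_eq_iff {H : Subgroup G} {g a b : G} :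
    g • (QuotientGroup.mk a : G ⧸ H) = QuotientGroup.mk b ↔ b⁻¹ * g * a ∈ H := by
  rw [MulAction.Quotient.smul_mk, smul_eq_mul, QuotientGroup.eq, ← inv_mem_iff,
    show ((g * a)⁻¹ * b)⁻¹ = b⁻¹ * g * a by group]

theorem fix_mk_one_iff {H : Subgroup G} {g : G} :
    g • (QuotientGroup.mk (1 : G) : G ⧸ H) = QuotientGroup.mk 1 ↔ g ∈ H := by
  rw [smul_mk_eq_iff, inv_one, one_mul, mul_one]

theorem self_inv_of_two {v : G} (hv : orderOf v = 2) : v⁻¹ = v :=
  inv_eq_of_mul_eq_one_right (by rw [← pow_two, ← hv, pow_orderOf_eq_one])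

namespace Setup

variable {S : Sylow 2 G} {Q : Subgroup G}

local notation "M" => normalizer (Q : Set G)

local notation "X0" => (QuotientGroup.mk (1 : G) : G ⧸ normalizer (Q : Set G))

/-- an involution maps the base point to any other point -/
theorem exists_involution_to (L : Setup s S Q) (hns : ¬ Group.IsSolvable G) (z : G ⧸ M) (hz : z ≠ X0) :
    ∃ v : G, orderOf v = 2 ∧ v ∉ M ∧ v • X0 = z := by
  induction z using QuotientGroup.induction_on with
  | H g =>
  obtain ⟨t, ht, ht1⟩ := L.exists_one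
  obtain ⟨v, hv, hvx, -, -⟩ := Cfsg.Lib.StrongEmb.exists_swap (L.strongly hns) (Ne.symm hz) (s := t)
    (t := g * t * g⁻¹) (L.hyp.order_S S ht ht1) (fix_mk_one_iff.2 (L.sylow_le ht))
    ((orderOf_conj' g t).trans (L.hyp.order_S S ht ht1))
    (smul_mk_eq_iff.2 (by
      rw [show g⁻¹ * (g * t * g⁻¹) * g = t by group]
      exact L.sylow_le ht))
  exact ⟨v, hv, fun e => hz (hvx.symm.trans (fix_mk_one_iff.2 e)), hvx⟩

theorem mem_two_iff {v g : G} :
    g ∈ Two' Q v ↔ g • X0 = X0 ∧ g • (QuotientGroup.mk v : G ⧸ M) = QuotientGroup.mk v := by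
  rw [fix_mk_one_iff, smul_mk_eq_iff]
  exact ⟨fun h => ⟨h.1, (Cfsg.Lib.StrongEmb.mem_conj_iff).1 h.2⟩,
    fun h => ⟨h.1, (Cfsg.Lib.StrongEmb.mem_conj_iff).2 h.2⟩⟩

section AllIn

variable (L : Setup s S Q) (hns : ¬ Group.IsSolvable G) (hall : ∀ y : G, y ∈ normalizer (Q : Set G) → y ^ s = 1 → y ∈ Q)
include L hns hall

theorem two_inf {v : G} (hvM : v ∉ M) {x : G} (hx : x ∈ Two' Q v) (hxQ : x ∈ Q ⊔ (S : Subgroup G)) : x = 1 := by
  have hQ : x ∈ Q := (L.mem_sup_cases hxQ).2 (L.pair_odd hns hvM hx)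
  refine L.ti hns hQ (g := v) (hall _ ((Cfsg.Lib.StrongEmb.mem_conj_iff).1 hx.2) ?_) hvM
  have := congrArg (MulAut.conj v⁻¹) (L.hyp.pow_of_mem L.inv.1 hQ)
  simpa [map_pow] using this

theorem two_card {v : G} (hv : orderOf v = 2) (hvM : v ∉ M) :
    Nat.card ↥(Two' Q v) = Nat.card {x : G // x ∈ (S : Subgroup G) ∧ x ≠ 1} := by
  rw [L.pair_card hns hv hvM, show Two' Q v ⊓ Q = ⊥ from eq_bot_iff.2 fun x hx =>
    mem_bot.2 (two_inf L hns hall hvM hx.1 (mem_sup_left hx.2)), Subgroup.card_bot, mul_one]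

/-- an involution moving the base point inverts the two-point stabiliser -/
theorem two_inverted {v : G} (hv : orderOf v = 2) (hvM : v ∉ M) {d : G} (hd : d ∈ Two' Q v) :
    v * d * v⁻¹ = d⁻¹ := by
  have hvi := self_inv_of_two hv
  have hne : (X0 : G ⧸ M) ≠ QuotientGroup.mk v := fun e => hvM (by simpa using QuotientGroup.eq.1 e)
  have hswap : ∀ w : {i : G // orderOf i = 2 ∧ i • X0 = (QuotientGroup.mk v : G ⧸ M)}, v * (w : G) ∈ Two' Q v := by
    rintro ⟨w, hw, hwx⟩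
    have hwM : v⁻¹ * w ∈ M := by
      have := smul_mk_eq_iff.1 hwx
      rwa [mul_one] at this
    have hwv : w * v ∈ M := by
      have := inv_mem hwM
      rwa [mul_inv_rev, inv_inv, self_inv_of_two hw] at this
    refine ⟨by have := hwM; rwa [hvi] at this, (Cfsg.Lib.StrongEmb.mem_conj_iff).2 ?_⟩
    show v⁻¹ * (v * w) * v ∈ M
    rwa [inv_mul_cancel_left]
  have hinj : Function.Injective fun w : {i : G // orderOf i = 2 ∧ i • X0 = (QuotientGroup.mk v : G ⧸ M)} =>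
      (⟨v * (w : G), hswap w⟩ : ↥(Two' Q v)) :=
    fun a b e => Subtype.ext (mul_left_cancel (congrArg Subtype.val e))
  have hb := (Nat.bijective_iff_injective_and_card _).2 ⟨hinj, by
    rw [Cfsg.Lib.StrongEmb.card_swap (L.strongly hns) _ _ hne, two_card L hns hall hv hvM]
    exact Nat.card_congr (Equiv.subtypeEquivRight fun x =>
      ⟨fun ⟨h1, h2⟩ => ⟨L.inv_mem_S hns h1 h2, fun e => by rw [e, orderOf_one] at h1; omega⟩,
        fun ⟨h1, h2⟩ => ⟨L.hyp.order_S S h1 h2, L.sylow_le h1⟩⟩)⟩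
  obtain ⟨⟨w, hw, hwx⟩, hwd⟩ := hb.2 ⟨d, hd⟩
  have e : v * w = d := congrArg Subtype.val hwd
  rw [← e, mul_inv_rev, self_inv_of_two hw, hvi, ← mul_assoc v v, show v * v = 1 from
    (congrArg (· * v) hvi.symm).trans (inv_mul_cancel v), one_mul]

theorem false_of_all_in [IsSimpleGroup G] : False := by
  classical
  haveI := Fact.mk L.hyp.prime
  haveI : Fact (Nat.Prime 2) := ⟨Nat.prime_two⟩
  have h := L.hyp
  obtain ⟨u, hu, huM⟩ := L.exists_outside hns
  have hu2 := self_inv_of_two hu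
  set D := Two' Q u with hD
  set K := Q ⊔ (S : Subgroup G) with hK
  set l := Nat.card {x : G // x ∈ (S : Subgroup G) ∧ x ≠ 1} with hl
  have hl3 : 3 ≤ l := by
    have h4 := L.four
    rw [← card_nonidentity] at h4
    omega
  have hDc : Nat.card ↥D = l := two_card L hns hall hu huM
  have hKM : K ≤ M := sup_le le_normalizer L.sylow_le
  have hKn : ∀ m ∈ M, ∀ k ∈ K, m * k * m⁻¹ ∈ K := by
    intro m hm k hk
    have : K ≤ K.comap (MulAut.conj m).toMonoidHom := sup_le (fun q hq => mem_sup_left (nrm_conj hm hq))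
      (fun t ht => mem_sup_right (L.normal_S hns hm ht))
    exact this hk
  have hDK : ∀ x ∈ D, x ∈ K → x = 1 := fun x hx hxK => two_inf L hns hall huM hx hxK
  have hDM : D ≤ M := inf_le_left
  obtain ⟨t, ht, ht1⟩ := L.exists_one
  have hdec : ∀ m ∈ M, ∃ d ∈ D, ∃ k ∈ K, m = d * k := by
    intro m hm
    obtain ⟨d, hd, hdt⟩ := L.pair_trans hns hu huM ht ht1 (L.normal_S hns hm ht)
      (fun e => ht1 (conj_eq_one_iff.1 e))
    refine ⟨d, hd, d⁻¹ * m, L.cent_le_QS hns ht ht1 (mul_inv_eq_iff_eq_mul.1 ?_), by group⟩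
    rw [show d⁻¹ * m * t * (d⁻¹ * m)⁻¹ = d⁻¹ * (m * t * m⁻¹) * d by group, ← hdt]
    group
  -- no element of `D` fixes an element of `QS`
  have hpr : ∀ d ∈ D, d ≠ 1 → ∃ r : ℕ, r.Prime ∧ r ∣ orderOf d ∧ r ≠ 2 ∧ r ≠ s := by
    intro d hd hd1
    obtain ⟨r, hr, hrd⟩ := Nat.exists_prime_and_dvd (fun e => hd1 (orderOf_eq_one_iff.1 e))
    refine ⟨r, hr, hrd, fun e => ?_, fun e => ?_⟩
    · exact Nat.not_even_iff_odd.2 (L.pair_odd hns huM hd) (even_iff_two_dvd.2 (e ▸ hrd))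
    · subst e
      have hd' := pow_mem hd (orderOf d / r)
      have ho : orderOf (d ^ (orderOf d / r)) = r := orderOf_pow_orderOf_div (orderOf_pos d).ne' hrd
      have h1 := hDK _ hd' (mem_sup_left (hall _ (hDM hd') (by rw [← orderOf_dvd_iff_pow_eq_one, ho])))
      rw [h1, orderOf_one] at ho
      exact hr.one_lt.ne ho
  have hKord : ∀ x ∈ K, x ≠ 1 → ∃ n : ℕ, orderOf (x ^ n) = 2 ∨ orderOf (x ^ n) = s := by
    intro x hx hx1
    have hx2 := (L.mem_sup_cases hx).1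
    rcases eq_or_ne (x ^ 2) 1 with e | e
    · exact ⟨1, Or.inl (by rw [pow_one]; exact orderOf_eq_prime e hx1)⟩
    · exact ⟨2, Or.inr (h.order_s L.inv.1 hx2 e)⟩
  have hfree : ∀ d ∈ D, d ≠ 1 → ∀ x ∈ K, Commute d x → x = 1 := by
    intro d hd hd1 x hx hc
    by_contra hx1
    obtain ⟨r, hr, hrd, hr2, hrs⟩ := hpr d hd hd1
    obtain ⟨n, hn⟩ := hKord x hx hx1
    exact h.not_comm hr hr2 hrs (orderOf_pow_orderOf_div (orderOf_pos d).ne' hrd) hn (hc.pow_pow _ _)
  obtain ⟨d₀, hd₀, hd₀1⟩ : ∃ d ∈ D, d ≠ 1 := (Subgroup.bot_or_exists_ne_one D).resolve_left fun e => by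
    rw [e, Subgroup.card_bot] at hDc
    omega
  have hcop : (Nat.card ↥K).Coprime (Nat.card ↥D) := by
    refine Nat.coprime_of_dvd fun r hr hrK hrD => ?_
    haveI := Fact.mk hr
    obtain ⟨⟨x, hx⟩, hxr⟩ := exists_prime_orderOf_dvd_card' (G := ↥K) r hrK
    obtain ⟨⟨d, hd⟩, hdr⟩ := exists_prime_orderOf_dvd_card' (G := ↥D) r hrD
    rw [orderOf_mk] at hxr hdr
    have hx1 : x ≠ 1 := fun e => hr.one_lt.ne (by rw [← hxr, e, orderOf_one])
    have hd1 : d ≠ 1 := fun e => hr.one_lt.ne (by rw [← hdr, e, orderOf_one])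
    obtain ⟨r', hr', hrd', hr2, hrs⟩ := hpr d hd hd1
    rw [hdr, Nat.prime_dvd_prime_iff_eq hr' hr] at hrd'
    subst hrd'
    obtain ⟨n, hn | hn⟩ := hKord x hx hx1
    · exact hr2 (((Nat.prime_dvd_prime_iff_eq Nat.prime_two hr).1 (hn ▸ hxr ▸ orderOf_pow_dvd n)).symm)
    · exact hrs (((Nat.prime_dvd_prime_iff_eq h.prime hr).1 (hn ▸ hxr ▸ orderOf_pow_dvd n)).symm)
  -- conjugacy of complements
  have hcompl : ∀ D' : Subgroup G, D' ≤ M → Nat.card ↥D' = l →
      ∃ x ∈ K, ∀ z : G, z ∈ D' ↔ x⁻¹ * z * x ∈ D := by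
    intro D' hD' hcard
    obtain ⟨x, hx, e⟩ := Cfsg.Lib.Coprime.exists_conj_eq_of_coprime (N := K) (H := D) (K := D')
      (fun d hd => mem_nrm (hKn d (hDM hd))) hcop
      (Or.inr (Cfsg.Agent.PF.isSolvable_of_odd _ ((L.strongly hns).2.2 u huM))) (fun m hm => by
        obtain ⟨d, hd, k, hk, rfl⟩ := hdec m (hD' hm)
        exact mul_mem (mem_sup_right hd) (mem_sup_left hk)) (hcard.trans hDc.symm)
    exact ⟨x, hx, fun z => e ▸ Cfsg.Lib.Coprime.mem_conjMap⟩
  set Y0 : G ⧸ M := QuotientGroup.mk u with hY0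
  have hne0 : Y0 ≠ X0 := fun e => huM (by simpa using inv_mem (QuotientGroup.eq.1 e))
  -- the fixed points of `D`
  set F : Set (G ⧸ M) := {x | ∀ d ∈ D, d • x = x} with hF
  have hX0F : (X0 : G ⧸ M) ∈ F := fun d hd => ((mem_two_iff).1 hd).1
  have hY0F : Y0 ∈ F := fun d hd => ((mem_two_iff).1 hd).2
  set N := normalizer (D : Set G) with hN
  have htwo : ∀ v : G, orderOf v = 2 → v ∉ M → (QuotientGroup.mk v : G ⧸ M) ∈ F → Two' Q v = D := by
    intro v hv hvM hvF
    refine (Subgroup.eq_of_le_of_card_ge (fun d hd => mem_two_iff.2 ⟨hX0F d hd, hvF d hd⟩) ?_).symm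
    rw [hDc, two_card L hns hall hv hvM]
  have horb : MulAction.orbit ↥N (X0 : G ⧸ M) = F := by
    ext z
    constructor
    · rintro ⟨⟨n, hn⟩, rfl⟩ d hd
      have hd' : n⁻¹ * d * n ∈ D := by simpa using nrm_conj (inv_mem hn) hd
      show d • n • (X0 : G ⧸ M) = n • X0
      conv_rhs => rw [← hX0F _ hd']
      rw [smul_smul, smul_smul]
      congr 1
      group
    · intro hz
      induction z using QuotientGroup.induction_on with
      | H g =>
      have hg : ∀ d ∈ D, g⁻¹ * d * g ∈ M := fun d hd => smul_mk_eq_iff.1 (hz d hd)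
      obtain ⟨x, hx, hxD⟩ := hcompl (D.map (MulAut.conj g⁻¹).toMonoidHom)
        (by rintro _ ⟨d, hd, rfl⟩; simpa using hg d hd)
        (by rw [Subgroup.card_map_of_injective (MulAut.conj g⁻¹).injective, hDc])
      refine ⟨⟨g * x, mem_nrm fun d hd => ?_⟩, ?_⟩
      · have h1 : x⁻¹ * (g⁻¹ * d * g) * x ∈ D := (hxD _).1 ⟨d, hd, by simp⟩
        have h2 : x⁻¹ * g⁻¹ ∈ N := mem_nrm fun e he => by
          have := (hxD (g⁻¹ * e * g)).1 ⟨e, he, by simp⟩
          simpa [mul_assoc] using this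
        simpa [mul_assoc] using nrm_conj (inv_mem h2) hd
      · show (g * x) • (QuotientGroup.mk 1 : G ⧸ M) = QuotientGroup.mk g
        rw [smul_mk_eq_iff]
        simpa using hKM hx
  have hstab : Nat.card ↥(MulAction.stabilizer ↥N (X0 : G ⧸ M)) = l := by
    rw [← hDc]
    refine Nat.card_congr
      { toFun := fun n => ⟨((n : ↥N) : G), ?_⟩
        invFun := fun d => ⟨⟨(d : G), le_normalizer d.2⟩, hX0F d d.2⟩
        left_inv := fun n => rfl
        right_inv := fun d => rfl }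
    obtain ⟨d, hd, k, hk, e⟩ := hdec _ (fix_mk_one_iff.1 (n.2 : ((n : ↥N) : G) • (X0 : G ⧸ M) = X0))
    have hkN : k ∈ N := by
      have : k = d⁻¹ * ((n : ↥N) : G) := eq_inv_mul_of_mul_eq e.symm
      rw [this]
      exact mul_mem (inv_mem (le_normalizer hd)) (n : ↥N).2
    have hk1 : k = 1 := hfree d₀ hd₀ hd₀1 k hk (mul_inv_eq_iff_eq_mul.1 (by
      have h1 : d₀ * k * d₀⁻¹ * k⁻¹ = 1 := hDK _
        (by
          rw [show d₀ * k * d₀⁻¹ * k⁻¹ = d₀ * (k * d₀⁻¹ * k⁻¹) by group]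
          exact mul_mem hd₀ (nrm_conj hkN (inv_mem hd₀)))
        (mul_mem (hKn d₀ (hDM hd₀) k hk) (inv_mem hk))
      exact mul_inv_eq_one.1 h1))
    have e' : ((n : ↥N) : G) = d := e.trans (by rw [hk1, mul_one])
    rw [e']
    exact hd
  set f := F.ncard with hf
  have hNcard : Nat.card ↥N = f * l := by
    rw [← Subgroup.index_mul_card (MulAction.stabilizer ↥N (X0 : G ⧸ M)), MulAction.index_stabilizer, horb, hstab]
  -- the centraliser of `D`
  set C := centralizer (D : Set G) with hC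
  have hCN : C ≤ N := fun c hc => mem_nrm fun d hd => by
    rw [← mem_centralizer_iff.1 hc d hd, mul_inv_cancel_right]
    exact hd
  have huD : ∀ d ∈ D, u * d * u⁻¹ = d⁻¹ := fun d hd => two_inverted L hns hall hu huM hd
  have huN : u ∈ N := mem_nrm fun d hd => huD d hd ▸ inv_mem hd
  have huC : u ∉ C := by
    intro hc
    have h1 := huD d₀ hd₀
    rw [← mem_centralizer_iff.1 hc d₀ hd₀, mul_inv_cancel_right] at h1
    refine hd₀1 (orderOf_eq_one_iff.1 ?_)
    have h2 : orderOf d₀ ∣ 2 := orderOf_dvd_of_pow_eq_one (by rw [pow_two]; nth_rw 2 [h1]; exact mul_inv_cancel _)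
    rcases (Nat.dvd_prime Nat.prime_two).1 h2 with e | e
    · exact e
    · exact absurd (L.pair_odd hns huM hd₀) (by rw [e]; decide)
  have h2C : 2 * Nat.card ↥C ≤ Nat.card ↥N := by
    rw [two_mul, ← Nat.card_sum]
    refine Nat.card_le_card_of_injective (Sum.elim (fun c => (⟨c, hCN c.2⟩ : ↥N))
      fun c => ⟨u * c, mul_mem huN (hCN c.2)⟩) ?_
    rintro (a | a) (b | b) e <;> have e' := congrArg Subtype.val e <;> simp only [Sum.elim_inl, Sum.elim_inr] at e'
    · exact congrArg Sum.inl (Subtype.ext e')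
    · exact absurd (show u ∈ C from (eq_mul_inv_of_mul_eq e'.symm) ▸ mul_mem a.2 (inv_mem b.2)) huC
    · exact absurd (show u ∈ C from (eq_mul_inv_of_mul_eq e') ▸ mul_mem b.2 (inv_mem a.2)) huC
    · exact congrArg Sum.inr (Subtype.ext (mul_left_cancel e'))
  have hsw : (f - 1) * l ≤ Nat.card ↥C := by
    have hcard : Nat.card (Σ y : ↥(F \ {(X0 : G ⧸ M)}), {i : G // orderOf i = 2 ∧ i • (X0 : G ⧸ M) = y}) =
        (f - 1) * l := by
      haveI : Fintype ↥(F \ {(X0 : G ⧸ M)}) := Fintype.ofFinite _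
      have hterm : ∀ y : ↥(F \ {(X0 : G ⧸ M)}),
          Nat.card {i : G // orderOf i = 2 ∧ i • (X0 : G ⧸ M) = (y : G ⧸ M)} = l := fun y => by
        have hy : (y : G ⧸ M) ≠ X0 := y.2.2
        rw [Cfsg.Lib.StrongEmb.card_swap (L.strongly hns) (X0 : G ⧸ M) (y : G ⧸ M) (Ne.symm hy)]
        exact Nat.card_congr (Equiv.subtypeEquivRight fun x =>
          ⟨fun ⟨h1, h2⟩ => ⟨L.inv_mem_S hns h1 h2, fun e => by rw [e, orderOf_one] at h1; omega⟩,
            fun ⟨h1, h2⟩ => ⟨h.order_S S h1 h2, L.sylow_le h1⟩⟩)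
      rw [Nat.card_sigma, Finset.sum_congr rfl (fun y _ => hterm y), Finset.sum_const, smul_eq_mul, Finset.card_univ,
        ← Nat.card_eq_fintype_card, Nat.card_coe_set_eq, Set.ncard_sdiff_singleton_of_mem hX0F]
    rw [← hcard]
    refine Nat.card_le_card_of_injective (fun p => (⟨u * (p.2 : G), ?_⟩ : ↥C)) ?_
    · obtain ⟨⟨y, hyF, hy⟩, v, hv, hvy⟩ := p
      have hvM : v ∉ M := fun e => hy (hvy.symm.trans (fix_mk_one_iff.2 e))
      have hvm : (QuotientGroup.mk v : G ⧸ M) = y := by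
        rw [MulAction.Quotient.smul_mk, smul_eq_mul, mul_one] at hvy
        exact hvy
      have hvD := htwo v hv hvM (hvm ▸ hyF)
      refine mem_centralizer_iff.2 fun d hd => (mul_inv_eq_iff_eq_mul.1 ?_).symm
      rw [show u * v * d * (u * v)⁻¹ = u * (v * d * v⁻¹) * u⁻¹ by group,
        two_inverted L hns hall hv hvM (hvD.symm ▸ hd : d ∈ Two' Q v), show u * d⁻¹ * u⁻¹ = (u * d * u⁻¹)⁻¹ by group,
        huD d hd, inv_inv]
    · rintro ⟨⟨y, hy⟩, v, hv, hvy⟩ ⟨⟨y', hy'⟩, v', hv', hvy'⟩ e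
      obtain rfl : v = v' := mul_left_cancel (congrArg Subtype.val e)
      obtain rfl : y = y' := hvy.symm.trans hvy'
      rfl
  have hf2 : f ≤ 2 := by
    have h1 : 2 * ((f - 1) * l) ≤ f * l := by rw [← hNcard]; omega
    by_contra hlt
    have h3 : (f + 1) * l ≤ 2 * (f - 1) * l := Nat.mul_le_mul_right l (by omega)
    rw [add_mul, one_mul] at h3
    rw [← mul_assoc] at h1
    omega
  have hFeq : ∀ z ∈ F, z = X0 ∨ z = Y0 := by
    intro z hz
    by_contra hcon
    push Not at hcon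
    have hsub : ({(X0 : G ⧸ M), Y0, z} : Set (G ⧸ M)) ⊆ F := by
      rintro _ (rfl | rfl | rfl)
      exacts [hX0F, hY0F, hz]
    have := Set.ncard_le_ncard hsub (Set.toFinite _)
    rw [Set.ncard_eq_three.2 ⟨_, _, _, hne0.symm, Ne.symm hcon.1, Ne.symm hcon.2, rfl⟩] at this
    omega
  -- the stabiliser of the base point is transitive on the others
  have htrans : ∀ z : G ⧸ M, z ≠ X0 → ∃ k ∈ K, k • Y0 = z := by
    intro z hz
    obtain ⟨v, hv, hvM, hvx⟩ := L.exists_involution_to hns z hz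
    obtain ⟨x, hx, hxD⟩ := hcompl (Two' Q v) inf_le_left (two_card L hns hall hv hvM)
    have hvz : (QuotientGroup.mk v : G ⧸ M) = z := by
      rw [← hvx, MulAction.Quotient.smul_mk, smul_eq_mul, mul_one]
    have hF' : x⁻¹ • z ∈ F := fun d hd => by
      have h1 : x * d * x⁻¹ ∈ Two' Q v := (hxD _).2 (by simpa [mul_assoc] using hd)
      have h2 := ((mem_two_iff).1 h1).2
      rw [hvz] at h2
      rw [eq_inv_smul_iff, smul_smul, smul_smul, h2]
    refine ⟨x, hx, ?_⟩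
    rcases hFeq _ hF' with e | e
    · exact absurd (by rw [← smul_inv_smul x z, e]; exact fix_mk_one_iff.2 (hKM hx)) hz
    · rw [← e, smul_inv_smul]
  have hKinj : ∀ k ∈ K, k • Y0 = Y0 → k = 1 := fun k hk e =>
    hDK k (mem_two_iff.2 ⟨fix_mk_one_iff.2 (hKM hk), e⟩) hk
  have hpre : MulAction.IsMultiplyPretransitive G (G ⧸ M) 2 := by
    rw [MulAction.is_two_pretransitive_iff]
    have key : ∀ a b : G ⧸ M, a ≠ b → ∃ g : G, g • (X0 : G ⧸ M) = a ∧ g • Y0 = b := by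
      intro a b hab
      obtain ⟨g, hg⟩ := MulAction.exists_smul_eq G (X0 : G ⧸ M) a
      have hb : g⁻¹ • b ≠ (X0 : G ⧸ M) := fun e => hab (by rw [← hg, ← e, smul_inv_smul])
      obtain ⟨k, hk, hkb⟩ := htrans _ hb
      refine ⟨g * k, ?_, ?_⟩
      · rw [mul_smul, fix_mk_one_iff.2 (hKM hk), hg]
      · rw [mul_smul, hkb, smul_inv_smul]
    intro a b c d hab hcd
    obtain ⟨g, hga, hgb⟩ := key a b hab
    obtain ⟨g', hgc, hgd⟩ := key c d hcd
    exact ⟨g' * g⁻¹, by rw [mul_smul, ← hga, inv_smul_smul, hgc], by rw [mul_smul, ← hgb, inv_smul_smul, hgd]⟩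
  have hthree : ∀ g : G, ∀ a b c : G ⧸ M, a ≠ b → b ≠ c → a ≠ c → g • a = a → g • b = b → g • c = c → g = 1 := by
    intro g a b c hab hbc hac ha hb hc
    obtain ⟨m, hma, hmb⟩ := (MulAction.is_two_pretransitive_iff.1 hpre) hne0.symm hab
    have hc0 : m⁻¹ • c ≠ (X0 : G ⧸ M) := fun e => hac (by rw [← hma, ← e, smul_inv_smul])
    obtain ⟨k, hk, hkc⟩ := htrans _ hc0
    set g' := m⁻¹ * g * m with hg'
    have h1 : g' • (X0 : G ⧸ M) = X0 := by rw [hg', mul_smul, mul_smul, hma, ha, ← hma, inv_smul_smul]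
    have h2 : g' • Y0 = Y0 := by rw [hg', mul_smul, mul_smul, hmb, hb, ← hmb, inv_smul_smul]
    have h3 : g' • k • Y0 = k • Y0 := by rw [hkc, hg', mul_smul, mul_smul, smul_inv_smul, hc]
    have hgD : g' ∈ D := mem_two_iff.2 ⟨h1, h2⟩
    have hgD' : k⁻¹ * g' * k ∈ D := mem_two_iff.2
      ⟨fix_mk_one_iff.2 (mul_mem (mul_mem (inv_mem (hKM hk)) (hDM hgD)) (hKM hk)),
        by rw [mul_smul, mul_smul, h3, inv_smul_smul]⟩
    have hk1 : k ≠ 1 := fun e => hbc (by
      rw [e, one_smul] at hkc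
      rw [← hmb, hkc, smul_inv_smul])
    have hg1 : g' = 1 := by
      by_contra hne
      refine hk1 (hfree g' hgD hne k hk ?_)
      have h4 : g'⁻¹ * (k⁻¹ * g' * k) = 1 := hDK _ (mul_mem (inv_mem hgD) hgD') (by
        rw [show g'⁻¹ * (k⁻¹ * g' * k) = (g'⁻¹ * k⁻¹ * g'⁻¹⁻¹) * k by group]
        exact mul_mem (hKn _ (inv_mem (hDM hgD)) _ (inv_mem hk)) hk)
      rw [inv_mul_eq_one] at h4
      show g' * k = k * g'
      nth_rw 2 [h4]
      group
    have e : g = m * g' * m⁻¹ := by rw [hg']; group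
    rw [e, hg1, mul_one, mul_inv_cancel]
  -- the degree
  haveI : Fintype (G ⧸ M) := Fintype.ofFinite _
  have hdeg : Fintype.card (G ⧸ M) - 1 = Nat.card ↥K := by
    rw [← Nat.card_eq_fintype_card, ← Set.ncard_univ, ← Set.ncard_sdiff_singleton_of_mem (Set.mem_univ (X0 : G ⧸ M)),
      ← Nat.card_coe_set_eq]
    refine (Nat.card_eq_of_bijective (fun k : ↥K =>
      (⟨(k : G) • Y0, Set.mem_univ _, fun e => hne0 (smul_left_cancel (k : G)
        ((Set.mem_singleton_iff.1 e).trans (fix_mk_one_iff.2 (hKM k.2)).symm))⟩ :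
          ↥(Set.univ \ {(X0 : G ⧸ M)}))) ⟨?_, ?_⟩).symm
    · intro a b e
      have e' : (a : G) • Y0 = (b : G) • Y0 := congrArg Subtype.val e
      refine Subtype.ext (inv_mul_eq_one.1 (hKinj _ (mul_mem (inv_mem a.2) b.2) ?_))
      rw [mul_smul, ← e', inv_smul_smul]
    · rintro ⟨z, -, hz⟩
      obtain ⟨k, hk, e⟩ := htrans z hz
      exact ⟨⟨k, hk⟩, Subtype.ext e⟩
  have hK3 : 2 ≤ Nat.card ↥K := by
    have h1 : Nat.card ↥(S : Subgroup G) ≤ Nat.card ↥K := Subgroup.card_le_of_le le_sup_right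
    have := L.four
    omega
  have hMtop : M ≠ ⊤ := L.ne_top hns
  have hfaith : FaithfulSMul G (G ⧸ M) := ⟨fun {g g'} hgg => by
    obtain ⟨⟨k, hk⟩, hk1⟩ : ∃ k : ↥K, k ≠ 1 := by
      haveI : Nontrivial ↥K := Finite.one_lt_card_iff_nontrivial.1 (by omega)
      exact exists_ne _
    refine (inv_mul_eq_one.1 ?_).symm
    have hfix : ∀ z : G ⧸ M, (g'⁻¹ * g) • z = z := fun z => by rw [mul_smul, hgg z, inv_smul_smul]
    refine hthree _ X0 Y0 (k • Y0) hne0.symm (fun e => hk1 (Subtype.ext (hKinj k hk e.symm))) (fun e => ?_)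
      (hfix _) (hfix _) (hfix _)
    exact hne0 (smul_left_cancel k (e.symm.trans (fix_mk_one_iff.2 (hKM hk)).symm))⟩
  have hZ : Cfsg.IsZassenhausGroup G (G ⧸ M) := ⟨hfaith, hpre, hthree,
    ⟨d₀, hd₀1, X0, Y0, hne0.symm, hX0F d₀ hd₀, hY0F d₀ hd₀⟩, fun N' hN' hpre' => by
      refine ⟨X0, fun e => ?_⟩
      rcases hN'.eq_bot_or_eq_top with rfl | rfl
      · obtain ⟨⟨n, hn⟩, hne⟩ := hpre'.exists_smul_eq (X0 : G ⧸ M) Y0
        have : n = 1 := mem_bot.1 hn
        subst this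
        exact hne0 (hne.symm.trans (one_smul G (X0 : G ⧸ M)))
      · refine hd₀1 ?_
        have : (⟨d₀, mem_top _⟩ : ↥(⊤ : Subgroup G)) ∈ MulAction.stabilizer _ (X0 : G ⧸ M) := hX0F d₀ hd₀
        exact congrArg Subtype.val (mem_bot.1 (e.le this))⟩
  have hpp := Cfsg.Agent.S0346.result hZ
  rw [hdeg] at hpp
  obtain ⟨p, hp, hpuniq⟩ := isPrimePow_iff_unique_prime_dvd.1 hpp
  have h2 : 2 ∣ Nat.card ↥K := by
    rw [← L.hyp.order_S S ht ht1, ← orderOf_mk t (show t ∈ K from mem_sup_right ht)]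
    exact _root_.orderOf_dvd_natCard _
  have h3 : s ∣ Nat.card ↥K := by
    obtain ⟨q, hq, hq1⟩ := (Subgroup.bot_or_exists_ne_one Q).resolve_left L.ne
    rw [← h.order_s L.inv.1 hq hq1, ← orderOf_mk q (show q ∈ K from mem_sup_left hq)]
    exact _root_.orderOf_dvd_natCard _
  exact h.ne_two ((hpuniq s ⟨h.prime, h3⟩).trans (hpuniq 2 ⟨Nat.prime_two, h2⟩).symm)

end AllIn

/-- There is no strongly embedded configuration in a simple group. -/
theorem false_of_setup (L : Setup s S Q) [IsSimpleGroup G] (hns : ¬ Group.IsSolvable G) : False := by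
  have hperf : commutator G = ⊤ := by
    refine (Subgroup.commutator_normal (⊤ : Subgroup G) ⊤).eq_bot_or_eq_top.resolve_left fun e => hns ?_
    exact ⟨1, by rw [derivedSeries_one]; exact e⟩
  by_cases hmove : ∃ n ∈ normalizer ((S : Subgroup G) : Set G), n ^ s = 1 ∧ ¬ ∀ k ∈ (S : Subgroup G), Commute n k
  · obtain ⟨n, hn, hns', hm⟩ := hmove
    exact L.false_of_moving hns hperf (L.moving_data hns hn hns' hm).1
  push Not at hmove
  refine false_of_all_in L hns fun y hy hys => ?_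
  obtain ⟨q, hq, n, hn, hns', rfl⟩ := L.split hy hys
  exact mul_mem hq (L.cent_S hns' (hmove n hn hns'))

end Setup

end Cfsg.Lib.CITExt.TwoS
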