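import Cfsg.Agent.CITExt.TwoS.NoCore
import Cfsg.Agent.CITExt.TwoS.Zassenhaus

/-!
Without odd cores the degree of the action on the conjugates of the Sylow 2-subgroup is one more than its order,
and `s = 3`.
-/

set_option autoImplicit false
set_option linter.unusedSectionVars false
set_option linter.style.haveILetI false

namespace Cfsg.Lib.CITExt.TwoS

open Subgroup Cfsg.Lib.CITGroups

universe u

variable {G : Type u} [Group G] [Finite G] {s : ℕ}

/-- a fixed-point-free involution inverts -/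
theorem inv_of_fpf {K : Subgroup G} {v : G} (hv : v * v = 1) (hvK : ∀ k ∈ K, v * k * v⁻¹ ∈ K)
    (hfix : ∀ k ∈ K, Commute v k → k = 1) : ∀ k ∈ K, v * k * v⁻¹ = k⁻¹ := by
  intro k hk
  let f : ↥K → ↥K := fun x => ⟨(x : G)⁻¹ * (v * x * v⁻¹), K.mul_mem (K.inv_mem x.2) (hvK x x.2)⟩
  have hf : Function.Injective f := by
    intro x y e
    have e' : (x : G)⁻¹ * (v * x * v⁻¹) = (y : G)⁻¹ * (v * y * v⁻¹) := congrArg Subtype.val e
    refine Subtype.ext (mul_inv_eq_one.1 (hfix _ (K.mul_mem y.2 (K.inv_mem x.2)) (mul_inv_eq_iff_eq_mul.1 ?_))).symm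
    calc v * ((y : G) * (x : G)⁻¹) * v⁻¹ = (v * y * v⁻¹) * (v * x * v⁻¹)⁻¹ := by group
      _ = (y : G) * ((y : G)⁻¹ * (v * y * v⁻¹)) * ((x : G)⁻¹ * (v * x * v⁻¹))⁻¹ * (x : G)⁻¹ := by group
      _ = (y : G) * (x : G)⁻¹ := by rw [e']; group
  obtain ⟨x, hx⟩ := (Finite.injective_iff_surjective.1 hf) ⟨k, hk⟩
  have hx' : (x : G)⁻¹ * (v * x * v⁻¹) = k := congrArg Subtype.val hx
  rw [← hx', show v * ((x : G)⁻¹ * (v * x * v⁻¹)) * v⁻¹ = (v * (x : G)⁻¹ * v⁻¹) * ((v * v) * x * (v * v)⁻¹) by group,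
    hv]
  group

namespace NoCore

variable {S : Sylow 2 G}

local notation "NS" => normalizer ((S : Subgroup G) : Set G)

set_option maxHeartbeats 1600000 in
/-- the degree count -/
theorem three_data (B : NoCore s S) (hex : ∃ g : G, orderOf g = 2 * s) :
    s = 3 ∧ (∀ P : Subgroup G, P ≤ NS → IsPGroup s ↥P → Nat.card ↥P ≤ 3) ∧
      (∃ c : G, orderOf c = 3 ∧ ∃ t : G, orderOf t = 2 ∧ Commute c t) ∧
      ∀ c : G, orderOf c = 3 → (∃ t : G, orderOf t = 2 ∧ Commute c t) →
        Nat.card ↥(centralizer ({c} : Set G)) ≤ 18 ∧ ∀ g : G, g * c * g⁻¹ ≠ c⁻¹ := by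
  classical
  haveI : Fact (Nat.Prime 2) := ⟨Nat.prime_two⟩
  haveI := Fact.mk B.hyp.prime
  have h := B.hyp
  have hSE := B.strongly
  obtain ⟨L, t₁, y, hLN, hSL, hLn, hLidx, hLc, hsl, hyN, hys, ht₁, ht₁1, hyt, hyfix⟩ := B.local_data hex
  set l := Nat.card {x : G // x ∈ (S : Subgroup G) ∧ x ≠ 1} with hl
  have hl7 : 7 ≤ l := by
    have h8 := B.eight
    rw [← card_nonidentity] at h8
    omega
  have hlodd : Odd l := by
    obtain ⟨i, hi⟩ := IsPGroup.iff_card.1 S.2
    have h1 := card_nonidentity (S : Subgroup G)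
    rw [hi] at h1
    rcases i with _ | i
    · rw [pow_zero] at h1; omega
    exact ⟨2 ^ i - 1, by rw [pow_succ] at h1; have := Nat.two_pow_pos i; omega⟩
  have hSodd : ¬ s ∣ Nat.card ↥(S : Subgroup G) := fun hd => by
    obtain ⟨i, hi⟩ := IsPGroup.iff_card.1 S.2
    rw [hi] at hd
    exact h.ne_two ((Nat.prime_dvd_prime_iff_eq h.prime Nat.prime_two).1 (h.prime.dvd_of_dvd_pow hd))
  have hLs : ¬ s ∣ Nat.card ↥L := by
    rw [hLc]
    exact fun hd => (h.prime.dvd_mul.1 hd).elim hSodd hsl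
  have hNcard : Nat.card ↥NS = s * (Nat.card ↥(S : Subgroup G) * l) := by
    rw [← hLc, ← Subgroup.index_mul_card (L.subgroupOf NS), ← Nat.card_congr (subgroupOfEquivOfLe hLN).toEquiv]
    exact congrArg (· * _) hLidx
  -- the `s`-subgroups
  have hsmall : ∀ P : Subgroup G, P ≤ NS → IsPGroup s ↥P → Nat.card ↥P ≤ s := by
    intro P hP hPs
    obtain ⟨i, hi⟩ := IsPGroup.iff_card.1 hPs
    have hd : s ^ i ∣ s * Nat.card ↥L := by rw [hLc, ← hNcard, ← hi]; exact Subgroup.card_dvd_of_le hP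
    rcases i with _ | _ | i
    · rw [hi, pow_zero]; exact h.prime.one_lt.le
    · rw [hi, pow_one]
    · rw [pow_succ', pow_succ'] at hd
      exact absurd ((dvd_mul_right s (s ^ i)).trans ((Nat.mul_dvd_mul_iff_left h.prime.pos).1 hd)) hLs
  haveI hLnormal : (L.subgroupOf NS).Normal := ⟨fun x hx g => hLn g g.2 x hx⟩
  have hinL : ∀ x ∈ NS, ¬ s ∣ orderOf x → x ∈ L := by
    intro x hx hs'
    have h1 : orderOf (QuotientGroup.mk' (L.subgroupOf NS) ⟨x, hx⟩) ∣ orderOf x := by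
      rw [← orderOf_mk x hx]; exact orderOf_map_dvd _ _
    have h2 : orderOf (QuotientGroup.mk' (L.subgroupOf NS) ⟨x, hx⟩) ∣ s := by
      rw [← hLidx]; exact _root_.orderOf_dvd_natCard _
    rcases (Nat.dvd_prime h.prime).1 h2 with e | e
    · exact mem_subgroupOf.1 ((QuotientGroup.eq_one_iff _).1 (orderOf_eq_one_iff.1 e))
    · exact absurd (e ▸ h1) hs'
  -- all elements of order `s` commuting with an involution of `S` are conjugate to powers of `y`
  have hsylow : ∀ c ∈ NS, orderOf c = s → ∃ m ∈ NS, m * c * m⁻¹ ∈ zpowers y := by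
    intro c hc hco
    have hz : ∀ x : G, ∀ hx : x ∈ NS, orderOf x = s → ∃ P : Sylow s ↥NS,
        (P : Subgroup ↥NS) = zpowers (⟨x, hx⟩ : ↥NS) := by
      intro x hx hxo
      obtain ⟨P, hP⟩ := (IsPGroup.of_card (p := s) (n := 1) (by rw [Nat.card_zpowers, orderOf_mk, hxo, pow_one]) :
        IsPGroup s ↥(zpowers (⟨x, hx⟩ : ↥NS))).exists_le_sylow
      refine ⟨P, (Subgroup.eq_of_le_of_card_ge hP ?_).symm⟩
      rw [Nat.card_zpowers, orderOf_mk, hxo, ← Subgroup.card_map_of_injective (NS).subtype_injective]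
      exact hsmall _ (map_subtype_le _) (P.2.map _)
    obtain ⟨P, hP⟩ := hz c hc hco
    obtain ⟨P', hP'⟩ := hz y hyN hys
    obtain ⟨m, hm⟩ := MulAction.exists_smul_eq ↥NS P P'
    refine ⟨m, m.2, ?_⟩
    have h1 : m * ⟨c, hc⟩ * m⁻¹ ∈ (P' : Subgroup ↥NS) := by
      rw [← hm, Sylow.coe_subgroup_smul]
      exact ⟨⟨c, hc⟩, hP ▸ mem_zpowers _, rfl⟩
    rw [hP'] at h1
    obtain ⟨i, hi⟩ := mem_zpowers_iff.1 h1
    exact mem_zpowers_iff.2 ⟨i, by have := congrArg Subtype.val hi; simpa using this⟩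
  -- semiregularity
  have hsemi : ∀ x ∈ L, Odd (orderOf x) → ∀ a ∈ (S : Subgroup G), a ≠ 1 → Commute x a → x = 1 := by
    intro x hx ho a ha ha1 hc
    have h1 := h.order_dvd (h.order_S S ha ha1) hc
    have h2 : orderOf x ∣ Nat.card ↥L := by rw [← orderOf_mk x hx]; exact _root_.orderOf_dvd_natCard _
    have h3 : (orderOf x).Coprime (2 * s) :=
      Nat.Coprime.mul_right (Nat.coprime_two_right.2 ho)
        ((h.prime.coprime_iff_not_dvd.2 fun hd => hLs (hd.trans h2)).symm)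
    exact orderOf_eq_one_iff.1 (h3.eq_one_of_dvd h1)
  have hconj : ∀ D₁ D₂ : Subgroup G, D₁ ≤ L → D₂ ≤ L → Nat.card ↥D₁ = l → Nat.card ↥D₂ = l →
      ∃ a ∈ (S : Subgroup G), ∀ z : G, z ∈ D₂ ↔ a⁻¹ * z * a ∈ D₁ := by
    intro D₁ D₂ h₁ h₂ c₁ c₂
    have hn : D₁ ≤ normalizer ((S : Subgroup G) : Set G) := h₁.trans hLN
    have hcop : (Nat.card ↥(S : Subgroup G)).Coprime (Nat.card ↥D₁) := by
      obtain ⟨i, hi⟩ := IsPGroup.iff_card.1 S.2
      rw [hi, c₁]
      exact Nat.Coprime.pow_left _ (Nat.coprime_two_left.2 hlodd)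
    have hinf : ((S : Subgroup G) ⊓ D₁ : Subgroup G) = ⊥ :=
      inf_eq_bot_of_coprime hcop
    have hsup : (S : Subgroup G) ⊔ D₁ = L := by
      refine Subgroup.eq_of_le_of_card_ge (sup_le hSL h₁) ?_
      have h4 := Cfsg.Lib.Coprime.card_sup_mul_card_inf (H := D₁) (N := (S : Subgroup G)) hn
      rw [hinf, Subgroup.card_bot, mul_one, c₁] at h4
      rw [hLc, h4]
    obtain ⟨a, ha, e⟩ := Cfsg.Lib.Coprime.exists_conj_eq_of_coprime (N := (S : Subgroup G)) (H := D₁) (K := D₂)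
      hn hcop (Or.inl (by
        haveI := S.2.isNilpotent
        infer_instance)) (hsup.symm ▸ h₂) (c₂.trans c₁.symm)
    exact ⟨a, ha, fun z => e ▸ Cfsg.Lib.Coprime.mem_conjMap⟩
  -- the part of a two-point stabiliser inside `L`
  have hpair : ∀ v : G, orderOf v = 2 → v ∉ NS →
      Nat.card ↥(Two' (S : Subgroup G) v ⊓ L) = l ∧
        ∀ k ∈ Two' (S : Subgroup G) v ⊓ L, v * k * v⁻¹ = k⁻¹ := by
    intro v hv hvN
    set D := Two' (S : Subgroup G) v with hD
    have hDodd : Odd (Nat.card ↥D) := hSE.2.2 v hvN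
    have hrel : (centralizer ({t₁} : Set G)).relIndex D = l :=
      relIndex_centralizer _ (fun d hd => ⟨nrm_conj hd.1 ht₁, fun e => ht₁1 (conj_eq_one_iff.1 e)⟩)
        fun z ⟨hz, hz1⟩ => (Cfsg.Agent.S1225.result NS hSE v hv hvN t₁ z (h.order_S S ht₁ ht₁1) (le_normalizer ht₁)
          (h.order_S S hz hz1) (le_normalizer hz)).1
    obtain ⟨e, he, hle⟩ : ∃ e, e ∣ s ∧ Nat.card ↥D = l * e := by
      refine ⟨Nat.card ↥((centralizer ({t₁} : Set G)).subgroupOf D), ?_, ?_⟩
      · rw [← Subgroup.card_map_of_injective D.subtype_injective, subgroupOf_map_subtype]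
        have hs' : IsPGroup s ↥(centralizer ({t₁} : Set G) ⊓ D : Subgroup G) :=
          IsPGroup.of_card (Nat.eq_prime_pow_of_unique_prime_dvd Nat.card_pos.ne' fun {q} hq hqd => by
            refine (h.primes_cent (K := centralizer ({t₁} : Set G) ⊓ D) (Or.inl (h.order_S S ht₁ ht₁1))
              (fun k hk => mem_centralizer_singleton_iff.1 hk.1) hq hqd).resolve_left fun e => ?_
            subst e
            exact Nat.not_even_iff_odd.2 (Odd.of_dvd_nat hDodd (Subgroup.card_dvd_of_le inf_le_right))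
              (even_iff_two_dvd.2 hqd))
        have h5 : Nat.card ↥(centralizer ({t₁} : Set G) ⊓ D : Subgroup G) ≤ s :=
          hsmall _ (inf_le_right.trans (inf_le_left : D ≤ NS)) hs'
        obtain ⟨i, hi⟩ := IsPGroup.iff_card.1 hs'
        rw [hi] at h5 ⊢
        rcases i with _ | _ | i
        · rw [pow_zero]; exact one_dvd _
        · rw [pow_one]
        · exfalso
          have h6 : s ^ 2 ≤ s ^ (i + 2) := Nat.pow_le_pow_right h.prime.pos (by omega)
          have := h.prime.two_le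
          nlinarith
      · rw [← hrel]
        exact (Subgroup.index_mul_card _).symm
    set D' := D ⊓ L with hD'
    have hmul : L.relIndex D * Nat.card ↥D' = l * e := by
      rw [← hle, hD', inf_comm, ← subgroupOf_map_subtype, Subgroup.card_map_of_injective D.subtype_injective]
      exact Subgroup.index_mul_card _
    have hr : L.relIndex D ∣ s := by
      have hDN : D ≤ NS := inf_le_left
      rw [← hLidx, ← Subgroup.relIndex_subgroupOf (H := L) hDN]
      exact Subgroup.relIndex_dvd_index_of_normal (L.subgroupOf NS) _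
    have hD's : ¬ s ∣ Nat.card ↥D' := fun hd => hLs (hd.trans (Subgroup.card_dvd_of_le inf_le_right))
    have hcard : Nat.card ↥D' = l := by
      rcases (Nat.dvd_prime h.prime).1 he with rfl | rfl <;> rcases (Nat.dvd_prime h.prime).1 hr with e' | e' <;>
        rw [e'] at hmul
      · simpa using hmul
      · exact absurd ⟨Nat.card ↥D', by rw [hmul, mul_one]⟩ hsl
      · exact absurd ⟨l, by rw [one_mul] at hmul; rw [hmul, mul_comm]⟩ hD's
      · exact Nat.eq_of_mul_eq_mul_left h.prime.pos (hmul.trans (mul_comm _ _))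
    refine ⟨hcard, inv_of_fpf (by rw [← pow_two, ← hv, pow_orderOf_eq_one]) (fun k hk => ?_) fun k hk hc => ?_⟩
    · have hvi := self_inv_of_two hv
      have hkD : v * k * v⁻¹ ∈ D := ⟨by
        have := (Cfsg.Lib.StrongEmb.mem_conj_iff).1 hk.1.2
        rw [hvi] at this ⊢
        exact this, ⟨k, hk.1.1, rfl⟩⟩
      refine ⟨hkD, hinL _ hkD.1 ?_⟩
      rw [orderOf_conj']
      exact fun hd => hLs (hd.trans (by rw [← orderOf_mk k hk.2]; exact _root_.orderOf_dvd_natCard _))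
    · have h1 := h.order_dvd hv hc.symm
      have h2 : orderOf k ∣ l := by
        rw [← hcard, ← orderOf_mk k hk]
        exact _root_.orderOf_dvd_natCard _
      have h3 : l.Coprime (2 * s) :=
        Nat.Coprime.mul_right (Nat.coprime_two_right.2 hlodd) ((h.prime.coprime_iff_not_dvd.2 hsl).symm)
      exact orderOf_eq_one_iff.1 (Nat.Coprime.eq_one_of_dvd (h3.coprime_dvd_left h2) h1)
  obtain ⟨u, hu, huN⟩ : ∃ u : G, orderOf u = 2 ∧ u ∉ NS := by
    by_contra hcon
    push Not at hcon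
    refine B.ne_top (eq_top_iff.2 fun g _ => Cfsg.Lib.StrongEmb.conj_eq hSE (h.order_S S ht₁ ht₁1)
      (le_normalizer ht₁) (hcon _ ?_))
    rw [orderOf_conj', h.order_S S ht₁ ht₁1]
  set K := Two' (S : Subgroup G) u ⊓ L with hK
  obtain ⟨hKc, hKu⟩ := hpair u hu huN
  rw [← hK] at hKc
  have hKL : K ≤ L := inf_le_right
  have hKodd : ∀ k ∈ K, Odd (orderOf k) := fun k hk => Odd.of_dvd_nat hlodd (by
    rw [← hKc, ← orderOf_mk k hk]; exact _root_.orderOf_dvd_natCard _)
  set X0 : G ⧸ NS := QuotientGroup.mk (1 : G) with hX0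
  set Y0 : G ⧸ NS := QuotientGroup.mk u with hY0
  have hne0 : Y0 ≠ X0 := fun e => huN (by simpa using inv_mem (QuotientGroup.eq.1 e))
  set F : Set (G ⧸ NS) := {x | ∀ d ∈ K, d • x = x} with hF
  have hX0F : X0 ∈ F := fun d hd => ((Setup.mem_two_iff).1 hd.1).1
  have hY0F : Y0 ∈ F := fun d hd => ((Setup.mem_two_iff).1 hd.1).2
  set N := normalizer (K : Set G) with hNdef
  have hinv_to : ∀ z : G ⧸ NS, z ≠ X0 → ∃ v : G, orderOf v = 2 ∧ v ∉ NS ∧ (QuotientGroup.mk v : G ⧸ NS) = z := by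
    intro z hz
    induction z using QuotientGroup.induction_on with
    | H g =>
    obtain ⟨v, hv, hvx, -, -⟩ := Cfsg.Lib.StrongEmb.exists_swap hSE (Ne.symm hz) (s := t₁)
      (t := g * t₁ * g⁻¹) (h.order_S S ht₁ ht₁1) (fix_mk_one_iff.2 (le_normalizer ht₁))
      ((orderOf_conj' g t₁).trans (h.order_S S ht₁ ht₁1))
      (smul_mk_eq_iff.2 (by
        rw [show g⁻¹ * (g * t₁ * g⁻¹) * g = t₁ by group]
        exact le_normalizer ht₁))
    rw [MulAction.Quotient.smul_mk, smul_eq_mul, mul_one] at hvx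
    exact ⟨v, hv, fun e => hz (hvx.symm.trans (QuotientGroup.eq.2 (by simpa using inv_mem e))), hvx⟩
  have horb : MulAction.orbit ↥N X0 = F := by
    ext z
    constructor
    · rintro ⟨⟨n, hn⟩, rfl⟩ d hd
      have hd' : n⁻¹ * d * n ∈ K := by simpa using nrm_conj (inv_mem hn) hd
      show d • n • X0 = n • X0
      conv_rhs => rw [← hX0F _ hd']
      rw [smul_smul, smul_smul]
      congr 1
      group
    · intro hz
      induction z using QuotientGroup.induction_on with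
      | H g =>
      have hg : ∀ d ∈ K, g⁻¹ * d * g ∈ NS := fun d hd => smul_mk_eq_iff.1 (hz d hd)
      obtain ⟨x, hx, hxK⟩ := hconj K (K.map (MulAut.conj g⁻¹).toMonoidHom) hKL
        (by
          rintro _ ⟨d, hd, rfl⟩
          refine hinL _ (by simpa using hg d hd) ?_
          rw [MulEquiv.coe_toMonoidHom, MulEquiv.orderOf_eq]
          exact fun hs' => hsl (hs'.trans (by rw [← hKc, ← orderOf_mk d hd]; exact _root_.orderOf_dvd_natCard _)))
        hKc (by rw [Subgroup.card_map_of_injective (MulAut.conj g⁻¹).injective, hKc])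
      refine ⟨⟨g * x, mem_nrm fun d hd => ?_⟩, ?_⟩
      · have h2 : x⁻¹ * g⁻¹ ∈ N := mem_nrm fun e he => by
          have := (hxK (g⁻¹ * e * g)).1 ⟨e, he, by simp⟩
          simpa [mul_assoc] using this
        simpa [mul_assoc] using nrm_conj (inv_mem h2) hd
      · show (g * x) • (QuotientGroup.mk 1 : G ⧸ NS) = QuotientGroup.mk g
        rw [smul_mk_eq_iff]
        simpa using le_normalizer hx
  -- the normaliser of `K` in `N(S)`
  have hfrat : ∀ m ∈ NS, ∃ a ∈ (S : Subgroup G), a⁻¹ * m ∈ N := by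
    intro m hm
    obtain ⟨a, ha, haK⟩ := hconj K (K.map (MulAut.conj m).toMonoidHom) hKL
      (by rintro _ ⟨d, hd, rfl⟩; exact hLn m hm d (hKL hd)) hKc
      (by rw [Subgroup.card_map_of_injective (MulAut.conj m).injective, hKc])
    refine ⟨a, ha, mem_nrm fun d hd => ?_⟩
    have := (haK (m * d * m⁻¹)).1 ⟨d, hd, rfl⟩
    simpa [mul_assoc] using this
  have hSN : ∀ a ∈ (S : Subgroup G), a ∈ N → a = 1 := by
    intro a ha haN
    by_contra ha1
    obtain ⟨k, hk, hk1⟩ := (Subgroup.bot_or_exists_ne_one K).resolve_left fun e => by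
      rw [e, Subgroup.card_bot] at hKc
      omega
    refine hk1 (hsemi k (hKL hk) (hKodd k hk) a ha ha1 ?_)
    have h1 : a * k * a⁻¹ * k⁻¹ ∈ K := K.mul_mem (nrm_conj haN hk) (K.inv_mem hk)
    have h2 : a * k * a⁻¹ * k⁻¹ ∈ (S : Subgroup G) := by
      rw [show a * k * a⁻¹ * k⁻¹ = a * (k * a⁻¹ * k⁻¹) by group]
      exact mul_mem ha (nrm_conj (hLN (hKL hk)) (inv_mem ha))
    have h3 := eq_one_of_two_odd (two_of_mem S.2 h2) (hKodd _ h1)
    rw [mul_inv_eq_one, mul_inv_eq_iff_eq_mul] at h3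
    exact h3.symm
  set J := N ⊓ NS with hJ
  have hJcard : Nat.card ↥J = s * l := by
    have h1 := Cfsg.Lib.Coprime.card_sup_mul_card_inf (H := J) (N := (S : Subgroup G)) inf_le_right
    rw [show ((S : Subgroup G) ⊓ J : Subgroup G) = ⊥ from eq_bot_iff.2 fun a ha => mem_bot.2 (hSN a ha.1 ha.2.1),
      Subgroup.card_bot, mul_one,
      show (S : Subgroup G) ⊔ J = NS from le_antisymm (sup_le le_normalizer inf_le_right) fun m hm => by
        obtain ⟨a, ha, han⟩ := hfrat m hm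
        rw [← mul_inv_cancel_left a m]
        exact mul_mem (mem_sup_left ha) (mem_sup_right (T := J) ⟨han, mul_mem ((NS).inv_mem (le_normalizer ha)) hm⟩), hNcard,
      mul_left_comm] at h1
    exact (Nat.eq_of_mul_eq_mul_left Nat.card_pos h1).symm
  have hKJ : K ≤ J := le_inf le_normalizer (hKL.trans hLN)
  set C := centralizer (K : Set G) with hC
  have hCN : C ≤ N := fun c hc => mem_nrm fun d hd => by
    rw [← mem_centralizer_iff.1 hc d hd, mul_inv_cancel_right]
    exact hd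
  have huC : ∀ k ∈ K, u * k * u⁻¹ = k⁻¹ := fun k hk => hKu k hk
  have hKab : ∀ a ∈ K, ∀ b ∈ K, Commute a b := by
    intro a ha b hb
    have h1 := huC (a * b) (K.mul_mem ha hb)
    rw [show u * (a * b) * u⁻¹ = (u * a * u⁻¹) * (u * b * u⁻¹) by group, huC a ha, huC b hb] at h1
    show a * b = b * a
    have h2 := congrArg (fun z => z⁻¹) h1
    simpa using h2.symm
  have hJC : Nat.card ↥(C ⊓ J : Subgroup G) = l := by
    rw [← hKc]
    have hle : C ⊓ J ≤ J ⊓ L := fun c hc => ⟨hc.2, hinL c hc.2.2 fun hd => by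
      obtain ⟨⟨k, hk⟩, hk1⟩ : ∃ k : ↥K, k ≠ 1 := by
        haveI : Nontrivial ↥K := Finite.one_lt_card_iff_nontrivial.1 (by omega)
        exact exists_ne _
      have hk1' : k ≠ 1 := fun e => hk1 (Subtype.ext e)
      obtain ⟨r, hr, hrd⟩ := Nat.exists_prime_and_dvd (fun e => hk1' (orderOf_eq_one_iff.1 e))
      have hrl : r ∣ l := hrd.trans (by rw [← hKc, ← orderOf_mk k hk]; exact _root_.orderOf_dvd_natCard _)
      refine h.not_comm hr (fun e => Nat.not_even_iff_odd.2 hlodd (even_iff_two_dvd.2 (e ▸ hrl)))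
        (fun e => hsl (e ▸ hrl)) (orderOf_pow_orderOf_div (orderOf_pos k).ne' hrd)
        (Or.inr (orderOf_pow_orderOf_div (orderOf_pos c).ne' hd))
        (((show Commute k c from mem_centralizer_iff.1 hc.1 k hk).pow_pow _ _))⟩
    have hJL : Nat.card ↥(J ⊓ L : Subgroup G) ≤ Nat.card ↥K := by
      have h1 := Cfsg.Lib.Coprime.card_sup_mul_card_inf (H := J ⊓ L) (N := (S : Subgroup G))
        (inf_le_left.trans inf_le_right)
      rw [show ((S : Subgroup G) ⊓ (J ⊓ L) : Subgroup G) = ⊥ from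
        eq_bot_iff.2 fun a ha => mem_bot.2 (hSN a ha.1 ha.2.1.1), Subgroup.card_bot, mul_one] at h1
      have h2 := Subgroup.card_le_of_le (sup_le hSL inf_le_right : (S : Subgroup G) ⊔ (J ⊓ L) ≤ L)
      rw [h1, hLc] at h2
      rw [hKc]
      exact Nat.le_of_mul_le_mul_left h2 Nat.card_pos
    refine le_antisymm ((Subgroup.card_le_of_le hle).trans hJL) (Subgroup.card_le_of_le (le_inf (fun k hk =>
      mem_centralizer_iff.2 fun k' hk' => (hKab k' hk' k hk).eq) hKJ))
  have hJCn : J ≤ normalizer (C : Set G) := fun j hj => mem_nrm fun c hc => mem_centralizer_iff.2 fun k hk => by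
    have h1 := mem_centralizer_iff.1 hc (j⁻¹ * k * j) (by simpa using nrm_conj (inv_mem hj.1) hk)
    calc k * (j * c * j⁻¹) = j * ((j⁻¹ * k * j) * c) * j⁻¹ := by group
      _ = j * (c * (j⁻¹ * k * j)) * j⁻¹ := by rw [h1]
      _ = j * c * j⁻¹ * k := by group
  have hXcard : Nat.card ↥(C ⊔ J) = s * Nat.card ↥C := by
    have h1 := Cfsg.Lib.Coprime.card_sup_mul_card_inf (H := J) (N := C) hJCn
    rw [hJC, hJcard, ← mul_assoc, mul_comm (Nat.card ↥C) s] at h1
    exact Nat.eq_of_mul_eq_mul_right (by omega) h1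
  have huX : u ∉ C ⊔ J := by
    intro hmem
    rw [← SetLike.mem_coe, coe_mul_of_right_le_normalizer_left _ _ hJCn] at hmem
    obtain ⟨c, hc, j, hj, e⟩ := hmem
    obtain ⟨k, hk, hk1⟩ := (Subgroup.bot_or_exists_ne_one K).resolve_left fun e => by
      rw [e, Subgroup.card_bot] at hKc
      omega
    have hjk : ∀ z ∈ K, j * z * j⁻¹ = z⁻¹ := fun z hz => by
      have h1 := huC z hz
      rw [← e, show c * j * z * (c * j)⁻¹ = c * (j * z * j⁻¹) * c⁻¹ by group,
        ← mem_centralizer_iff.1 hc _ (nrm_conj hj.1 hz), mul_inv_cancel_right] at h1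
      exact h1
    have hjodd : Odd (orderOf j) := Odd.of_dvd_nat (hJcard ▸ h.odd_s.mul hlodd)
      (by rw [← orderOf_mk j hj]; exact _root_.orderOf_dvd_natCard _)
    have hc2 : Commute (j ^ 2) k := by
      refine mul_inv_eq_iff_eq_mul.1 ?_
      rw [pow_two, show j * j * k * (j * j)⁻¹ = j * (j * k * j⁻¹) * j⁻¹ by group, hjk k hk,
        show j * k⁻¹ * j⁻¹ = (j * k * j⁻¹)⁻¹ by group, hjk k hk, inv_inv]
    obtain ⟨i, hi⟩ := hjodd
    have e' : j = ((j ^ 2) ^ i)⁻¹ := by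
      refine eq_inv_of_mul_eq_one_right ?_
      rw [← pow_mul, ← pow_succ, ← hi, pow_orderOf_eq_one]
    have hjc : Commute j k := by rw [e']; exact (hc2.pow_left i).inv_left
    have h2 := hjk k hk
    rw [hjc.eq, mul_inv_cancel_right] at h2
    refine hk1 (eq_one_of_two_odd ?_ (hKodd k hk))
    obtain ⟨i', -, hi'⟩ := (Nat.dvd_prime_pow Nat.prime_two).1 (show orderOf k ∣ 2 ^ 1 by
      rw [pow_one]
      exact orderOf_dvd_of_pow_eq_one (by rw [pow_two]; nth_rw 2 [h2]; exact mul_inv_cancel _))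
    exact ⟨i', hi'⟩
  set f := F.ncard with hf
  have hNc : Nat.card ↥N = f * (s * l) := by
    rw [← Subgroup.index_mul_card (MulAction.stabilizer ↥N X0), MulAction.index_stabilizer, horb, ← hJcard]
    congr 1
    exact Nat.card_congr
      { toFun := fun n => ⟨((n : ↥N) : G), (n : ↥N).2, fix_mk_one_iff.1 n.2⟩
        invFun := fun d => ⟨⟨(d : G), d.2.1⟩, fix_mk_one_iff.2 d.2.2⟩
        left_inv := fun n => rfl
        right_inv := fun d => rfl }
  have huN' : u ∈ N := mem_nrm fun d hd => huC d hd ▸ inv_mem hd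
  have hCJN : C ⊔ J ≤ N := sup_le hCN inf_le_left
  have h2X : 2 * Nat.card ↥(C ⊔ J) ≤ Nat.card ↥N := by
    rw [two_mul, ← Nat.card_sum]
    refine Nat.card_le_card_of_injective (Sum.elim (fun c => (⟨c, hCJN c.2⟩ : ↥N))
      fun c => ⟨u * c, mul_mem huN' (hCJN c.2)⟩) ?_
    rintro (a | a) (b | b) e <;> have e' := congrArg Subtype.val e <;> simp only [Sum.elim_inl, Sum.elim_inr] at e'
    · exact congrArg Sum.inl (Subtype.ext e')
    · exact absurd (show u ∈ C ⊔ J from (eq_mul_inv_of_mul_eq e'.symm) ▸ mul_mem a.2 (inv_mem b.2)) huX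
    · exact absurd (show u ∈ C ⊔ J from (eq_mul_inv_of_mul_eq e') ▸ mul_mem b.2 (inv_mem a.2)) huX
    · exact congrArg Sum.inr (Subtype.ext (mul_left_cancel e'))
  have hsw : (f - 1) * l ≤ Nat.card ↥C := by
    have hcard : Nat.card (Σ y : ↥(F \ {X0}), {i : G // orderOf i = 2 ∧ i • X0 = y}) = (f - 1) * l := by
      haveI : Fintype ↥(F \ {X0}) := Fintype.ofFinite _
      have hterm : ∀ y : ↥(F \ {X0}), Nat.card {i : G // orderOf i = 2 ∧ i • X0 = (y : G ⧸ NS)} = l := fun y => by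
        have hy : (y : G ⧸ NS) ≠ X0 := y.2.2
        rw [Cfsg.Lib.StrongEmb.card_swap hSE X0 (y : G ⧸ NS) (Ne.symm hy)]
        exact Nat.card_congr (Equiv.subtypeEquivRight fun x =>
          ⟨fun ⟨h1, h2⟩ => ⟨B.inv_in_S h1 h2, fun e => by rw [e, orderOf_one] at h1; omega⟩,
            fun ⟨h1, h2⟩ => ⟨h.order_S S h1 h2, le_normalizer h1⟩⟩)
      rw [Nat.card_sigma, Finset.sum_congr rfl (fun y _ => hterm y), Finset.sum_const, smul_eq_mul, Finset.card_univ,
        ← Nat.card_eq_fintype_card, Nat.card_coe_set_eq, Set.ncard_sdiff_singleton_of_mem hX0F]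
    rw [← hcard]
    refine Nat.card_le_card_of_injective (fun p => (⟨u * (p.2 : G), ?_⟩ : ↥C)) ?_
    · obtain ⟨⟨z, hzF, hz⟩, v, hv, hvz⟩ := p
      have hvN : v ∉ NS := fun e => hz (hvz.symm.trans (fix_mk_one_iff.2 e))
      have hvm : (QuotientGroup.mk v : G ⧸ NS) = z := by
        have hvz' : (QuotientGroup.mk (v • (1 : G)) : G ⧸ NS) = z :=
          (MulAction.Quotient.smul_mk NS v (1 : G)).symm.trans hvz
        rw [smul_eq_mul, mul_one] at hvz'
        exact hvz'
      obtain ⟨hc', hinv'⟩ := hpair v hv hvN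
      have hKv : K = Two' (S : Subgroup G) v ⊓ L := Subgroup.eq_of_le_of_card_ge (fun d hd =>
        ⟨Setup.mem_two_iff.2 ⟨hX0F d hd, by rw [hvm]; exact hzF d hd⟩, hKL hd⟩) (by rw [hc', hKc])
      refine mem_centralizer_iff.2 fun d hd => (mul_inv_eq_iff_eq_mul.1 ?_).symm
      rw [show u * v * d * (u * v)⁻¹ = u * (v * d * v⁻¹) * u⁻¹ by group,
        hinv' d (hKv ▸ hd), show u * d⁻¹ * u⁻¹ = (u * d * u⁻¹)⁻¹ by group, huC d hd, inv_inv]
    · rintro ⟨⟨z, hz⟩, v, hv, hvz⟩ ⟨⟨z', hz'⟩, v', hv', hvz'⟩ e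
      obtain rfl : v = v' := mul_left_cancel (congrArg Subtype.val e)
      obtain rfl : z = z' := hvz.symm.trans hvz'
      rfl
  have hf2 : f ≤ 2 := by
    have h1 : 2 * (s * ((f - 1) * l)) ≤ f * (s * l) := by
      rw [← hNc]
      refine le_trans ?_ h2X
      rw [hXcard]
      exact Nat.mul_le_mul_left 2 (Nat.mul_le_mul_left s hsw)
    have h2 : 2 * (f - 1) * (s * l) ≤ f * (s * l) := by
      rw [show 2 * (f - 1) * (s * l) = 2 * (s * ((f - 1) * l)) by ring]
      exact h1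
    have := Nat.le_of_mul_le_mul_right h2 (Nat.mul_pos h.prime.pos (by omega))
    omega
  have hFeq : ∀ z ∈ F, z = X0 ∨ z = Y0 := by
    intro z hz
    by_contra hcon
    push Not at hcon
    have hsub : ({X0, Y0, z} : Set (G ⧸ NS)) ⊆ F := by
      rintro _ (rfl | rfl | rfl)
      exacts [hX0F, hY0F, hz]
    have := Set.ncard_le_ncard hsub (Set.toFinite _)
    rw [Set.ncard_eq_three.2 ⟨_, _, _, hne0.symm, Ne.symm hcon.1, Ne.symm hcon.2, rfl⟩] at this
    omega
  -- `S` is regular on the other points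
  have htrans : ∀ z : G ⧸ NS, z ≠ X0 → ∃ a ∈ (S : Subgroup G), a • Y0 = z := by
    intro z hz
    obtain ⟨v, hv, hvN, hvz⟩ := hinv_to z hz
    obtain ⟨x, hx, hxK⟩ := hconj K (Two' (S : Subgroup G) v ⊓ L) hKL inf_le_right hKc (hpair v hv hvN).1
    have hF' : x⁻¹ • z ∈ F := fun d hd => by
      have h1 : x * d * x⁻¹ ∈ Two' (S : Subgroup G) v ⊓ L := (hxK _).2 (by simpa [mul_assoc] using hd)
      have h2 := ((Setup.mem_two_iff).1 h1.1).2
      rw [hvz] at h2
      rw [eq_inv_smul_iff, smul_smul, smul_smul, h2]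
    refine ⟨x, hx, ?_⟩
    rcases hFeq _ hF' with e | e
    · exact absurd (by rw [← smul_inv_smul x z, e]; exact fix_mk_one_iff.2 (le_normalizer hx)) hz
    · rw [← e, smul_inv_smul]
  have hSinj : ∀ a ∈ (S : Subgroup G), a • Y0 = Y0 → a = 1 := by
    intro a ha e
    have hmem : a ∈ Two' (S : Subgroup G) u := Setup.mem_two_iff.2 ⟨fix_mk_one_iff.2 (le_normalizer ha), e⟩
    exact eq_one_of_two_odd (two_of_mem S.2 ha) (Odd.of_dvd_nat (hSE.2.2 u huN) (by
      rw [← orderOf_mk a hmem]; exact _root_.orderOf_dvd_natCard _))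
  -- an element of order `s` with two fixed points
  set D := Two' (S : Subgroup G) u with hD
  obtain ⟨d, hdD, hds⟩ : ∃ d ∈ D, orderOf d = s := by
    have hy' : y • Y0 ≠ X0 := fun e => hne0 (smul_left_cancel y (e.trans (fix_mk_one_iff.2 hyN).symm))
    obtain ⟨a, ha, he⟩ := htrans _ hy'
    have hmem : a⁻¹ * y ∈ D := Setup.mem_two_iff.2
      ⟨fix_mk_one_iff.2 (mul_mem (inv_mem (le_normalizer ha)) hyN), by rw [mul_smul, ← he, inv_smul_smul]⟩
    have hd : s ∣ orderOf (a⁻¹ * y) := by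
      by_contra hd
      have h1 := mul_mem (hSL ha) (hinL _ (mul_mem (inv_mem (le_normalizer ha)) hyN) hd)
      rw [mul_inv_cancel_left] at h1
      exact hLs (hys ▸ (by rw [← orderOf_mk y h1]; exact _root_.orderOf_dvd_natCard _))
    exact ⟨_, pow_mem hmem (orderOf (a⁻¹ * y) / s), orderOf_pow_orderOf_div (orderOf_pos _).ne' hd⟩
  have hdN : d ∈ NS := hdD.1
  -- centralised involutions
  have hfixS : ∀ c ∈ NS, orderOf c = s → ∃ t ∈ (S : Subgroup G), t ≠ 1 ∧ Commute c t ∧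
      ∀ a ∈ (S : Subgroup G), Commute c a → a = 1 ∨ a = t := by
    intro c hc hco
    obtain ⟨m, hm, hmc⟩ := hsylow c hc hco
    set c' := m * c * m⁻¹ with hc'
    obtain ⟨i, hi⟩ := mem_zpowers_iff.1 hmc
    have hy' : y ∈ zpowers c' := by
      have hle : zpowers c' ≤ zpowers y := zpowers_le.2 hmc
      rw [Subgroup.eq_of_le_of_card_ge hle (by
        rw [Nat.card_zpowers, Nat.card_zpowers, hys, hc', orderOf_conj', hco])]
      exact mem_zpowers y
    have hback : ∀ a : G, Commute c a ↔ Commute y (m * a * m⁻¹) := by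
      intro a
      constructor
      · intro hca
        obtain ⟨j, hj⟩ := mem_zpowers_iff.1 hy'
        rw [← hj]
        exact (commute_conj hca).zpow_left j
      · intro hya
        have h1 : Commute c' (m * a * m⁻¹) := hi ▸ hya.zpow_left i
        have h2 := commute_conj (g := m⁻¹) h1
        simpa [hc', mul_assoc] using h2
    refine ⟨m⁻¹ * t₁ * m⁻¹⁻¹, nrm_conj (inv_mem hm) ht₁, fun e => ht₁1 (conj_eq_one_iff.1 e),
      (hback _).2 (by simpa [mul_assoc] using hyt), fun a ha hca => ?_⟩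
    rcases hyfix _ (nrm_conj hm ha) ((hback a).1 hca) with e | e
    · exact Or.inl (conj_eq_one_iff.1 e)
    · exact Or.inr (by rw [← e]; group)
  obtain ⟨t, ht, ht1, hdt, hdfix⟩ := hfixS d hdN hds
  have hd1 : d ≠ 1 := fun e => h.prime.one_lt.ne (by rw [← hds, e, orderOf_one])
  set Cd := centralizer ({d} : Set G) with hCd
  -- the centraliser of `d` in `N(S)`
  have hCdN : Nat.card ↥(NS ⊓ Cd : Subgroup G) ≤ 2 * s := by
    have hgen : NS ⊓ Cd ≤ zpowers t ⊔ zpowers d := by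
      intro x hx
      have hxd : Commute x d := mem_centralizer_singleton_iff.1 hx.2
      have hxt : Commute x t := by
        refine mul_inv_eq_iff_eq_mul.1 ?_
        refine (hdfix _ (nrm_conj hx.1 ht) ?_).resolve_left fun e => ht1 (conj_eq_one_iff.1 e)
        have := commute_conj (g := x) hdt
        rwa [show x * d * x⁻¹ = d by rw [hxd.eq, mul_inv_cancel_right]] at this
      obtain ⟨h1, h2⟩ := B.parts ht ht1 hxt
      have h3 : x ^ 2 ∈ zpowers d := by
        have hP : IsPGroup s ↥(zpowers d ⊔ zpowers (x ^ 2)) :=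
          (h.zpowers_sgroup (hds ▸ pow_orderOf_eq_one d)).to_sup_of_normal_left' (h.zpowers_sgroup h2)
            (zpowers_le.2 (mem_nrm fun z hz => by
              obtain ⟨j, rfl⟩ := mem_zpowers_iff.1 hz
              rw [(((hxd.pow_left 2)).zpow_right j).eq, mul_inv_cancel_right]
              exact hz))
        rw [Subgroup.eq_of_le_of_card_ge (le_sup_left : zpowers d ≤ _)
          ((hsmall _ (sup_le (zpowers_le.2 hdN) (zpowers_le.2 (pow_mem hx.1 2))) hP).trans
            (by rw [Nat.card_zpowers, hds]))]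
        exact mem_sup_right (mem_zpowers _)
      have h4 : x ^ s ∈ zpowers t := by
        rcases hdfix _ h1 (hxd.symm.pow_right s) with e | e <;> rw [e]
        · exact one_mem _
        · exact mem_zpowers t
      obtain ⟨j, hj⟩ := h.odd_s
      have e : x = x ^ s * ((x ^ 2) ^ j)⁻¹ := by rw [hj, ← pow_mul, pow_succ']; group
      rw [e]
      exact mul_mem (mem_sup_left h4) (mem_sup_right (inv_mem (pow_mem h3 j)))
    refine (Subgroup.card_le_of_le hgen).trans ?_
    have h1 := Cfsg.Lib.Coprime.card_sup_mul_card_inf (H := zpowers d) (N := zpowers t) (zpowers_le.2 (mem_nrm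
      fun z hz => by
        obtain ⟨j, rfl⟩ := mem_zpowers_iff.1 hz
        rw [(hdt.zpow_right j).eq, mul_inv_cancel_right]
        exact hz))
    rw [Nat.card_zpowers, Nat.card_zpowers, h.order_S S ht ht1, hds] at h1
    rw [← h1]
    exact Nat.le_mul_of_pos_right _ Nat.card_pos
  -- its fixed points
  have hdX : d • X0 = X0 := fix_mk_one_iff.2 hdN
  have hdY : d • Y0 = Y0 := ((Setup.mem_two_iff).1 hdD).2
  set Z0 := t • Y0 with hZ0
  have hfix3 : ∀ z : G ⧸ NS, d • z = z → z = X0 ∨ z = Y0 ∨ z = Z0 := by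
    intro z hz
    rcases eq_or_ne z X0 with e | e
    · exact Or.inl e
    obtain ⟨a, ha, rfl⟩ := htrans z e
    have h1 : a⁻¹ * (d * a * d⁻¹) = 1 := hSinj _ (mul_mem (inv_mem ha) (nrm_conj hdN ha)) (by
      rw [mul_smul, mul_smul, mul_smul, inv_smul_eq_iff.2 hdY.symm, hz, inv_smul_smul])
    rw [inv_mul_eq_one] at h1
    rcases hdfix a ha (mul_inv_eq_iff_eq_mul.1 h1.symm) with e' | e' <;> rw [e']
    · exact Or.inr (Or.inl (one_smul G Y0))
    · exact Or.inr (Or.inr rfl)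
  have hZX : Z0 ≠ X0 := fun e => hne0 (smul_left_cancel t (e.trans (fix_mk_one_iff.2 (le_normalizer ht)).symm))
  have hZY : Z0 ≠ Y0 := fun e => ht1 (hSinj t ht e)
  have hdZ : d • Z0 = Z0 := by rw [hZ0, smul_smul, hdt.eq, ← smul_smul, hdY]
  -- the orbit of the base point
  have htCd : t ∈ Cd := mem_centralizer_singleton_iff.2 hdt.symm.eq
  obtain ⟨τ, hτC, hτX⟩ : ∃ τ ∈ Cd, τ • X0 ≠ X0 := by
    have hd' : u⁻¹ * d * u ∈ NS := (Cfsg.Lib.StrongEmb.mem_conj_iff).1 hdD.2
    obtain ⟨t', ht', ht'1, hdt', -⟩ := hfixS _ hd' (by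
      rw [show u⁻¹ * d * u = u⁻¹ * d * u⁻¹⁻¹ by group, orderOf_conj', hds])
    refine ⟨u * t' * u⁻¹, mem_centralizer_singleton_iff.2 ?_, fun e => ?_⟩
    · have := commute_conj (g := u) hdt'
      simpa [mul_assoc] using this.symm.eq
    · refine hne0 (Cfsg.Lib.StrongEmb.eq_of_fixed hSE (t := u * t' * u⁻¹)
        (by rw [orderOf_conj', h.order_S S ht' ht'1]) ?_ e)
      show (u * t' * u⁻¹) • (QuotientGroup.mk u : G ⧸ NS) = QuotientGroup.mk u
      rw [smul_mk_eq_iff, show u⁻¹ * (u * t' * u⁻¹) * u = t' by group]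
      exact le_normalizer ht'
  have hCfix : ∀ c ∈ Cd, d • c • X0 = c • X0 := fun c hc => by
    rw [smul_smul, ← mem_centralizer_singleton_iff.1 hc, ← smul_smul, hdX]
  have horbit : MulAction.orbit ↥Cd X0 = {X0, Y0, Z0} := by
    refine Set.Subset.antisymm ?_ ?_
    · rintro _ ⟨⟨c, hc⟩, rfl⟩
      rcases hfix3 _ (hCfix c hc) with e | e | e
      · exact Or.inl e
      · exact Or.inr (Or.inl e)
      · exact Or.inr (Or.inr e)
    · have hone : X0 ∈ MulAction.orbit ↥Cd X0 := MulAction.mem_orbit_self _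
      have hτo : τ • X0 ∈ MulAction.orbit ↥Cd X0 := ⟨⟨τ, hτC⟩, rfl⟩
      have htt : t • t • Y0 = Y0 := by rw [smul_smul, h.sq_two (two_of_mem S.2 ht), one_smul]
      have hmove : ∀ z ∈ MulAction.orbit ↥Cd X0, t • z ∈ MulAction.orbit ↥Cd X0 := by
        rintro _ ⟨c, rfl⟩
        exact ⟨⟨t, htCd⟩ * c, mul_smul (t : G) (c : G) X0⟩
      rcases hfix3 _ (hCfix τ hτC) with e | e | e
      · exact absurd e hτX
      all_goals rw [e] at hτo
      · rintro _ (rfl | rfl | rfl)
        exacts [hone, hτo, hmove _ hτo]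
      · rintro _ (rfl | rfl | rfl)
        exacts [hone, htt ▸ hmove _ hτo, hτo]
  have h3 : ({X0, Y0, Z0} : Set (G ⧸ NS)).ncard = 3 :=
    Set.ncard_eq_three.2 ⟨_, _, _, hne0.symm, hZX.symm, hZY.symm, rfl⟩
  have hstab : Nat.card ↥(MulAction.stabilizer ↥Cd X0) = Nat.card ↥(NS ⊓ Cd : Subgroup G) :=
    Nat.card_congr
      { toFun := fun n => ⟨((n : ↥Cd) : G), fix_mk_one_iff.1 n.2, (n : ↥Cd).2⟩
        invFun := fun d => ⟨⟨(d : G), d.2.2⟩, fix_mk_one_iff.2 d.2.1⟩
        left_inv := fun n => rfl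
        right_inv := fun d => rfl }
  have hCdc : Nat.card ↥Cd = 3 * Nat.card ↥(NS ⊓ Cd : Subgroup G) := by
    rw [← Subgroup.index_mul_card (MulAction.stabilizer ↥Cd X0), MulAction.index_stabilizer, horbit, h3, hstab]
  have hs3 : s = 3 := by
    rcases h.primes_cent (K := Cd) (Or.inr hds) (fun k hk => mem_centralizer_singleton_iff.1 hk)
      Nat.prime_three (hCdc ▸ dvd_mul_right 3 _) with e | e
    · norm_num at e
    · exact e.symm
  subst hs3
  have hCd18 : Nat.card ↥Cd ≤ 18 := by omega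
  have hreal : ∀ g : G, g * d * g⁻¹ ≠ d⁻¹ := by
    intro g hg
    have hfixg : d • g • X0 = g • X0 := by
      have hgd : d * g = g * d⁻¹ := by
        have h1 : g * d⁻¹ * g⁻¹ = d := by
          rw [show g * d⁻¹ * g⁻¹ = (g * d * g⁻¹)⁻¹ by group, hg, inv_inv]
        nth_rw 1 [← h1]
        group
      rw [smul_smul, hgd, ← smul_smul]
      congr 1
      rw [inv_smul_eq_iff, hdX]
    obtain ⟨c, hc⟩ : g • X0 ∈ MulAction.orbit ↥Cd X0 := by
      rw [horbit]
      rcases hfix3 _ hfixg with e | e | e <;> rw [e]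
      · exact Or.inl rfl
      · exact Or.inr (Or.inl rfl)
      · exact Or.inr (Or.inr rfl)
    set m := (c : G)⁻¹ * g with hm
    have hmN : m ∈ NS := fix_mk_one_iff.1 (by
      rw [hm, mul_smul, ← hc]
      exact inv_smul_smul (c : G) X0)
    have hmd : m * d * m⁻¹ = d⁻¹ := by
      rw [hm, show (c : G)⁻¹ * g * d * ((c : G)⁻¹ * g)⁻¹ = (c : G)⁻¹ * (g * d * g⁻¹) * c by group, hg,
        mul_assoc, ← (show Commute (c : G) d from mem_centralizer_singleton_iff.1 c.2).inv_right.eq,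
        inv_mul_cancel_left]
    set π := QuotientGroup.mk' (L.subgroupOf NS)
    have hcyc : IsCyclic (↥NS ⧸ L.subgroupOf NS) := isCyclic_of_prime_card (p := 3) hLidx
    have hcomm : π ⟨m, hmN⟩ * π ⟨d, hdN⟩ = π ⟨d, hdN⟩ * π ⟨m, hmN⟩ := by
      obtain ⟨w, hw⟩ := hcyc.exists_generator
      obtain ⟨i, hi⟩ := mem_zpowers_iff.1 (hw (π ⟨m, hmN⟩))
      obtain ⟨j, hj⟩ := mem_zpowers_iff.1 (hw (π ⟨d, hdN⟩))
      rw [← hi, ← hj]
      exact (Commute.zpow_zpow_self w i j).eq
    have h1 : π (⟨d, hdN⟩ ^ 2) = 1 := by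
      have h2 : π (⟨m, hmN⟩ * ⟨d, hdN⟩ * ⟨m, hmN⟩⁻¹) = π (⟨d, hdN⟩⁻¹) := congrArg π (Subtype.ext hmd)
      rw [map_mul, map_mul, map_inv, hcomm, mul_inv_cancel_right, map_inv] at h2
      rw [map_pow, pow_two]
      nth_rw 2 [h2]
      exact mul_inv_cancel _
    have h2 : d ^ 2 ∈ L := by
      have h6 := mem_subgroupOf.1 ((QuotientGroup.eq_one_iff _).1 h1)
      simpa using h6
    have h4 : orderOf (d ^ 2) = 3 := by rw [orderOf_pow' d two_ne_zero, hds]; norm_num
    exact hLs (h4 ▸ (by rw [← orderOf_mk _ h2]; exact _root_.orderOf_dvd_natCard _))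
  refine ⟨rfl, fun P hP hPs => hsmall P hP hPs, ⟨d, hds, t, h.order_S S ht ht1, hdt⟩, ?_⟩
  rintro c hc ⟨tc, htc, hctc⟩
  -- conjugate to a power of `d`
  obtain ⟨g, hg⟩ := isConj_iff.1 (Cfsg.Lib.StrongEmb.all_conj hSE htc (h.order_S S ht₁ ht₁1))
  set c₁ := g * c * g⁻¹ with hc₁
  have hc₁o : orderOf c₁ = 3 := (orderOf_conj' g c).trans hc
  have hc₁N : c₁ ∈ NS := B.cent_le ht₁ ht₁1 (hg ▸ commute_conj hctc)
  obtain ⟨m, hm, hmc⟩ := hsylow c₁ hc₁N hc₁o
  obtain ⟨m', hm', hmd⟩ := hsylow d hdN hds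
  set w := m'⁻¹ * m * g with hw
  obtain ⟨i, hi⟩ := mem_zpowers_iff.1 hmc
  have hyd : y ∈ zpowers (m' * d * m'⁻¹) := by
    rw [Subgroup.eq_of_le_of_card_ge (zpowers_le.2 hmd) (by
      rw [Nat.card_zpowers, Nat.card_zpowers, hys, orderOf_conj', hds])]
    exact mem_zpowers y
  obtain ⟨j, hj⟩ := mem_zpowers_iff.1 hyd
  have hwc : w * c * w⁻¹ = d ^ (j * i) := by
    rw [zpow_mul, hw, show m'⁻¹ * m * g * c * (m'⁻¹ * m * g)⁻¹ = m'⁻¹ * (m * (g * c * g⁻¹) * m⁻¹) * m' by group,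
      ← hc₁, ← hi, ← hj, conj_zpow, conj_zpow]
    group
  have hdin : d ∈ zpowers (w * c * w⁻¹) := by
    have hle : zpowers (w * c * w⁻¹) ≤ zpowers d := zpowers_le.2 (mem_zpowers_iff.2 ⟨_, hwc.symm⟩)
    rw [Subgroup.eq_of_le_of_card_ge hle (by rw [Nat.card_zpowers, Nat.card_zpowers, orderOf_conj', hds, hc])]
    exact mem_zpowers d
  obtain ⟨k, hk⟩ := mem_zpowers_iff.1 hdin
  refine ⟨?_, fun g' hg' => ?_⟩
  · refine le_trans (Nat.card_le_card_of_injective
      (fun x : centralizer ({c} : Set G) => (⟨w * x * w⁻¹, ?_⟩ : ↥Cd)) ?_) hCd18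
    · refine mem_centralizer_singleton_iff.2 ?_
      have hx : Commute (x : G) c := mem_centralizer_singleton_iff.1 x.2
      rw [← hk]
      exact ((commute_conj hx).zpow_right k).eq
    · intro a b e
      exact Subtype.ext (by simpa using congrArg Subtype.val e)
  · refine hreal (w * g' * w⁻¹) ?_
    rw [← hk, conj_zpow,
      show w * g' * w⁻¹ * (w * c ^ k * w⁻¹) * (w * g' * w⁻¹)⁻¹ = w * (g' * c ^ k * g'⁻¹) * w⁻¹ by group,
      ← conj_zpow (a := g') (b := c), hg', inv_zpow]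
    group

end NoCore

end Cfsg.Lib.CITExt.TwoS
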