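import Cfsg.Agent.Coprime.Sylow
import Cfsg.Agent.PGroups.Basic

/-!
Centralisers of elements of the derived subgroup of a `p`-group.
-/

set_option autoImplicit false
set_option linter.unusedSectionVars false
set_option linter.style.haveILetI false

namespace Cfsg.Lib.CITExt.TwoS

open Subgroup
open scoped commutatorElement

/-- An element of the derived subgroup with a centraliser of order at most `p²` is trivial. -/
theorem eq_one_of_small_centralizer {P : Type*} [Group P] [Finite P] {p : ℕ} [hp : Fact p.Prime]
    (hP : IsPGroup p P) {c : P} (hc : c ∈ commutator P)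
    (hcard : Nat.card ↥(centralizer ({c} : Set P)) ≤ p ^ 2) : c = 1 := by
  by_contra hc1
  have hne : commutator P ≠ ⊥ := fun e => hc1 (by rwa [e, mem_bot] at hc)
  haveI : Group.IsNilpotent P := hP.isNilpotent
  haveI : Group.IsNilpotent ↥(⊤ : Subgroup P) := (hP.to_subgroup ⊤).isNilpotent
  haveI : (commutator P).Normal := inferInstance
  set D := ⁅commutator P, (⊤ : Subgroup P)⁆ with hD
  have hlt : D < commutator P := Cfsg.Lib.Coprime.commutator_lt_of_isNilpotent le_top hne
    (fun g _ => by simp [Subgroup.normalizer_eq_top_iff.2 inferInstance])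
  -- the conjugates lie in a coset of `D`
  let f : P ⧸ centralizer ({c} : Set P) → ↥D :=
    Quotient.lift (fun x : P => (⟨⁅x, c⁆, by
      rw [hD, commutator_comm]
      exact commutator_mem_commutator (mem_top _) hc⟩ : ↥D)) fun a b hab => by
      have h1 := mem_centralizer_singleton_iff.1 (QuotientGroup.leftRel_apply.1 hab)
      refine Subtype.ext ?_
      show a * c * a⁻¹ * c⁻¹ = b * c * b⁻¹ * c⁻¹
      calc a * c * a⁻¹ * c⁻¹ = a * (c * (a⁻¹ * b)) * b⁻¹ * c⁻¹ := by group
        _ = _ := by rw [← h1]; group
  have hf : Function.Injective f := by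
    intro x y hxy
    induction x using QuotientGroup.induction_on with
    | H a =>
    induction y using QuotientGroup.induction_on with
    | H b =>
    have e : a * c * a⁻¹ = b * c * b⁻¹ := mul_right_cancel (congrArg Subtype.val hxy :
      a * c * a⁻¹ * c⁻¹ = b * c * b⁻¹ * c⁻¹)
    refine QuotientGroup.eq.2 (mem_centralizer_singleton_iff.2 ?_)
    calc a⁻¹ * b * c = a⁻¹ * (b * c * b⁻¹) * b := by group
      _ = c * (a⁻¹ * b) := by rw [← e]; group
  have hidx : (centralizer ({c} : Set P)).index ≤ Nat.card ↥D := Nat.card_le_card_of_injective f hf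
  have hPle : Nat.card P ≤ Nat.card ↥D * p ^ 2 := by
    rw [← Subgroup.index_mul_card (centralizer ({c} : Set P))]
    exact Nat.mul_le_mul hidx hcard
  -- the derived subgroup has index at least `p²`
  obtain ⟨n, hn⟩ := IsPGroup.iff_card.1 hP
  obtain ⟨i, hi⟩ := IsPGroup.iff_card.1 (hP.to_subgroup (commutator P))
  obtain ⟨j, hj⟩ := IsPGroup.iff_card.1 (hP.to_subgroup D)
  have hji : j < i := by
    by_contra hge
    exact hlt.ne (Subgroup.eq_of_le_of_card_ge hlt.le
      (hi.le.trans ((Nat.pow_le_pow_right hp.out.pos (not_lt.1 hge)).trans hj.ge)))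
  have hin : i + 2 ≤ n := by
    by_contra hlt2
    have hcyc : IsCyclic (P ⧸ frattini P) := by
      have hidx : (frattini P).index ∣ (commutator P).index :=
        Subgroup.index_dvd_of_le (Cfsg.Lib.PGroups.commutator_le_frattini hP)
      have hmul := (commutator P).index_mul_card
      rw [hi, hn] at hmul
      have hd : (commutator P).index ∣ p := by
        have hle : i ≤ n := (Nat.pow_dvd_pow_iff_le_right hp.out.one_lt).1 ⟨_, by rw [← hmul]; ring⟩
        have h1 : (commutator P).index = p ^ (n - i) := Nat.eq_of_mul_eq_mul_right (pow_pos hp.out.pos i) (by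
          rw [hmul, ← pow_add, Nat.sub_add_cancel hle])
        rw [h1]
        exact (Nat.pow_dvd_pow p (show n - i ≤ 1 by omega)).trans (by rw [pow_one])
      rcases (Nat.dvd_prime hp.out).1 (hidx.trans hd) with e | e
      · haveI : Subsingleton (P ⧸ frattini P) := (Nat.card_eq_one_iff_unique.1 e).1
        exact inferInstance
      · exact isCyclic_of_prime_card (p := p) e
    haveI : IsCyclic P := Cfsg.Lib.PGroups.isCyclic_of_isCyclic_quotient_frattini (h := hcyc)
    refine hne (le_bot_iff.1 ?_)
    rw [_root_.commutator_def, Subgroup.commutator_le]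
    intro a _ b _
    rw [mem_bot, commutatorElement_eq_one_iff_commute]
    obtain ⟨g, hg⟩ := IsCyclic.exists_generator (α := P)
    obtain ⟨u, rfl⟩ := mem_zpowers_iff.1 (hg a)
    obtain ⟨v, rfl⟩ := mem_zpowers_iff.1 (hg b)
    exact Commute.zpow_zpow_self g u v
  rw [hn, hj, ← pow_add] at hPle
  have := (Nat.pow_le_pow_iff_right hp.out.one_lt).1 hPle
  omega

end Cfsg.Lib.CITExt.TwoS
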