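import Cfsg.Agent.CITExt.TwoS.Pair
import Cfsg.Agent.CITExt.TwoS.Derived
import Cfsg.Agent.Components.ZJ.FullCenter
import Cfsg.Agent.Components.ZJ.Functor
import Cfsg.Agent.S0118
import Cfsg.Agent.S4216

/-!
Glauberman's fusion theorem and Grün's theorem exclude `s` involutions in the Sylow 2-subgroup.
-/

set_option autoImplicit false
set_option linter.unusedSectionVars false
set_option linter.style.haveILetI false

namespace Cfsg.Lib.CITExt.TwoS

open Subgroup Cfsg.Lib.CITGroups Cfsg.Lib.ZJ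
open scoped commutatorElement

universe u

variable {G : Type u} [Group G] [Finite G] {s : ℕ}

/-- no section is `SL(2, s)`, as this has an element of order four -/
theorem Hyp.no_sl_section (h : Hyp s G) :
    ¬ ∃ (H K : Subgroup G) (hK : (K.subgroupOf H).Normal),
      Nonempty ((H ⧸ K.subgroupOf H) ≃* Matrix.SpecialLinearGroup (Fin 2) (ZMod s)) := by
  haveI := Fact.mk h.prime
  rintro ⟨H, K, hK, ⟨e⟩⟩
  haveI := hK
  let w : Matrix.SpecialLinearGroup (Fin 2) (ZMod s) := ⟨!![0, 1; -1, 0], by simp [Matrix.det_fin_two]⟩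
  have hw2 : ((w ^ 2 : Matrix.SpecialLinearGroup (Fin 2) (ZMod s)) : Matrix (Fin 2) (Fin 2) (ZMod s)) =
      !![-1, 0; 0, -1] := by
    rw [Matrix.SpecialLinearGroup.coe_pow]
    simp [w, pow_two]
  have hw : orderOf w = 2 ^ 2 := by
    refine orderOf_eq_prime_pow (p := 2) (n := 1) (fun hc => ?_) (Subtype.ext ?_)
    · rw [pow_one] at hc
      have := congrArg (fun A : Matrix (Fin 2) (Fin 2) (ZMod s) => A 0 0)
        (hw2.symm.trans (congrArg Subtype.val hc))
      simp at this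
      have h2 : ((2 : ℕ) : ZMod s) = 0 := by
        push_cast
        linear_combination -this
      rw [ZMod.natCast_eq_zero_iff] at h2
      exact h.ne_two ((Nat.prime_dvd_prime_iff_eq h.prime Nat.prime_two).1 h2)
    · show ((w ^ 2 ^ (1 + 1) : Matrix.SpecialLinearGroup (Fin 2) (ZMod s)) : Matrix (Fin 2) (Fin 2) (ZMod s)) = _
      rw [show (2 : ℕ) ^ (1 + 1) = 2 * 2 by norm_num, pow_mul, Matrix.SpecialLinearGroup.coe_pow, hw2, pow_two]
      simp [← Matrix.one_fin_two]
  obtain ⟨x, hx⟩ := QuotientGroup.mk'_surjective (K.subgroupOf H) (e.symm w)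
  have h4 : 4 ∣ orderOf (x : G) := by
    rw [orderOf_coe]
    have := orderOf_map_dvd (QuotientGroup.mk' (K.subgroupOf H)) x
    rwa [hx, MulEquiv.orderOf_eq, hw] at this
  rcases h.two (x : G) ((by norm_num : 2 ∣ 4).trans h4) with e | e <;> rw [e] at h4
  · norm_num at h4
  · obtain ⟨k, hk⟩ := h.odd_s
    omega

/-- the order of an element commuting with an involution divides `2s` -/
theorem Hyp.order_dvd (h : Hyp s G) {x y : G} (hy : orderOf y = 2) (hc : Commute x y) : orderOf x ∣ 2 * s := by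
  by_cases h2 : 2 ∣ orderOf x
  · rcases h.two x h2 with e | e <;> rw [e]
    exact dvd_mul_right 2 s
  by_cases hs : s ∣ orderOf x
  · rcases h.spart x hs with e | e <;> rw [e]
    exact dvd_mul_left s 2
  rcases eq_or_ne (orderOf x) 1 with e | e
  · rw [e]; exact one_dvd _
  obtain ⟨r, hr, hrd⟩ := Nat.exists_prime_and_dvd e
  exact absurd (hc.pow_left (orderOf x / r)) (h.not_comm hr (fun e' => h2 (e' ▸ hrd)) (fun e' => hs (e' ▸ hrd))
    (orderOf_pow_orderOf_div (orderOf_pos x).ne' hrd) (Or.inl hy))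

theorem conj_mem_map {K : Subgroup G} {g x : G} (hx : x ∈ K) : g * x * g⁻¹ ∈ K.map (MulAut.conj g).toMonoidHom :=
  ⟨x, hx, rfl⟩

theorem commute_conj {g x y : G} (hc : Commute x y) : Commute (g * x * g⁻¹) (g * y * g⁻¹) := by
  simpa using hc.map (MulAut.conj g).toMonoidHom

theorem orderOf_conj' (g x : G) : orderOf (g * x * g⁻¹) = orderOf x := MulEquiv.orderOf_eq (MulAut.conj g) x

namespace Setup

variable {S : Sylow 2 G} {Q : Subgroup G}

local notation "M" => normalizer (Q : Set G)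

set_option maxHeartbeats 1600000 in
theorem false_of_moving (L : Setup s S Q) (hns : ¬ Group.IsSolvable G) (hperf : commutator G = ⊤)
    (hl : Nat.card {x : G // x ∈ (S : Subgroup G) ∧ x ≠ 1} = s) : False := by
  classical
  haveI := Fact.mk L.hyp.prime
  haveI : Fact (Nat.Prime 2) := ⟨Nat.prime_two⟩
  have h := L.hyp
  have hSE := L.strongly hns
  obtain ⟨u, hu, huM, hDs, hDc, a, haD, haQ, ha1⟩ := L.exists_square hns hl
  have huu : u⁻¹ = u := inv_eq_of_mul_eq_one_right (by rw [← pow_two, ← hu, pow_orderOf_eq_one])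
  have hu2 : u * u = 1 := by rw [← pow_two, ← hu, pow_orderOf_eq_one]
  set D := Two' Q u with hD
  have huD : ∀ x ∈ D, u * x * u⁻¹ ∈ D := fun x hx => ⟨by
      have := (Cfsg.Lib.StrongEmb.mem_conj_iff).1 hx.2
      simpa [huu] using this, conj_mem_map hx.1⟩
  have hDcomm : ∀ x ∈ D, ∀ y ∈ D, Commute x y := fun x hx y hy =>
    congrArg Subtype.val (mul_comm' (⟨x, hx⟩ : ↥D) ⟨y, hy⟩)
  set b := u * a * u⁻¹ with hb
  have hbD : b ∈ D := huD a haD
  have hbQ : b ∉ Q := fun e => ha1 (L.ti hns haQ (g := u⁻¹) (by rw [inv_inv]; exact e)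
    (fun e' => huM (inv_inv u ▸ inv_mem e')))
  obtain ⟨P, hDP⟩ := hDs.exists_le_sylow
  have hP := P.2
  -- no conjugate of `Q` contains the Sylow subgroup
  have hQall : ∀ g : G, (∀ p ∈ (P : Subgroup G), g * p * g⁻¹ ∈ Q) → False := by
    intro g hg
    have hgM : g ∈ M := by
      by_contra hgM
      exact ha1 (L.ti hns haQ (g := g⁻¹) (by rw [inv_inv]; exact hg a (hDP haD))
        (fun e => hgM (inv_inv g ▸ inv_mem e)))
    refine hbQ ?_
    simpa [mul_assoc] using nrm_conj (inv_mem hgM) (hg b (hDP hbD))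
  set Z := Cfsg.centerThompsonOf s (P : Subgroup G) with hZ
  have hZP : Z ≤ (P : Subgroup G) := centerThompson_le P
  have hPne : (P : Subgroup G) ≠ ⊥ := fun e => ha1 (by rw [← mem_bot, ← e]; exact hDP haD)
  haveI : Nontrivial ↥(P : Subgroup G) := (P : Subgroup G).nontrivial_iff_ne_bot.2 hPne
  haveI : Nontrivial ↥(center ↥(P : Subgroup G)) := hP.center_nontrivial
  obtain ⟨z₀, hz₀⟩ := exists_ne (1 : ↥(center ↥(P : Subgroup G)))
  set z : G := ((z₀ : ↥(P : Subgroup G)) : G) with hzdef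
  have hz1 : z ≠ 1 := fun e => hz₀ (Subtype.ext (Subtype.ext e))
  have hzP : z ∈ (P : Subgroup G) := (z₀ : ↥(P : Subgroup G)).2
  have hzc : ∀ p ∈ (P : Subgroup G), Commute p z := fun p hp =>
    congrArg Subtype.val (mem_center_iff.1 z₀.2 ⟨p, hp⟩)
  have hzZ : z ∈ Z := by
    refine ⟨?_, mem_centralizer_iff.2 fun y hy => (hzc y (Cfsg.Lib.Thompson.thompsonSubgroupOf_le _ hy)).eq⟩
    obtain ⟨A, hA⟩ := maxEl_nonempty (p := s) (P : Subgroup G)
    exact ((thompsonSubgroupOf_eq_sSup (p := s) (P : Subgroup G)).symm.le ((le_sSup hA : A ≤ _)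
      (mem_maxEl_of_commute hA hzP (h.pow_of_mem hP hzP) fun a ha => (hzc a (hA.1 ha)).eq)))
  set H := normalizer (Z : Set G) with hH
  have hPH : (P : Subgroup G) ≤ H := sylow_le_normalizer_centerThompson P
  have hNP : normalizer ((P : Subgroup G) : Set G) ≤ H := by
    intro g hg
    refine mem_nrm fun x hx => ?_
    have e : (P : Subgroup G).map (MulAut.conj g).toMonoidHom = P := by
      refine Subgroup.eq_of_le_of_card_ge ?_ (le_of_eq (Subgroup.card_map_of_injective (MulAut.conj g).injective).symm)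
      rintro _ ⟨p, hp, rfl⟩
      exact nrm_conj hg hp
    have := map_centerThompsonOf (p := s) (MulAut.conj g) (P : Subgroup G)
    rw [e] at this
    exact this.le (conj_mem_map hx)
  have hfus : ∀ A : Set G, A ⊆ (P : Set G) → ∀ g : G, (∀ x ∈ A, g⁻¹ * x * g ∈ (P : Subgroup G)) →
      ∃ n ∈ H, ∀ x ∈ A, n⁻¹ * x * n = g⁻¹ * x * g := fun A hA g hg =>
    Cfsg.Agent.S0118.result h.ne_two h.no_sl_section P A hA g (by rintro _ ⟨x, hx, rfl⟩; exact hg x hx)
  -- an involution in `H` fixing `ab`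
  obtain ⟨n, hnH, hn⟩ := hfus (D : Set G) hDP u fun x hx => hDP (by
    have := huD x hx
    rw [huu] at this ⊢
    exact this)
  have hn' : ∀ x ∈ D, n⁻¹ * x * n = u * x * u⁻¹ := fun x hx => by
    rw [hn x hx, huu]
  have heven : 2 ∣ orderOf n := by
    by_contra hodd
    obtain ⟨k, hk⟩ := Nat.not_even_iff_odd.1 fun e => hodd e.two_dvd
    have hc : Commute (n ^ 2) a := by
      have h1 := hn' a haD
      have h2 := hn' _ hbD
      rw [← hb] at h1
      have h3 : u * b * u⁻¹ = a := by rw [hb, huu]; simp [mul_assoc, hu2, ← mul_assoc u u]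
      rw [h3, ← h1] at h2
      show n ^ 2 * a = a * n ^ 2
      calc n ^ 2 * a = n ^ 2 * (n⁻¹ * (n⁻¹ * a * n) * n) := by rw [h2]
        _ = a * n ^ 2 := by rw [pow_two]; group
    have e : n = ((n ^ 2) ^ k)⁻¹ := by
      refine eq_inv_of_mul_eq_one_right ?_
      rw [← pow_mul, ← pow_succ, ← hk, pow_orderOf_eq_one]
    have hca : Commute n a := e ▸ (hc.pow_left k).inv_left
    refine hbQ ?_
    rw [hb, ← hn' a haD, mul_assoc, ← hca.eq, inv_mul_cancel_left]
    exact haQ
  set t' := n ^ (orderOf n / 2) with ht'def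
  have ht' : orderOf t' = 2 := orderOf_pow_orderOf_div (orderOf_pos n).ne' heven
  have ht'H : t' ∈ H := pow_mem hnH _
  have ht'2 : t' * t' = 1 := by rw [← pow_two, ← ht', pow_orderOf_eq_one]
  have ht'i : t'⁻¹ = t' := inv_eq_of_mul_eq_one_right ht'2
  set c₀ := a * b with hc₀
  have hc₀P : c₀ ∈ (P : Subgroup G) := mul_mem (hDP haD) (hDP hbD)
  have hc₀1 : c₀ ≠ 1 := fun e => hbQ ((eq_inv_of_mul_eq_one_right e).symm ▸ inv_mem haQ)
  have hc₀t : Commute c₀ t' := by
    refine (Commute.pow_right ?_ _)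
    have h1 : n⁻¹ * c₀ * n = c₀ := by
      rw [hc₀, hn' _ (mul_mem haD hbD), show u * (a * b) * u⁻¹ = (u * a * u⁻¹) * (u * b * u⁻¹) by group, ← hb,
        show u * b * u⁻¹ = a by rw [hb, huu]; simp [mul_assoc, hu2, ← mul_assoc u u]]
      exact (hDcomm b hbD a haD).eq
    show c₀ * n = n * c₀
    calc c₀ * n = n * (n⁻¹ * c₀ * n) := by group
      _ = n * c₀ := by rw [h1]
  obtain ⟨t₀, ht₀, ht₀1⟩ := L.exists_one
  -- `H` lies in no conjugate of the strongly embedded subgroup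
  have hnle : ∀ g : G, ¬ ∀ x ∈ H, g * x * g⁻¹ ∈ M := by
    intro g hg
    set P1 := (P : Subgroup G).map (MulAut.conj g).toMonoidHom with hP1
    have hP1M : P1 ≤ M := by rintro _ ⟨p, hp, rfl⟩; exact hg p (hPH hp)
    have hjoin : IsPGroup s ↥(Q ⊔ P1) := L.inv.1.to_sup_of_normal_left' (hP.map _) hP1M
    have hQP : ∀ x ∈ Q, g⁻¹ * x * g ∈ (P : Subgroup G) := by
      intro x hx
      have hmax := P.is_maximal' (hjoin.map (MulAut.conj g⁻¹).toMonoidHom) (fun p hp =>
        ⟨g * p * g⁻¹, mem_sup_right (conj_mem_map hp), by simp [mul_assoc]⟩)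
      rw [← hmax]
      exact ⟨x, mem_sup_left hx, by simp⟩
    have key : ∀ x ∈ (P : Subgroup G), ∀ k : G, (k⁻¹ * x * k ∈ (P : Subgroup G)) → g * (k⁻¹ * x * k) * g⁻¹ ∈ Q →
        g * x * g⁻¹ ∈ Q := by
      intro x hx k hk hQ'
      obtain ⟨m, hm, hmx⟩ := hfus {x} (Set.singleton_subset_iff.2 hx) k
        (fun y hy => by rw [Set.mem_singleton_iff.1 hy]; exact hk)
      have h1 := nrm_conj (hg m hm) hQ'
      rw [← hmx x rfl] at h1
      simpa [mul_assoc] using h1
    have hga : g * a * g⁻¹ ∈ Q := key a (hDP haD) g (hQP a haQ) (by simpa [mul_assoc] using haQ)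
    have hgb : g * b * g⁻¹ ∈ Q := key b (hDP hbD) (u * g)
      (by
        rw [show (u * g)⁻¹ * b * (u * g) = g⁻¹ * a * g by rw [hb]; group]
        exact hQP a haQ)
      (by
        rw [show g * ((u * g)⁻¹ * b * (u * g)) * g⁻¹ = a by rw [hb]; group]
        exact haQ)
    have hgM : g ∈ M := by
      by_contra hgM
      exact ha1 (L.ti hns haQ (g := g⁻¹) (by rw [inv_inv]; exact hga) (fun e => hgM (inv_inv g ▸ inv_mem e)))
    exact hbQ (by simpa [mul_assoc] using nrm_conj (inv_mem hgM) hgb)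
  have hZne : Z ≠ ⊥ := fun e => hz1 (by rwa [e, mem_bot] at hzZ)
  haveI : Group.IsNilpotent ↥Z := (hP.to_le hZP).isNilpotent
  have hHsol : Group.IsSolvable ↥H := h.solvable_local hZne inferInstance
  -- no four-group in `H`
  have hfour : ∀ E : Subgroup G, E ≤ H → IsPGroup 2 ↥E → Nat.card ↥E < 4 := by
    intro E hEH hE
    by_contra h4
    obtain ⟨PE, hPE⟩ := hE.exists_le_sylow
    obtain ⟨g, hg⟩ := MulAction.exists_smul_eq G PE S
    haveI := hHsol
    refine hnle g fun x hx => L.four_lemma hns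
      (Y := H.map (MulAut.conj g).toMonoidHom) (E := E.map (MulAut.conj g).toMonoidHom)
      (Group.isSolvable_of_surjective (MonoidHom.subgroupMap_surjective (MulAut.conj g).toMonoidHom H))
      (map_mono hEH)
      (by
        refine le_trans ?_ L.sylow_le
        rintro _ ⟨e, he, rfl⟩
        rw [← hg, Sylow.coe_subgroup_smul]
        exact ⟨e, hPE he, rfl⟩)
      (hE.map _) (by rw [Subgroup.card_map_of_injective (MulAut.conj g).injective]; omega) (conj_mem_map hx)
  obtain ⟨R0, hR0H, hR0s, -, hR0n, hR0⟩ := h.sclosed_in hHsol le_normalizer (hP.to_le hZP) hZne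
    (fun g hg x hx => nrm_conj hg hx) (fun y hy _ K hKH hK hyK k hk => by
      rcases eq_or_ne k 1 with rfl | hk1
      · exact Commute.one_right _
      suffices he : y * k * y⁻¹ = k from mul_inv_eq_iff_eq_mul.1 he
      by_contra hne
      have hy1 : y * k * y⁻¹ ≠ 1 := fun e => hk1 (conj_eq_one_iff.1 e)
      have hsub : ({1, k, y * k * y⁻¹} : Set G) ⊆ K := by
        rintro _ (rfl | rfl | rfl)
        exacts [one_mem _, hk, hyK k hk]
      have h3 := Set.ncard_le_ncard hsub (Set.toFinite _)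
      rw [Set.ncard_eq_three.2 ⟨1, k, y * k * y⁻¹, hk1.symm, hy1.symm, Ne.symm hne, rfl⟩,
        ← Nat.card_coe_set_eq] at h3
      obtain ⟨i, hi⟩ := IsPGroup.iff_card.1 hK
      have h4 : Nat.card ↥K < 4 := hfour K hKH hK
      have h5 : (3 : ℕ) ≤ Nat.card ↥K := h3
      rw [hi] at h4 h5
      rcases i with _ | _ | i
      · omega
      · omega
      · rw [pow_succ, pow_succ] at h4
        have := Nat.two_pow_pos i
        omega)
  have hPR : (P : Subgroup G) = R0 :=
    (P.is_maximal' hR0s fun p hp => hR0 p (hPH hp) (h.pow_of_mem hP hp)).symm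
  have hnP : ∀ g ∈ H, ∀ p ∈ (P : Subgroup G), g * p * g⁻¹ ∈ (P : Subgroup G) := fun g hg p hp =>
    hPR ▸ hR0n g hg p (hPR ▸ hp)
  have hPn : ∀ g ∈ H, g ∈ normalizer ((P : Subgroup G) : Set G) := fun g hg => mem_nrm (hnP g hg)
  -- the involution centralises no central element
  have hnofix : ∀ x ∈ (P : Subgroup G), (∀ p ∈ (P : Subgroup G), Commute p x) → Commute x t' → x = 1 := by
    intro x hx hxc hxt
    by_contra hx1
    obtain ⟨g, hg⟩ := isConj_iff.1 (Cfsg.Lib.StrongEmb.all_conj hSE ht' (h.order_S S ht₀ ht₀1))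
    have hxQ : g * x * g⁻¹ ∈ Q := (L.mem_sup_cases (L.cent_le_QS hns ht₀ ht₀1 (hg ▸ commute_conj hxt))).2 (by
      rw [orderOf_conj', h.order_s hP hx hx1]
      exact h.odd_s)
    refine hQall g fun p hp => ?_
    have hpM : g * p * g⁻¹ ∈ M := L.cent_le hns hxQ (fun e => hx1 (conj_eq_one_iff.1 e))
      (mem_centralizer_singleton_iff.2 (commute_conj (hxc p hp)).eq)
    set c := (g * p * g⁻¹) * t₀ * (g * p * g⁻¹)⁻¹ * t₀⁻¹ with hc
    have hcS : c ∈ (S : Subgroup G) := mul_mem (L.normal_S hns hpM ht₀) (inv_mem ht₀)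
    have hcP : g⁻¹ * c * g ∈ (P : Subgroup G) := by
      rw [show g⁻¹ * c * g = p * (t' * p⁻¹ * t'⁻¹) by rw [hc, ← hg]; group]
      exact mul_mem hp (hnP t' ht'H _ (inv_mem hp))
    have hc1 : c = 1 := by
      by_contra hc1
      have h2 := h.order_two S.2 hcS hc1
      have h3 : orderOf (g⁻¹ * c * g) = s := h.order_s hP hcP fun e => hc1 (by
        have : g * (g⁻¹ * c * g) * g⁻¹ = 1 := by rw [e]; group
        simpa [mul_assoc] using this)
      rw [show g⁻¹ * c * g = g⁻¹ * c * g⁻¹⁻¹ by group, orderOf_conj', h2] at h3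
      exact h.ne_two h3.symm
    rw [hc, mul_inv_eq_one, mul_inv_eq_iff_eq_mul] at hc1
    exact (L.mem_sup_cases (L.cent_le_QS hns ht₀ ht₀1 hc1)).2 (by
      rw [orderOf_conj']
      rcases eq_or_ne p 1 with rfl | hp1
      · rw [orderOf_one]; exact odd_one
      rw [h.order_s hP hp hp1]
      exact h.odd_s)
  set V := (center ↥(P : Subgroup G)).map (P : Subgroup G).subtype with hV
  have hVc : ∀ x ∈ V, ∀ p ∈ (P : Subgroup G), Commute p x := by
    rintro _ ⟨x, hx, rfl⟩ p hp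
    exact congrArg Subtype.val (mem_center_iff.1 hx ⟨p, hp⟩)
  have hVn : ∀ g ∈ H, ∀ x ∈ V, g * x * g⁻¹ ∈ V := by
    intro g hg x hx
    have hxP : x ∈ (P : Subgroup G) := map_subtype_le _ hx
    refine ⟨⟨g * x * g⁻¹, hnP g hg x hxP⟩, mem_center_iff.2 fun p => Subtype.ext ?_, rfl⟩
    have := commute_conj (g := g) (hVc x hx _ (hnP g⁻¹ (inv_mem hg) p p.2))
    simpa [mul_assoc] using this.eq
  have hinv : ∀ x ∈ V, t' * x * t'⁻¹ = x⁻¹ := fun x hx =>
    inv_of_no_fix (fun a ha b hb => hVc b hb a (map_subtype_le _ ha)) ht'2 (hVn t' ht'H)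
      (fun v hv hc => hnofix v (map_subtype_le _ hv) (hVc v hv) hc.symm) hx
  have hzV : z ∈ V := ⟨(z₀ : ↥(P : Subgroup G)), z₀.2, rfl⟩
  -- the centraliser of a central element
  have hCz : centralizer ({z} : Set G) = (P : Subgroup G) := by
    refine P.is_maximal' (isPGroup_of_primes fun q hq hqd => ?_)
      fun p hp => mem_centralizer_singleton_iff.2 (hzc p hp).eq
    refine (h.primes_cent (Or.inr (h.order_s hP hzP hz1)) (fun _ hk => mem_centralizer_singleton_iff.1 hk) hq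
      hqd).resolve_left ?_
    rintro rfl
    obtain ⟨⟨e, heC⟩, he⟩ := exists_prime_orderOf_dvd_card' (G := ↥(centralizer ({z} : Set G))) 2 hqd
    rw [orderOf_mk] at he
    obtain ⟨g, hg⟩ := isConj_iff.1 (Cfsg.Lib.StrongEmb.all_conj hSE he (h.order_S S ht₀ ht₀1))
    set z' := g * z * g⁻¹ with hz'
    have hz't : Commute z' t₀ := hg ▸ commute_conj (show Commute z e from
      (mem_centralizer_singleton_iff.1 heC : e * z = z * e).symm)
    have hzQ : z' ∈ Q := (L.mem_sup_cases (L.cent_le_QS hns ht₀ ht₀1 hz't)).2 (by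
      rw [orderOf_conj', h.order_s hP hzP hz1]
      exact h.odd_s)
    set τ := g * t' * g⁻¹ with hτ
    have hτz : τ * z' * τ⁻¹ = z'⁻¹ := by
      rw [hτ, hz', show g * t' * g⁻¹ * (g * z * g⁻¹) * (g * t' * g⁻¹)⁻¹ = g * (t' * z * t'⁻¹) * g⁻¹ by group,
        hinv z hzV]
      group
    have hτM : τ ∈ M := Cfsg.Lib.StrongEmb.conj_eq hSE (h.order_S S ht₀ ht₀1) (L.sylow_le ht₀)
      (L.cent_le hns hzQ (fun e => hz1 (conj_eq_one_iff.1 e)) (mem_centralizer_singleton_iff.2 (by
        have h1 := commute_conj (g := τ) hz't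
        rw [hτz] at h1
        exact (Commute.inv_left_iff.1 h1).symm.eq)))
    have hτS : τ ∈ (S : Subgroup G) := L.inv_mem_S hns (by rw [hτ, orderOf_conj', ht']) hτM
    have := commute_conj (g := g⁻¹) (L.centralizes hns τ hτS z' hzQ)
    refine hz1 (hnofix z hzP hzc ?_)
    simpa [hτ, hz', mul_assoc] using this.symm
  -- `H` is `P⟨t'⟩`
  have hHform : ∀ g ∈ H, ∃ p ∈ (P : Subgroup G), g = p ∨ g = p * t' := by
    intro g hg
    set c := g * t' * g⁻¹ * t'⁻¹ with hc
    have hcP : c ∈ (P : Subgroup G) := by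
      rw [← hCz, mem_centralizer_singleton_iff]
      refine mul_inv_eq_iff_eq_mul.1 ?_
      have hx := hVn g⁻¹ (inv_mem hg) z hzV
      have hi := hinv _ hx
      calc c * z * c⁻¹ = g * (t' * (g⁻¹ * (t'⁻¹ * z * t') * g⁻¹⁻¹) * t'⁻¹) * g⁻¹ := by rw [hc]; group
        _ = g * (t' * (g⁻¹ * z * g⁻¹⁻¹)⁻¹ * t'⁻¹) * g⁻¹ := by
            have := hinv z hzV
            rw [ht'i] at this ⊢
            rw [this]
            group
        _ = g * (t' * (g⁻¹ * z * g⁻¹⁻¹) * t'⁻¹)⁻¹ * g⁻¹ := by group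
        _ = z := by rw [hi]; group
    -- `c` is inverted by the involution
    have hgt : (g * t' * g⁻¹) * (g * t' * g⁻¹) = 1 := by
      rw [show g * t' * g⁻¹ * (g * t' * g⁻¹) = g * (t' * t') * g⁻¹ by group, ht'2]; group
    have hct : t' * c * t'⁻¹ = c⁻¹ := by
      refine eq_inv_of_mul_eq_one_left ?_
      rw [hc, ht'i, show t' * (g * t' * g⁻¹ * t') * t' * (g * t' * g⁻¹ * t') =
        t' * ((g * t' * g⁻¹) * (t' * t') * (g * t' * g⁻¹)) * t' by group, ht'2, mul_one, hgt, mul_one, ht'2]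
    obtain ⟨k, hk⟩ : ∃ k : ℕ, (c ^ k) ^ 2 = c := by
      rcases eq_or_ne c 1 with e | e
      · exact ⟨0, by rw [e]; simp⟩
      have ho := h.order_s hP hcP e
      obtain ⟨j, hj⟩ := h.odd_s
      refine ⟨j + 1, ?_⟩
      rw [← pow_mul, show (j + 1) * 2 = orderOf c + 1 by omega, pow_succ, pow_orderOf_eq_one, one_mul]
    set p := c ^ k with hpdef
    have hpP : p ∈ (P : Subgroup G) := pow_mem hcP _
    have hpt : t' * p * t'⁻¹ = p⁻¹ := by rw [hpdef, ← conj_pow, hct, inv_pow]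
    set x := p⁻¹ * g with hx
    have hxH : x ∈ H := mul_mem (inv_mem (hPH hpP)) hg
    have hxt : Commute x t' := by
      refine mul_inv_eq_iff_eq_mul.1 ?_
      calc x * t' * x⁻¹ = p⁻¹ * (c * t') * p := by rw [hx, hc]; group
        _ = p⁻¹ * p ^ 2 * (t' * p * t'⁻¹) * t' := by rw [hk]; group
        _ = t' := by rw [hpt, pow_two]; group
    have hord := h.order_dvd ht' hxt
    have h2s : x ^ (2 * s) = 1 := orderOf_dvd_iff_pow_eq_one.1 hord
    have hx2 : x ^ 2 ∈ (P : Subgroup G) := hPR ▸ hR0 _ (pow_mem hxH 2) (by rwa [← pow_mul])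
    have hxs : x ^ s = 1 ∨ x ^ s = t' := by
      by_contra hcon
      push Not at hcon
      have hxs2 : (x ^ s) * (x ^ s) = 1 := by rw [← pow_add, ← two_mul]; exact h2s
      have hsub : ({1, t', x ^ s, t' * x ^ s} : Set G) ⊆ (zpowers t' ⊔ zpowers (x ^ s) : Subgroup G) := by
        rintro _ (rfl | rfl | rfl | rfl)
        exacts [one_mem _, mem_sup_left (mem_zpowers _), mem_sup_right (mem_zpowers _),
          mul_mem (mem_sup_left (mem_zpowers _)) (mem_sup_right (mem_zpowers _))]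
      have h4 := Set.ncard_le_ncard hsub (Set.toFinite _)
      have ht'1 : t' ≠ 1 := fun e => by rw [e, orderOf_one] at ht'; omega
      rw [Set.ncard_insert_of_notMem (by
          simp only [Set.mem_insert_iff, Set.mem_singleton_iff, not_or]
          exact ⟨ht'1.symm, Ne.symm hcon.1, fun e => hcon.2 ((mul_left_cancel (e.symm.trans ht'2.symm)))⟩),
        Set.ncard_insert_of_notMem (by
          simp only [Set.mem_insert_iff, Set.mem_singleton_iff, not_or]
          exact ⟨Ne.symm hcon.2, fun e => hcon.1 (mul_eq_left.1 e.symm)⟩),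
        Set.ncard_pair (fun e => ht'1 (mul_eq_right.1 e.symm)), ← Nat.card_coe_set_eq] at h4
      have h2g : ∀ y : G, y * y = 1 → IsPGroup 2 ↥(zpowers y) := fun y hy => by
        obtain ⟨i, -, hi⟩ := (Nat.dvd_prime_pow Nat.prime_two).1 (show orderOf y ∣ 2 ^ 1 by
          rw [pow_one]; exact orderOf_dvd_of_pow_eq_one (by rw [pow_two, hy]))
        exact IsPGroup.of_card (n := i) ((Nat.card_zpowers y).trans hi)
      have h5 := hfour _ (sup_le (zpowers_le.2 ht'H) (zpowers_le.2 (pow_mem hxH s)))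
        ((h2g t' ht'2).to_sup_of_normal_left' (h2g _ hxs2) (zpowers_le.2 (mem_nrm fun y hy => by
          obtain ⟨i, rfl⟩ := mem_zpowers_iff.1 hy
          rw [((hxt.pow_left s).zpow_right i).eq, mul_inv_cancel_right]
          exact hy)))
      exact absurd h4 (by
        show ¬ (4 : ℕ) ≤ _
        exact not_le.2 h5)
    obtain ⟨j, hj⟩ := h.odd_s
    have e : x = x ^ s * ((x ^ 2) ^ j)⁻¹ := by rw [hj, ← pow_mul, pow_succ']; group
    have hgx : g = p * x := by rw [hx, mul_inv_cancel_left]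
    rcases hxs with e' | e' <;> rw [e'] at e
    · rw [one_mul] at e
      exact ⟨p * x, mul_mem hpP (e ▸ inv_mem (pow_mem hx2 j)), Or.inl hgx⟩
    · refine ⟨p * ((x ^ 2) ^ j)⁻¹, mul_mem hpP (inv_mem (pow_mem hx2 j)), Or.inr ?_⟩
      rw [hgx, mul_assoc]
      congr 1
      rw [e]
      nth_rw 2 [← e]
      have hc' : Commute t' (((x ^ 2) ^ j)⁻¹) := (((hxt.pow_left 2).pow_left j).inv_left).symm
      exact hc'.eq
  -- the fixed points of the involution lie in the derived group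
  set Pd := ⁅(P : Subgroup G), (P : Subgroup G)⁆ with hPd
  have hPdP : Pd ≤ (P : Subgroup G) := commutator_le_self (P : Subgroup G)
  let τ : ↥(P : Subgroup G) →* ↥(P : Subgroup G) :=
    { toFun := fun p => ⟨t' * p * t'⁻¹, hnP t' ht'H p p.2⟩
      map_one' := Subtype.ext (by simp)
      map_mul' := fun p q => Subtype.ext (by simp [mul_assoc]) }
  let φ : ↥(P : Subgroup G) →* Abelianization ↥(P : Subgroup G) :=
    Abelianization.of * Abelianization.of.comp τ
  set K := φ.ker.map (P : Subgroup G).subtype with hK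
  have hPdK : Pd ≤ K := by
    rw [hPd, ← (P : Subgroup G).range_subtype, MonoidHom.range_eq_map, ← map_commutator]
    exact map_mono (Abelianization.commutator_subset_ker φ)
  have hττ : ∀ p, τ (τ p) = p := fun p => Subtype.ext (by
    show t' * (t' * p * t'⁻¹) * t'⁻¹ = p
    rw [ht'i, show t' * (t' * (p : G) * t') * t' = (t' * t') * p * (t' * t') by group, ht'2, one_mul, mul_one])
  have hKn : ∀ g ∈ H, ∀ x ∈ K, g * x * g⁻¹ ∈ K := by
    have hp : ∀ g ∈ (P : Subgroup G), ∀ x ∈ K, g * x * g⁻¹ ∈ K := by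
      rintro g hg _ ⟨x, hx, rfl⟩
      exact ⟨⟨g, hg⟩ * x * ⟨g, hg⟩⁻¹, φ.normal_ker.conj_mem x hx _, rfl⟩
    have ht : ∀ x ∈ K, t' * x * t'⁻¹ ∈ K := by
      rintro _ ⟨x, hx, rfl⟩
      refine ⟨τ x, ?_, rfl⟩
      show φ (τ x) = 1
      simp only [φ, MonoidHom.mul_apply, MonoidHom.comp_apply, hττ]
      rw [mul_comm]
      exact hx
    intro g hg x hx
    obtain ⟨p, hp', e | e⟩ := hHform g hg <;> rw [e]
    · exact hp p hp' x hx
    · have := hp p hp' _ (ht x hx)
      simpa [mul_assoc] using this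
  have hHK : ⁅H, H⁆ ≤ K := by
    haveI : (K.subgroupOf H).Normal := ⟨fun x hx g => hKn g g.2 x hx⟩
    set π := QuotientGroup.mk' (K.subgroupOf H) with hπ
    have hπ1 : ∀ y : ↥H, (y : G) ∈ K → π y = 1 := fun y hy => (QuotientGroup.eq_one_iff y).2 hy
    have hpp : ∀ p q : ↥H, (p : G) ∈ (P : Subgroup G) → (q : G) ∈ (P : Subgroup G) → Commute (π p) (π q) := by
      intro p q hp hq
      refine commutatorElement_eq_one_iff_commute.1 ?_
      rw [← map_commutatorElement]
      exact hπ1 _ (hPdK (commutator_mem_commutator hp hq))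
    have hpt : ∀ p : ↥H, (p : G) ∈ (P : Subgroup G) → Commute (π ⟨t', ht'H⟩) (π p) := by
      intro p hp
      refine commutatorElement_eq_one_iff_commute.1 ?_
      rw [← map_commutatorElement]
      refine hπ1 _ ⟨τ ⟨p, hp⟩ * ⟨p, hp⟩⁻¹, ?_, rfl⟩
      show φ _ = 1
      simp only [φ, MonoidHom.mul_apply, MonoidHom.comp_apply, map_mul, map_inv, hττ]
      simp only [mul_comm, mul_inv_cancel]
    have hgen : ∀ g : ↥H, ∃ p : ↥H, (p : G) ∈ (P : Subgroup G) ∧ (π g = π p ∨ π g = π p * π ⟨t', ht'H⟩) := by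
      intro g
      obtain ⟨p, hp, e | e⟩ := hHform g g.2
      · exact ⟨g, e ▸ hp, Or.inl rfl⟩
      · refine ⟨⟨p, hPH hp⟩, hp, Or.inr ?_⟩
        rw [← map_mul]
        exact congrArg π (Subtype.ext e)
    rw [Subgroup.commutator_le]
    intro g hg k hk
    obtain ⟨p, hp, e⟩ := hgen ⟨g, hg⟩
    obtain ⟨q, hq, e'⟩ := hgen ⟨k, hk⟩
    have hcomm : Commute (π ⟨g, hg⟩) (π ⟨k, hk⟩) := by
      have hp' := hpt p hp
      have hq' := hpt q hq
      have hpq := hpp p q hp hq
      rcases e with e | e <;> rcases e' with e' | e' <;> rw [e, e']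
      · exact hpq
      · exact hpq.mul_right hp'.symm
      · exact hpq.mul_left hq'
      · exact (hpq.mul_left hq').mul_right (hp'.symm.mul_left (Commute.refl _))
    rw [← commutatorElement_eq_one_iff_commute, ← map_commutatorElement] at hcomm
    exact mem_subgroupOf.1 ((QuotientGroup.eq_one_iff _).1 hcomm)
  have hPK : (P : Subgroup G) ≤ K := by
    have hgr := Cfsg.Agent.S4216.result P
    rw [hperf, inf_top_eq] at hgr
    refine hgr.le.trans (sup_le ?_ (iSup_le fun g => ?_))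
    · refine inf_le_right.trans ((commutator_mono hNP hNP).trans hHK)
    · rintro x ⟨hx, y, hy, rfl⟩
      obtain ⟨m, hm, hmy⟩ := hfus {y} (Set.singleton_subset_iff.2 (hPdP hy)) g⁻¹ (fun w hw => by
        rw [Set.mem_singleton_iff.1 hw, inv_inv]
        exact hx)
      have h1 := hKn m⁻¹ (inv_mem hm) y (hPdK hy)
      rw [inv_inv, hmy y rfl, inv_inv] at h1
      exact h1
  have hTd : ∀ x ∈ (P : Subgroup G), Commute x t' → x ∈ Pd := by
    intro x hx hc
    obtain ⟨x', hx', e⟩ := hPK hx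
    have hτx : τ x' = x' := Subtype.ext (by
      show t' * (x' : G) * t'⁻¹ = x'
      rw [show (x' : G) = x from e, hc.symm.eq, mul_inv_cancel_right])
    have h1 : Abelianization.of x' * Abelianization.of x' = 1 := by
      have h0 : φ x' = 1 := hx'
      simp only [φ, MonoidHom.mul_apply, MonoidHom.comp_apply, hτx] at h0
      exact h0
    have h2 : Abelianization.of x' = 1 := by
      obtain ⟨j, hj⟩ := h.odd_s
      have hs : Abelianization.of x' ^ s = 1 := by
        rw [← map_pow, show x' ^ s = 1 from Subtype.ext (by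
          push_cast
          exact h.pow_of_mem hP x'.2), map_one]
      have hs' : Abelianization.of x' ^ (2 * j + 1) = 1 :=
        (congrArg (fun k => Abelianization.of x' ^ k) hj).symm.trans hs
      rwa [pow_succ, pow_mul, pow_two, h1, one_pow, one_mul] at hs'
    have h3 : x' ∈ commutator ↥(P : Subgroup G) := by rw [← Abelianization.ker_of]; exact h2
    rw [hPd, ← (P : Subgroup G).range_subtype, MonoidHom.range_eq_map, ← map_commutator]
    exact ⟨x', h3, e⟩
  -- inside the strongly embedded subgroup of the involution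
  obtain ⟨g, hg⟩ := isConj_iff.1 (Cfsg.Lib.StrongEmb.all_conj hSE ht' (h.order_S S ht₀ ht₀1))
  set P1 := (P : Subgroup G).map (MulAut.conj g).toMonoidHom with hP1
  have hP1s : IsPGroup s ↥P1 := hP.map _
  have hodd1 : ∀ x ∈ P1, Odd (orderOf x) := fun x hx => by
    rcases eq_or_ne x 1 with rfl | hx1
    · rw [orderOf_one]; exact odd_one
    rw [h.order_s hP1s hx hx1]
    exact h.odd_s
  set T := P1 ⊓ centralizer ({t₀} : Set G) with hT
  have hTQ : T ≤ Q := fun x hx =>
    (L.mem_sup_cases (L.cent_le_QS hns ht₀ ht₀1 (mem_centralizer_singleton_iff.1 hx.2))).2 (hodd1 x hx.1)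
  have hc₁ : g * c₀ * g⁻¹ ∈ T :=
    ⟨conj_mem_map hc₀P, mem_centralizer_singleton_iff.2 (hg ▸ (commute_conj (g := g) hc₀t).eq)⟩
  set c₁ := g * c₀ * g⁻¹ with hc₁def
  have hc₁1 : c₁ ≠ 1 := fun e => hc₀1 (conj_eq_one_iff.1 e)
  have hc₁d : c₁ ∈ ⁅P1, P1⁆ := by
    rw [hP1, ← map_commutator]
    exact conj_mem_map (hTd c₀ hc₀P hc₀t)
  have hτP : t₀ * c₁ * t₀⁻¹ = c₁ := by
    rw [← (mem_centralizer_singleton_iff.1 hc₁.2 : c₁ * t₀ = t₀ * c₁)]
    group
  have hP1M : ¬ P1 ≤ M := by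
    intro hle
    refine hQall g fun p hp => ?_
    have hpM : g * p * g⁻¹ ∈ M := hle (conj_mem_map hp)
    set c := (g * p * g⁻¹) * t₀ * (g * p * g⁻¹)⁻¹ * t₀⁻¹ with hc
    have hcS : c ∈ (S : Subgroup G) := mul_mem (L.normal_S hns hpM ht₀) (inv_mem ht₀)
    have hcP : c ∈ P1 := by
      rw [show c = g * (p * (t' * p⁻¹ * t'⁻¹)) * g⁻¹ by rw [hc, ← hg]; group]
      exact conj_mem_map (mul_mem hp (hnP t' ht'H _ (inv_mem hp)))
    have hc1 : c = 1 := by
      by_contra hc1
      exact h.ne_two ((h.order_s hP1s hcP hc1).symm.trans (h.order_two S.2 hcS hc1))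
    rw [hc, mul_inv_eq_one, mul_inv_eq_iff_eq_mul] at hc1
    exact hTQ ⟨conj_mem_map hp, mem_centralizer_singleton_iff.2 hc1⟩
  set Pt := P1 ⊓ M with hPt
  haveI : Group.IsNilpotent ↥P1 := hP1s.isNilpotent
  have hlt := Group.normalizerCondition_of_isNilpotent (G := ↥P1) ((M).subgroupOf P1) (lt_top_iff_ne_top.2 fun e =>
    hP1M (subgroupOf_eq_top.1 e))
  obtain ⟨m, hm, hmM⟩ := SetLike.exists_of_lt hlt
  have hmM' : (m : G) ∉ M := fun e => hmM (mem_subgroupOf.2 e)
  have hTle : T ≤ Pt := fun x hx => ⟨hx.1, le_normalizer (hTQ hx)⟩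
  set Tm := T.map (MulAut.conj (m : G)).toMonoidHom with hTm
  have hTmM : Tm ≤ M := by
    rintro _ ⟨x, hx, rfl⟩
    have := (mem_normalizer_iff.1 hm ⟨x, hx.1⟩).1 (mem_subgroupOf.2 (hTle hx).2)
    exact mem_subgroupOf.1 this
  have hTmQ : (Q ⊔ (S : Subgroup G)) ⊓ Tm = ⊥ := eq_bot_iff.2 (by
    rintro _ ⟨hb', ⟨x, hx, rfl⟩⟩
    have hQ' : MulAut.conj (m : G) x ∈ Q := (L.mem_sup_cases hb').2 (by
      rw [MulEquiv.coe_toMonoidHom, MulEquiv.orderOf_eq]
      exact hodd1 x hx.1)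
    rw [mem_bot]
    exact (map_eq_one_iff _ (MulAut.conj (m : G)).injective).2
      (L.ti hns (hTQ hx) (g := (m : G)⁻¹) (by simpa using hQ') (fun e => hmM' (inv_inv (m : G) ▸ inv_mem e))))
  have hTs : Nat.card ↥T ≤ s := by
    have hm1 : Nat.card ↥Tm = Nat.card ↥T := Subgroup.card_map_of_injective (MulAut.conj (m : G)).injective
    rw [← hm1, ← hl, ← L.relIndex_QS hns]
    show Nat.card ↥Tm ≤ _
    rw [← Subgroup.relIndex_bot_left Tm, ← hTmQ, inf_relIndex_right]
    exact Subgroup.relIndex_le_of_le_right hTmM Subgroup.FiniteIndex.index_ne_zero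
  have hPts : Nat.card ↥Pt ≤ s ^ 2 := by
    have h1 : Nat.card ↥Pt = (Q ⊔ (S : Subgroup G)).relIndex Pt * Nat.card ↥((Q ⊔ (S : Subgroup G)) ⊓ Pt : Subgroup G) := by
      unfold Subgroup.relIndex
      rw [← Subgroup.index_mul_card ((Q ⊔ (S : Subgroup G)).subgroupOf Pt)]
      congr 1
      rw [← Subgroup.card_map_of_injective Pt.subtype_injective, subgroupOf_map_subtype]
    have h2 : (Q ⊔ (S : Subgroup G)) ⊓ Pt ≤ T := fun x hx => ⟨hx.2.1, mem_centralizer_singleton_iff.2
      (L.centralizes hns t₀ ht₀ x ((L.mem_sup_cases hx.1).2 (hodd1 x hx.2.1))).symm.eq⟩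
    rw [h1, pow_two]
    refine Nat.mul_le_mul ?_ ((Subgroup.card_le_of_le h2).trans hTs)
    rw [← hl, ← L.relIndex_QS hns]
    exact Subgroup.relIndex_le_of_le_right inf_le_right Subgroup.FiniteIndex.index_ne_zero
  have hc₁' : (⟨c₁, hc₁.1⟩ : ↥P1) ∈ commutator ↥P1 := by
    have h0 : c₁ ∈ (commutator ↥P1).map P1.subtype := by
      rw [_root_.commutator_def, map_commutator, ← MonoidHom.range_eq_map, range_subtype]
      exact hc₁d
    obtain ⟨y, hy, e⟩ := h0
    rwa [show y = (⟨c₁, hc₁.1⟩ : ↥P1) from Subtype.ext e] at hy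
  refine hc₁1 (congrArg Subtype.val (eq_one_of_small_centralizer hP1s hc₁' (le_trans ?_ hPts)))
  refine Nat.card_le_card_of_injective
    (fun x : centralizer ({(⟨c₁, hc₁.1⟩ : ↥P1)} : Set ↥P1) => (⟨((x : ↥P1) : G), (x : ↥P1).2, ?_⟩ : ↥Pt))
    fun x y e => Subtype.ext (Subtype.ext (congrArg (fun v : ↥Pt => (v : G)) e))
  exact L.cent_le hns (hTQ hc₁) hc₁1 (mem_centralizer_singleton_iff.2
    (congrArg Subtype.val (mem_centralizer_singleton_iff.1 x.2)))

end Setup

end Cfsg.Lib.CITExt.TwoS
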