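import Cfsg.Agent.CITExt.TwoS.Structure

/-!
The normaliser of the Sylow 2-subgroup when all odd cores of involution centralisers are trivial.
-/

set_option autoImplicit false
set_option linter.unusedSectionVars false
set_option linter.style.haveILetI false

namespace Cfsg.Lib.CITExt.TwoS

open Subgroup Cfsg.Lib.CITGroups

universe u

variable {G : Type u} [Group G] [Finite G] {s : ℕ}

/-- no odd cores in the centralisers of involutions -/
structure NoCore (s : ℕ) (S : Sylow 2 G) : Prop where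
  hyp : Hyp s G
  eight : 8 ≤ Nat.card ↥(S : Subgroup G)
  ot : ∀ t ∈ (S : Subgroup G), t ≠ 1 → OT t = ⊥
  nonsolv : ¬ Group.IsSolvable G

/-- a solvable subgroup with a four-group in a strongly embedded subgroup lies in it -/
theorem Hyp.le_of_four (h : Hyp s G) {H Y E : Subgroup G} (hSE : Cfsg.IsStronglyEmbedded H)
    (hY : Group.IsSolvable ↥Y) (hEY : E ≤ Y) (hEH : E ≤ H) (hE : IsPGroup 2 ↥E) (hE4 : 4 ≤ Nat.card ↥E) :
    Y ≤ H := by
  haveI : Fact (Nat.Prime 2) := ⟨Nat.prime_two⟩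
  obtain ⟨P, hP⟩ := (hE.comap_of_injective Y.subtype Y.subtype_injective :
    IsPGroup 2 ↥(E.subgroupOf Y)).exists_le_sylow
  set T := (P : Subgroup ↥Y).map Y.subtype with hT
  have hTY : T ≤ Y := map_subtype_le _
  have hT2 : IsPGroup 2 ↥T := P.2.map _
  have hET : E ≤ T := fun e he => ⟨⟨e, hEY he⟩, hP (mem_subgroupOf.2 he), rfl⟩
  obtain ⟨e, he, he1⟩ := (Subgroup.bot_or_exists_ne_one E).resolve_left fun hb => by
    rw [hb] at hE4
    norm_num at hE4
  have he2 := h.order_two hE he he1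
  have hTH : T ≤ H := fun t ht => Cfsg.Lib.StrongEmb.centralizer_le hSE he2 (hEH he)
    (mem_centralizer_singleton_iff.2 (h.comm_two_group hT2 ht (hET he)).eq)
  have hidx : ¬ 2 ∣ T.relIndex Y := by
    rw [hT, Subgroup.relIndex, Subgroup.subgroupOf, Subgroup.comap_map_eq_self_of_injective Y.subtype_injective]
    exact P.not_dvd_index
  obtain ⟨-, h2⟩ := h.solvable_structure hY hTY hT2 hidx
  have hOH : OX Y ≤ H := h.le_of_centralizers hE hE4 (ox_odd Y) (fun t ht => ox_conj (hEY ht))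
    (fun t ht ht1 x _ hc => Cfsg.Lib.StrongEmb.centralizer_le hSE (h.order_two hE ht ht1) (hEH ht)
      (mem_centralizer_singleton_iff.2 hc.eq))
  intro y hy
  obtain ⟨o, ho, n, -, hn, rfl⟩ := h2 y hy
  exact mul_mem (hOH ho) (Cfsg.Lib.StrongEmb.conj_eq hSE he2 (hEH he) (hTH (hn e (hET he))))

namespace NoCore

variable {S : Sylow 2 G}

local notation "NS" => normalizer ((S : Subgroup G) : Set G)

theorem cent_le (B : NoCore s S) {t x : G} (ht : t ∈ (S : Subgroup G)) (ht1 : t ≠ 1) (hc : Commute x t) :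
    x ∈ NS := by
  obtain ⟨o, ho, n, -, hn, rfl⟩ := (B.hyp.solvable_structure (B.hyp.solvable_centralizer
    (Or.inl (B.hyp.order_S S ht ht1))) (B.hyp.sylow_le_cent S ht) S.2
    (sylow_relIndex S _ (B.hyp.sylow_le_cent S ht))).2 x (mem_centralizer_singleton_iff.2 hc.eq)
  have ho1 : o = 1 := mem_bot.1 ((B.ot t ht ht1).le ho)
  rw [ho1, one_mul]
  exact mem_nrm hn

theorem exists_one (B : NoCore s S) : ∃ t ∈ (S : Subgroup G), t ≠ 1 :=
  (Subgroup.bot_or_exists_ne_one (S : Subgroup G)).resolve_left fun hb => by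
    have := B.eight
    rw [hb] at this
    norm_num at this

theorem inv_in_S (B : NoCore s S) {t : G} (ht : orderOf t = 2) (htN : t ∈ NS) : t ∈ (S : Subgroup G) := by
  haveI : Fact (Nat.Prime 2) := ⟨Nat.prime_two⟩
  have h2 : IsPGroup 2 ↥(zpowers t) := IsPGroup.of_card (n := 1) (by rw [Nat.card_zpowers, ht, pow_one])
  have h3 : t ∈ zpowers t ⊓ NS := ⟨mem_zpowers _, htN⟩
  have h4 : zpowers t ⊓ NS = zpowers t ⊓ (S : Subgroup G) := h2.inf_normalizer_sylow S
  exact (h4 ▸ h3 : t ∈ zpowers t ⊓ (S : Subgroup G)).2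

theorem ne_top (B : NoCore s S) : NS ≠ ⊤ := fun e => by
  obtain ⟨t, ht, ht1⟩ := B.exists_one
  haveI : Fact (Nat.Prime 2) := ⟨Nat.prime_two⟩
  haveI := Subgroup.normalizer_eq_top_iff.1 e
  exact ht1 (mem_bot.1 ((B.hyp.no_two_normal B.nonsolv (S : Subgroup G) S.2).le ht))

theorem strongly (B : NoCore s S) : Cfsg.IsStronglyEmbedded NS := by
  haveI : Fact (Nat.Prime 2) := ⟨Nat.prime_two⟩
  refine Cfsg.Lib.StrongEmb.of_conditions B.ne_top ?_ ?_ ?_
  · obtain ⟨t, ht, ht1⟩ := B.exists_one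
    refine even_iff_two_dvd.2 ?_
    have h1 := _root_.orderOf_dvd_natCard (⟨t, le_normalizer ht⟩ : ↥NS)
    rw [orderOf_mk, B.hyp.order_S S ht ht1] at h1
    exact h1
  · intro t htN ht x hx
    exact B.cent_le (B.inv_in_S ht htN) (fun e => by rw [e, orderOf_one] at ht; omega)
      (mem_centralizer_singleton_iff.1 hx)
  · intro t htN t' htN' ht ht' hc
    obtain ⟨g, hg⟩ := isConj_iff.1 hc
    obtain ⟨n, hn, hne⟩ := Cfsg.Lib.Transfer.abelian_sylow_fusion S
      ⟨⟨fun a b => Subtype.ext (B.hyp.comm_two_group S.2 a.2 b.2).eq⟩⟩ t g (B.inv_in_S ht htN)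
      (by rw [hg]; exact B.inv_in_S ht' htN')
    exact ⟨n, hn, hne.symm.trans hg⟩

theorem trans (B : NoCore s S) {t t' : G} (ht : t ∈ (S : Subgroup G)) (ht1 : t ≠ 1) (ht' : t' ∈ (S : Subgroup G))
    (ht1' : t' ≠ 1) : ∃ n ∈ NS, n * t * n⁻¹ = t' := by
  haveI : Fact (Nat.Prime 2) := ⟨Nat.prime_two⟩
  obtain ⟨g, hg⟩ := isConj_iff.1 (Cfsg.Lib.StrongEmb.all_conj B.strongly (B.hyp.order_S S ht ht1)
    (B.hyp.order_S S ht' ht1'))
  obtain ⟨n, hn, hne⟩ := Cfsg.Lib.Transfer.abelian_sylow_fusion S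
    ⟨⟨fun a b => Subtype.ext (B.hyp.comm_two_group S.2 a.2 b.2).eq⟩⟩ t g ht (by rw [hg]; exact ht')
  exact ⟨n, hn, hne.symm.trans hg⟩

theorem parts (B : NoCore s S) {t x : G} (ht : t ∈ (S : Subgroup G)) (ht1 : t ≠ 1) (hc : Commute x t) :
    x ^ s ∈ (S : Subgroup G) ∧ (x ^ 2) ^ s = 1 := by
  haveI : Fact (Nat.Prime 2) := ⟨Nat.prime_two⟩
  have h1 : orderOf x ∣ 2 * s := by
    by_cases h2 : 2 ∣ orderOf x
    · rcases B.hyp.two x h2 with e | e <;> rw [e]
      exact dvd_mul_right 2 s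
    by_cases hs : s ∣ orderOf x
    · rcases B.hyp.spart x hs with e | e <;> rw [e]
      exact dvd_mul_left s 2
    rcases eq_or_ne (orderOf x) 1 with e | e
    · rw [e]; exact one_dvd _
    obtain ⟨r, hr, hrd⟩ := Nat.exists_prime_and_dvd e
    exact absurd (hc.pow_left (orderOf x / r)) (B.hyp.not_comm hr (fun e' => h2 (e' ▸ hrd))
      (fun e' => hs (e' ▸ hrd)) (orderOf_pow_orderOf_div (orderOf_pos x).ne' hrd) (Or.inl (B.hyp.order_S S ht ht1)))
  have h2 : x ^ (2 * s) = 1 := orderOf_dvd_iff_pow_eq_one.1 h1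
  refine ⟨?_, by rwa [← pow_mul]⟩
  rcases eq_or_ne (x ^ s) 1 with e | e
  · rw [e]; exact one_mem _
  exact B.inv_in_S (orderOf_eq_prime (by rwa [← pow_mul, mul_comm s 2]) e) (pow_mem (B.cent_le ht ht1 hc) s)

theorem self_cent (B : NoCore s S) {x : G} (hc : ∀ a ∈ (S : Subgroup G), Commute x a) : x ∈ (S : Subgroup G) := by
  obtain ⟨t, ht, ht1⟩ := B.exists_one
  obtain ⟨h1, h2⟩ := B.parts ht ht1 (hc t ht)
  have hR : zpowers (x ^ 2) ≤ OX (centralizer ({t} : Set G)) :=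
    B.hyp.inv_le_ox (B.hyp.solvable_centralizer (Or.inl (B.hyp.order_S S ht ht1))) (B.hyp.sylow_le_cent S ht)
      ⟨B.hyp.zpowers_sgroup h2, fun a ha y hy => by
        obtain ⟨k, rfl⟩ := mem_zpowers_iff.1 hy
        rw [((((hc a ha).pow_left 2).symm).zpow_right k).eq, mul_inv_cancel_right]
        exact hy⟩
      (zpowers_le.2 (mem_centralizer_singleton_iff.2 ((hc t ht).pow_left 2).eq))
  have h3 : x ^ 2 = 1 := mem_bot.1 ((B.ot t ht ht1).le (hR (mem_zpowers _)))
  obtain ⟨k, hk⟩ := B.hyp.odd_s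
  rw [hk, pow_succ, pow_mul, h3, one_pow, one_mul] at h1
  exact h1

set_option maxHeartbeats 1600000 in
/-- the structure of the normaliser -/
theorem local_data (B : NoCore s S) (hex : ∃ g : G, orderOf g = 2 * s) :
    ∃ (L : Subgroup G) (t₁ y : G), L ≤ NS ∧ (S : Subgroup G) ≤ L ∧ (∀ g ∈ NS, ∀ x ∈ L, g * x * g⁻¹ ∈ L) ∧
      L.relIndex NS = s ∧
      Nat.card ↥L = Nat.card ↥(S : Subgroup G) * Nat.card {x : G // x ∈ (S : Subgroup G) ∧ x ≠ 1} ∧
      ¬ s ∣ Nat.card {x : G // x ∈ (S : Subgroup G) ∧ x ≠ 1} ∧ y ∈ NS ∧ orderOf y = s ∧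
      t₁ ∈ (S : Subgroup G) ∧ t₁ ≠ 1 ∧ Commute y t₁ ∧
      ∀ a ∈ (S : Subgroup G), Commute y a → a = 1 ∨ a = t₁ := by
  classical
  haveI : Fact (Nat.Prime 2) := ⟨Nat.prime_two⟩
  haveI := Fact.mk B.hyp.prime
  have h := B.hyp
  have hcop : (Nat.card ↥(S : Subgroup G)).Coprime ((S : Subgroup G).relIndex NS) := by
    obtain ⟨i, hi⟩ := IsPGroup.iff_card.1 S.2
    rw [hi]
    exact Nat.Coprime.pow_left _ (Nat.prime_two.coprime_iff_not_dvd.2 (sylow_relIndex S _ le_normalizer))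
  obtain ⟨Y, hYN, hSY, hYc⟩ := Cfsg.Lib.Coprime.exists_complement_in le_normalizer le_rfl hcop
  have hYodd : Odd (Nat.card ↥Y) := by
    rw [hYc]
    exact Nat.not_even_iff_odd.1 fun e => sylow_relIndex S _ le_normalizer e.two_dvd
  have hodd : ∀ y ∈ Y, Odd (orderOf y) := fun y hy =>
    Odd.of_dvd_nat hYodd (by rw [← orderOf_mk y hy]; exact _root_.orderOf_dvd_natCard _)
  have hSY1 : ∀ y ∈ Y, y ∈ (S : Subgroup G) → y = 1 := fun y hy hyS =>
    eq_one_of_two_odd (two_of_mem S.2 hyS) (hodd y hy)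
  have hprod : ∀ m ∈ NS, ∃ a ∈ (S : Subgroup G), ∃ y ∈ Y, m = a * y := by
    intro m hm
    rw [← hSY, ← SetLike.mem_coe, coe_mul_of_right_le_normalizer_left _ _ hYN] at hm
    obtain ⟨a, ha, y, hy, rfl⟩ := hm
    exact ⟨a, ha, y, hy, rfl⟩
  have hmove : ∀ y ∈ Y, y ≠ 1 → ¬ ∀ a ∈ (S : Subgroup G), Commute y a := fun y hy hy1 hc =>
    hy1 (hSY1 y hy (B.self_cent hc))
  have hconjS : ∀ y ∈ Y, ∀ a ∈ (S : Subgroup G), y * a * y⁻¹ ∈ (S : Subgroup G) := fun y hy a ha =>
    nrm_conj (hYN hy) ha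
  have htrY : ∀ t ∈ (S : Subgroup G), t ≠ 1 → ∀ z, z ∈ (S : Subgroup G) ∧ z ≠ 1 →
      ∃ y ∈ Y, y * t * y⁻¹ = z := by
    intro t ht ht1 z ⟨hz, hz1⟩
    obtain ⟨m, hm, hmt⟩ := B.trans ht ht1 hz hz1
    obtain ⟨a, ha, y, hy, rfl⟩ := hprod m hm
    refine ⟨y, hy, ?_⟩
    rw [← hmt, show a * y * t * (a * y)⁻¹ = a * (y * t * y⁻¹) * a⁻¹ by group,
      (h.comm_two_group S.2 ha (hconjS y hy t ht)).eq, mul_inv_cancel_right]
  have hrel : ∀ t ∈ (S : Subgroup G), t ≠ 1 →
      (centralizer ({t} : Set G)).relIndex Y = Nat.card {x : G // x ∈ (S : Subgroup G) ∧ x ≠ 1} :=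
    fun t ht ht1 => relIndex_centralizer _
      (fun y hy => ⟨hconjS y hy t ht, fun e => ht1 (conj_eq_one_iff.1 e)⟩) (htrY t ht ht1)
  -- an element of order `s` with a fixed involution
  obtain ⟨y, hyY, hys, t₁, ht₁, ht₁1, hyt⟩ : ∃ y ∈ Y, orderOf y = s ∧
      ∃ t ∈ (S : Subgroup G), t ≠ 1 ∧ Commute y t := by
    obtain ⟨g, hg⟩ := hex
    have hgs : orderOf (g ^ s) = 2 := by
      rw [orderOf_pow' g h.prime.ne_zero, hg, Nat.gcd_eq_right (dvd_mul_left s 2), Nat.mul_div_cancel _ h.prime.pos]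
    have hg2 : orderOf (g ^ 2) = s := by
      rw [orderOf_pow' g two_ne_zero, hg, Nat.gcd_eq_right (dvd_mul_right 2 s), Nat.mul_div_cancel_left _ two_pos]
    obtain ⟨t, ht, ht1⟩ := B.exists_one
    obtain ⟨c, hc⟩ := isConj_iff.1 (Cfsg.Lib.StrongEmb.all_conj B.strongly hgs (h.order_S S ht ht1))
    set x := c * g ^ 2 * c⁻¹ with hx
    have hxo : orderOf x = s := (MulEquiv.orderOf_eq (MulAut.conj c) _).trans hg2
    have hxt : Commute x t := by
      have := ((Commute.refl g).pow_pow 2 s).map (MulAut.conj c).toMonoidHom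
      rw [← hc, hx]
      simpa using this
    obtain ⟨a, ha, y, hy, e⟩ := hprod x (B.cent_le ht ht1 hxt)
    have hyt : Commute y t := by
      rw [show y = a⁻¹ * x by rw [e]; group]
      exact ((h.comm_two_group S.2 ha ht).inv_left).mul_left hxt
    have hy1 : y ≠ 1 := fun e' => by
      rw [e', mul_one] at e
      rw [e] at hxo
      rw [h.order_S S ha (fun e'' => by rw [e'', orderOf_one] at hxo; exact h.prime.one_lt.ne hxo)] at hxo
      exact h.ne_two hxo.symm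
    refine ⟨y, hy, orderOf_eq_prime ?_ hy1, t, ht, ht1, hyt⟩
    obtain ⟨h1, h2⟩ := B.parts ht ht1 hyt
    exact hSY1 _ (pow_mem hy s) h1
  have hy1 : y ≠ 1 := fun e => h.prime.one_lt.ne (by rw [← hys, e, orderOf_one])
  have hyS : ∀ a ∈ (S : Subgroup G), y * a * y⁻¹ ∈ (S : Subgroup G) := hconjS y hyY
  haveI hYsol : Group.IsSolvable ↥Y := Cfsg.Agent.PF.isSolvable_of_odd _ hYodd
  have hcore : Cfsg.pCore s ↥Y = ⊥ := by
    by_contra hne
    set R := (Cfsg.pCore s ↥Y).map Y.subtype with hR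
    have hRY : R ≤ Y := map_subtype_le _
    have hRs : IsPGroup s ↥R := (Cfsg.Lib.Components.isPGroup_pCore s).map _
    have hRn : ∀ g ∈ Y, ∀ x ∈ R, g * x * g⁻¹ ∈ R := by
      rintro g hg _ ⟨x, hx, rfl⟩
      exact ⟨⟨g, hg⟩ * x * ⟨g, hg⟩⁻¹, (inferInstance : (Cfsg.pCore s ↥Y).Normal).conj_mem x hx _, rfl⟩
    have hyR : y ∈ R := by
      have := (h.subgroup Y).sclosed hne (fun z _ K hK _ k hk => by
        rw [eq_one_of_two_odd (two_of_mem hK hk) (Odd.of_dvd_nat hYodd (_root_.orderOf_dvd_natCard _))]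
        exact Commute.one_right _) ⟨y, hyY⟩ (Subtype.ext (by
          push_cast
          rw [← hys, pow_orderOf_eq_one]))
      exact ⟨_, this, rfl⟩
    by_cases hprimes : ∀ r : ℕ, r.Prime → r ∣ Nat.card ↥Y → r = s
    · have hYs : IsPGroup s ↥Y :=
        IsPGroup.of_card (Nat.eq_prime_pow_of_unique_prime_dvd Nat.card_pos.ne' fun {q} hq hd => hprimes q hq hd)
      obtain ⟨k, hk⟩ := IsPGroup.iff_card.1 hYs
      obtain ⟨a, -, ha⟩ := (Nat.dvd_prime_pow h.prime).1
        (show Nat.card {x : G // x ∈ (S : Subgroup G) ∧ x ≠ 1} ∣ s ^ k by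
          rw [← hrel t₁ ht₁ ht₁1, ← hk]
          exact Subgroup.index_dvd_card ((centralizer ({t₁} : Set G)).subgroupOf Y))
      obtain ⟨m, hm⟩ := IsPGroup.iff_card.1 S.2
      have hm2 : 2 ≤ m := by
        have := B.eight
        rw [hm] at this
        exact le_of_lt ((Nat.pow_le_pow_iff_right (a := 2) (by norm_num)).1 (by norm_num; exact this : 2 ^ 3 ≤ 2 ^ m))
      have ha1 := eq_one_of_pow_add_one h.odd_s (by
        have := h.prime.two_le
        have := h.ne_two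
        omega) hm2 (by rw [← ha, ← hm]; exact card_nonidentity _ : s ^ a + 1 = 2 ^ m)
      haveI hnormal : ((centralizer ({t₁} : Set G)).subgroupOf Y).Normal := by
        refine normal_of_index_eq_minFac_card ?_
        have hi : ((centralizer ({t₁} : Set G)).subgroupOf Y).index = s := by
          rw [← pow_one s, ← ha1, ← ha, ← hrel t₁ ht₁ ht₁1]; rfl
        rw [hi, hk]
        refine (h.prime.pow_minFac fun e0 => ?_).symm
        have h1 : s ∣ Nat.card ↥Y :=
          hi ▸ Subgroup.index_dvd_card ((centralizer ({t₁} : Set G)).subgroupOf Y)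
        rw [hk, e0, pow_zero] at h1
        exact h.prime.one_lt.ne' (Nat.eq_one_of_dvd_one h1)
      refine hmove y hyY hy1 fun z hz => ?_
      rcases eq_or_ne z 1 with rfl | hz1
      · exact Commute.one_right _
      obtain ⟨y', hy', hzy⟩ := htrY t₁ ht₁ ht₁1 z ⟨hz, hz1⟩
      have h1 := hnormal.conj_mem ⟨y, hyY⟩ (mem_subgroupOf.2 (mem_centralizer_singleton_iff.2 hyt.eq)) ⟨y', hy'⟩⁻¹
      rw [mem_subgroupOf, mem_centralizer_singleton_iff] at h1
      push_cast at h1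
      rw [← hzy]
      have h2 := (show Commute (y'⁻¹ * y * y'⁻¹⁻¹) t₁ from h1).map (MulAut.conj y').toMonoidHom
      simpa [mul_assoc] using h2
    · push Not at hprimes
      obtain ⟨r, hr, hrd, hrs⟩ := hprimes
      haveI := Fact.mk hr
      obtain ⟨⟨ρ, hρY⟩, hρ⟩ := exists_prime_orderOf_dvd_card' (G := ↥Y) r hrd
      rw [orderOf_mk] at hρ
      have hr2 : r ≠ 2 := fun e => Nat.not_even_iff_odd.2 hYodd (even_iff_two_dvd.2 (e ▸ hrd))
      have hcomm := h.commute_of_fpf (V := (S : Subgroup G)) (W := R)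
        (fun a ha b hb => h.comm_two_group S.2 ha hb) (Or.inr S.2) hr hr2 hρ (hconjS ρ hρY)
        (fun w hw => hconjS w (hRY hw)) (fun w hw => hRn ρ hρY w hw)
        (fun w hw hc' => by
          by_contra hw1
          exact h.not_comm hr hr2 hrs hρ (Or.inr (h.order_s hRs hw hw1)) hc')
        (fun _ => hrs)
        (by
          obtain ⟨i, hi⟩ := IsPGroup.iff_card.1 S.2
          obtain ⟨j, hj⟩ := IsPGroup.iff_card.1 hRs
          rw [hi, hj]
          exact Nat.Coprime.pow _ _ ((Nat.coprime_primes h.prime Nat.prime_two).2 h.ne_two))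
      exact hmove y hyY hy1 fun a ha => hcomm y hyR a ha
  -- the `s`-subgroups of the complement have order at most `s`
  have hsmall : ∀ P : Subgroup G, P ≤ Y → IsPGroup s ↥P → Nat.card ↥P ≤ s := by
    intro P hPY hP
    by_contra hlt
    obtain ⟨i, hi⟩ := IsPGroup.iff_card.1 hP
    have hi2 : 2 ≤ i := by
      by_contra hi2
      rw [hi] at hlt
      exact hlt ((Nat.pow_le_pow_right h.prime.pos (show i ≤ 1 by omega)).trans (by rw [pow_one]))
    obtain ⟨A, hA⟩ := Sylow.exists_subgroup_card_pow_prime (G := ↥P) s (n := 2) (hi ▸ Nat.pow_dvd_pow s hi2)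
    set A' := A.map P.subtype with hA'
    have hAc : Nat.card ↥A' = s ^ 2 := by rw [hA', Subgroup.card_map_of_injective P.subtype_injective, hA]
    have hAs : IsPGroup s ↥A' := IsPGroup.of_card hAc
    have hAY : A' ≤ Y := (map_subtype_le _).trans hPY
    haveI : IsMulCommutative ↥A' := IsPGroup.isMulCommutative_of_card_eq_prime_sq hAc
    have hnc : ¬ IsCyclic ↥A' := fun hc => by
      obtain ⟨g, hg⟩ := hc.exists_generator
      have h1 := orderOf_eq_card_of_forall_mem_zpowers hg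
      have h2 : orderOf g ∣ s := orderOf_dvd_of_pow_eq_one (Subtype.ext (by
        push_cast
        exact h.pow_of_mem hAs g.2))
      rw [h1, hAc] at h2
      have h3 := Nat.le_of_dvd h.prime.pos h2
      have := h.prime.two_le
      nlinarith
    haveI : Nontrivial ↥Y := Y.nontrivial_iff_ne_bot.2 fun e => hy1 (mem_bot.1 (e ▸ hyY))
    obtain ⟨r, hr, hne⟩ : ∃ r : ℕ, r.Prime ∧ Cfsg.pCore r ↥Y ≠ ⊥ := by
      by_contra hcon
      push Not at hcon
      refine Cfsg.Lib.Coprime.fitting_ne_bot (G := ↥Y) ?_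
      rw [Cfsg.Lib.Components.fitting_eq_iSup_pCore, iSup_eq_bot]
      exact fun q => hcon q.1 q.2
    haveI := Fact.mk hr
    have hrs : r ≠ s := fun e => hne (e ▸ hcore)
    set O := (Cfsg.pCore r ↥Y).map Y.subtype with hO
    have hOr : IsPGroup r ↥O := (Cfsg.Lib.Components.isPGroup_pCore r).map _
    obtain ⟨o, ho, ho1⟩ := (Subgroup.bot_or_exists_ne_one O).resolve_left fun e =>
      hne ((Subgroup.map_eq_bot_iff_of_injective _ Y.subtype_injective).1 e)
    have hoY : o ∈ Y := map_subtype_le _ ho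
    have hr2 : r ≠ 2 := fun e => ho1 (eq_one_of_two_odd (two_of_mem (e ▸ hOr) ho) (hodd o hoY))
    have hAn : A' ≤ normalizer (O : Set G) := fun a ha => mem_nrm (by
      rintro _ ⟨x, hx, rfl⟩
      exact ⟨⟨a, hAY ha⟩ * x * ⟨a, hAY ha⟩⁻¹, (inferInstance : (Cfsg.pCore r ↥Y).Normal).conj_mem x hx _, rfl⟩)
    have hcop' : (Nat.card ↥A').Coprime (Nat.card ↥O) := by
      obtain ⟨j, hj⟩ := IsPGroup.iff_card.1 hOr
      rw [hAc, hj]
      exact Nat.Coprime.pow _ _ ((Nat.coprime_primes h.prime hr).2 (Ne.symm hrs))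
    have hle : O ≤ (⊥ : Subgroup G) := by
      rw [← Cfsg.Lib.Coprime.centralizerJoin_eq hnc hAn hcop']
      refine iSup₂_le fun a ha x hx => mem_bot.2 ?_
      exact h.not_comm_pgroup hr hr2 hrs hOr hx.1 (Or.inr (h.order_s hAs ha.1 ha.2))
        (mem_centralizer_singleton_iff.1 hx.2)
    exact ho1 (mem_bot.1 (hle ho))
  -- Burnside's theorem in the complement
  have hzy : IsPGroup s ↥(zpowers (⟨y, hyY⟩ : ↥Y)) :=
    IsPGroup.of_card (n := 1) (by rw [Nat.card_zpowers, orderOf_mk, hys, pow_one])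
  obtain ⟨P, hP⟩ := hzy.exists_le_sylow
  have hPc : Nat.card ↥(P : Subgroup ↥Y) = s := by
    refine le_antisymm ?_ ?_
    · rw [← Subgroup.card_map_of_injective Y.subtype_injective]
      exact hsmall _ (map_subtype_le _) (P.2.map _)
    · have := Subgroup.card_le_of_le hP
      rwa [Nat.card_zpowers, orderOf_mk, hys] at this
  have hPy : (P : Subgroup ↥Y) = zpowers (⟨y, hyY⟩ : ↥Y) :=
    (Subgroup.eq_of_le_of_card_ge hP (by rw [hPc, Nat.card_zpowers, orderOf_mk, hys])).symm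
  have hself : normalizer ((P : Subgroup ↥Y) : Set ↥Y) ≤ (P : Subgroup ↥Y) := by
    refine Cfsg.Lib.Transfer.le_of_forall_prime_pow fun g hg r k hr hk => ?_
    rcases eq_or_ne r s with rfl | hrs
    · have h1 := (IsPGroup.of_card (p := r) ((Nat.card_zpowers g).trans hk)).inf_normalizer_sylow P
      have h3 : g ∈ zpowers g ⊓ normalizer ((P : Subgroup ↥Y) : Set ↥Y) := ⟨mem_zpowers g, hg⟩
      exact (h1 ▸ h3 : g ∈ zpowers g ⊓ (P : Subgroup ↥Y)).2
    rcases k with _ | k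
    · rw [pow_zero, orderOf_eq_one_iff] at hk
      rw [hk]; exact one_mem _
    exfalso
    set ρ := g ^ r ^ k with hρdef
    have hρ : orderOf (ρ : G) = r := by
      rw [orderOf_coe, hρdef, orderOf_pow' g (pow_ne_zero _ hr.ne_zero), hk, pow_succ,
        Nat.gcd_eq_right (dvd_mul_right _ _), Nat.mul_div_cancel_left _ (pow_pos hr.pos k)]
    have hr2 : r ≠ 2 := fun e => Nat.not_even_iff_odd.2 (hodd _ ρ.2) (by rw [hρ, e]; exact even_two)
    have hgP : ρ ∈ normalizer ((P : Subgroup ↥Y) : Set ↥Y) := pow_mem hg _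
    set W := (P : Subgroup ↥Y).map Y.subtype with hW
    have hWs : IsPGroup s ↥W := P.2.map _
    have hcomm := h.commute_of_fpf (V := (S : Subgroup G)) (W := W)
      (fun a ha b hb => h.comm_two_group S.2 ha hb) (Or.inr S.2) hr hr2 hρ (hconjS _ ρ.2)
      (fun w hw => hconjS w (map_subtype_le _ hw))
      (by
        rintro _ ⟨w, hw, rfl⟩
        exact ⟨ρ * w * ρ⁻¹, nrm_conj hgP hw, rfl⟩)
      (fun w hw hc' => by
        by_contra hw1
        exact h.not_comm hr hr2 hrs hρ (Or.inr (h.order_s hWs hw hw1)) hc')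
      (fun _ => hrs)
      (by
        obtain ⟨i, hi⟩ := IsPGroup.iff_card.1 S.2
        obtain ⟨j, hj⟩ := IsPGroup.iff_card.1 hWs
        rw [hi, hj]
        exact Nat.Coprime.pow _ _ ((Nat.coprime_primes h.prime Nat.prime_two).2 h.ne_two))
    exact hmove y hyY hy1 fun a ha => hcomm y ⟨_, hP (mem_zpowers _), rfl⟩ a ha
  have hNC : normalizer ((P : Subgroup ↥Y) : Set ↥Y) ≤ centralizer ((P : Subgroup ↥Y) : Set ↥Y) := by
    intro g hg
    have h1 := hself hg
    rw [hPy] at h1 ⊢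
    obtain ⟨i, rfl⟩ := mem_zpowers_iff.1 h1
    refine mem_centralizer_iff.2 fun z hz => ?_
    obtain ⟨j, rfl⟩ := mem_zpowers_iff.1 hz
    exact (Commute.zpow_zpow_self _ _ _).eq
  obtain ⟨K, hKnormal, hKP, hKs⟩ : ∃ K : Subgroup ↥Y, K.Normal ∧ Nat.card ↥K * s = Nat.card ↥Y ∧
      ¬ s ∣ Nat.card ↥K := by
    refine ⟨(MonoidHom.transferSylow P hNC).ker, MonoidHom.normal_ker _, ?_,
      MonoidHom.not_dvd_card_ker_transferSylow P hNC⟩
    have h1 := (MonoidHom.ker_transferSylow_isComplement' P hNC).card_mul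
    rw [hPc] at h1
    exact h1
  -- the stabiliser of an involution in the complement
  have hstab : Nat.card ↥((centralizer ({t₁} : Set G)).subgroupOf Y) = s := by
    refine le_antisymm ?_ ?_
    · rw [← Subgroup.card_map_of_injective Y.subtype_injective, subgroupOf_map_subtype]
      refine hsmall _ inf_le_right
        (IsPGroup.of_card (Nat.eq_prime_pow_of_unique_prime_dvd Nat.card_pos.ne' fun {q} hq hqd => ?_))
      refine (h.primes_cent (K := centralizer ({t₁} : Set G) ⊓ Y) (Or.inl (h.order_S S ht₁ ht₁1))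
        (fun k hk => mem_centralizer_singleton_iff.1 hk.1) hq hqd).resolve_left fun e => ?_
      subst e
      exact Nat.not_even_iff_odd.2 (Odd.of_dvd_nat hYodd (Subgroup.card_dvd_of_le inf_le_right))
        (even_iff_two_dvd.2 hqd)
    · have h1 : zpowers (⟨y, hyY⟩ : ↥Y) ≤ (centralizer ({t₁} : Set G)).subgroupOf Y :=
        zpowers_le.2 (mem_subgroupOf.2 (mem_centralizer_singleton_iff.2 hyt.eq))
      have := Subgroup.card_le_of_le h1
      rwa [Nat.card_zpowers, orderOf_mk, hys] at this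
  have hYl : Nat.card ↥Y = Nat.card {x : G // x ∈ (S : Subgroup G) ∧ x ≠ 1} * s := by
    rw [← hrel t₁ ht₁ ht₁1, ← hstab]
    exact (Subgroup.index_mul_card _).symm
  have hKl : Nat.card ↥K = Nat.card {x : G // x ∈ (S : Subgroup G) ∧ x ≠ 1} :=
    Nat.eq_of_mul_eq_mul_right h.prime.pos (hKP.trans hYl)
  set L := (S : Subgroup G) ⊔ K.map Y.subtype with hL
  have hKY : K.map Y.subtype ≤ Y := map_subtype_le _
  have hLN : L ≤ NS := sup_le le_normalizer (hKY.trans hYN)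
  have hLn : ∀ g ∈ NS, ∀ x ∈ L, g * x * g⁻¹ ∈ L := by
    intro g hg x hx
    obtain ⟨a, ha, c, hc, rfl⟩ := hprod g hg
    have h1 : L ≤ L.comap (MulAut.conj c).toMonoidHom := sup_le (fun v hv => mem_sup_left (hconjS c hc v hv))
      (by
        rintro _ ⟨k, hk, rfl⟩
        show MulAut.conj c (k : G) ∈ L
        exact mem_sup_right (T := K.map Y.subtype)
          ⟨⟨c, hc⟩ * k * ⟨c, hc⟩⁻¹, hKnormal.conj_mem k hk _, by simp⟩)
    have h2 : c * x * c⁻¹ ∈ L := h1 hx
    rw [show a * c * x * (a * c)⁻¹ = a * (c * x * c⁻¹) * a⁻¹ by group]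
    exact mul_mem (mul_mem (mem_sup_left ha) h2) (Subgroup.inv_mem _ (mem_sup_left ha))
  have hLcard : Nat.card ↥L = Nat.card ↥(S : Subgroup G) * Nat.card {x : G // x ∈ (S : Subgroup G) ∧ x ≠ 1} := by
    have h1 := Cfsg.Lib.Coprime.card_sup_mul_card_inf (H := K.map Y.subtype) (N := (S : Subgroup G))
      (hKY.trans hYN)
    have h2 : ((S : Subgroup G) ⊓ K.map Y.subtype : Subgroup G) = ⊥ :=
      eq_bot_iff.2 fun x hx => mem_bot.2 (hSY1 x (hKY hx.2) hx.1)
    rw [h2, Subgroup.card_bot, mul_one, Subgroup.card_map_of_injective Y.subtype_injective, hKl] at h1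
    exact h1
  refine ⟨L, t₁, y, hLN, le_sup_left, hLn, ?_, hLcard, hKl ▸ hKs, hYN hyY, hys, ht₁, ht₁1, hyt,
    fun a ha hc => ?_⟩
  · have h1 := Cfsg.Lib.Coprime.card_sup_mul_card_inf (H := Y) (N := (S : Subgroup G)) hYN
    have h2 : ((S : Subgroup G) ⊓ Y : Subgroup G) = ⊥ := eq_bot_iff.2 fun x hx => mem_bot.2 (hSY1 x hx.2 hx.1)
    rw [h2, Subgroup.card_bot, mul_one, hSY, hYl] at h1
    have h3 : L.relIndex NS * Nat.card ↥L = Nat.card ↥NS := by
      unfold Subgroup.relIndex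
      rw [← Nat.card_congr (subgroupOfEquivOfLe hLN).toEquiv, Subgroup.index_mul_card]
    rw [h1, hLcard, mul_comm] at h3
    refine Nat.eq_of_mul_eq_mul_left
      (Nat.mul_pos (Nat.card_pos (α := ↥(S : Subgroup G)))
        (show 0 < Nat.card {x : G // x ∈ (S : Subgroup G) ∧ x ≠ 1} from hKl ▸ Nat.card_pos (α := ↥K))) ?_
    rw [h3, mul_assoc]
  · rcases eq_or_ne a 1 with rfl | ha1
    · exact Or.inl rfl
    refine Or.inr ?_
    obtain ⟨k, hk, hka⟩ := htrY t₁ ht₁ ht₁1 a ⟨ha, ha1⟩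
    -- the conjugate of `y` by `k` centralises `a` as well
    have h1 : (⟨k, hk⟩ : ↥Y)⁻¹ * ⟨y, hyY⟩ * (⟨k, hk⟩ : ↥Y)⁻¹⁻¹ ∈ (centralizer ({t₁} : Set G)).subgroupOf Y := by
      refine mem_subgroupOf.2 (mem_centralizer_singleton_iff.2 ?_)
      have := hc.map (MulAut.conj k⁻¹).toMonoidHom
      rw [← hka] at this
      simpa [mul_assoc] using this.eq
    have hCy : (centralizer ({t₁} : Set G)).subgroupOf Y = zpowers (⟨y, hyY⟩ : ↥Y) :=
      (Subgroup.eq_of_le_of_card_ge (zpowers_le.2 (mem_subgroupOf.2 (mem_centralizer_singleton_iff.2 hyt.eq)))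
        (by rw [hstab, Nat.card_zpowers, orderOf_mk, hys])).symm
    rw [hCy] at h1
    have h2 : (⟨k, hk⟩ : ↥Y)⁻¹ ∈ normalizer ((P : Subgroup ↥Y) : Set ↥Y) := mem_nrm fun z hz => by
      rw [hPy] at hz ⊢
      obtain ⟨i, rfl⟩ := mem_zpowers_iff.1 hz
      rw [← conj_zpow]
      exact Subgroup.zpow_mem _ h1 i
    have h3 : (⟨k, hk⟩ : ↥Y) ∈ zpowers (⟨y, hyY⟩ : ↥Y) := hPy ▸ (inv_mem_iff.1 (hself h2))
    obtain ⟨i, hi⟩ := mem_zpowers_iff.1 h3
    have e : k = y ^ i := by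
      have := congrArg Subtype.val hi
      push_cast at this
      exact this.symm
    rw [← hka, e, (hyt.zpow_left i).eq, mul_inv_cancel_right]

end NoCore

end Cfsg.Lib.CITExt.TwoS
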