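import Cfsg.Agent.S4216
import Cfsg.Agent.Components.Cores

/-!
Grün's theorem when a normaliser controls fusion and is at most twice the Sylow subgroup.
-/

set_option autoImplicit false
set_option linter.unusedSectionVars false
set_option linter.style.haveILetI false

namespace Cfsg.Lib.CITExt.TwoS

open Subgroup
open scoped commutatorElement

universe u

variable {G : Type u} [Group G] [Finite G] {p : ℕ} [Fact p.Prime]

/-- a subgroup `K` of the Sylow subgroup containing both derived groups is all of it -/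
theorem sylow_le_of_control (hperf : commutator G = ⊤) (P : Sylow p G) {H K : Subgroup G}
    (hNH : normalizer ((P : Subgroup G) : Set G) ≤ H)
    (hfus : ∀ y ∈ (P : Subgroup G), ∀ g : G, g * y * g⁻¹ ∈ (P : Subgroup G) →
      ∃ n ∈ H, n * y * n⁻¹ = g * y * g⁻¹)
    (hKn : ∀ g ∈ H, ∀ x ∈ K, g * x * g⁻¹ ∈ K) (hPd : ⁅(P : Subgroup G), (P : Subgroup G)⁆ ≤ K)
    (hHd : (P : Subgroup G) ⊓ ⁅H, H⁆ ≤ K) : (P : Subgroup G) ≤ K := by
  have hgr := Cfsg.Agent.S4216.result P
  rw [hperf, inf_top_eq] at hgr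
  refine hgr.le.trans (sup_le ((inf_le_inf_left _ (commutator_mono hNH hNH)).trans hHd) (iSup_le fun g => ?_))
  rintro x ⟨hx, y, hy, rfl⟩
  obtain ⟨n, hn, hny⟩ := hfus y (commutator_le_self _ hy) g hx
  have h1 := hKn n hn y (hPd hy)
  rw [hny] at h1
  exact h1

set_option maxHeartbeats 1600000 in
/-- With `H = P⟨t⟩` the fixed points of `t` on `P` are in the derived group of `P`. -/
theorem fixed_mem_derived (hperf : commutator G = ⊤) (P : Sylow p G) (hp : p ≠ 2) {H : Subgroup G} {t : G}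
    (hNH : normalizer ((P : Subgroup G) : Set G) ≤ H)
    (hfus : ∀ y ∈ (P : Subgroup G), ∀ g : G, g * y * g⁻¹ ∈ (P : Subgroup G) →
      ∃ n ∈ H, n * y * n⁻¹ = g * y * g⁻¹)
    (htt : t * t = 1) (htH : t ∈ H) (hnP : ∀ g ∈ H, ∀ x ∈ (P : Subgroup G), g * x * g⁻¹ ∈ (P : Subgroup G))
    (hHform : ∀ g ∈ H, ∃ x ∈ (P : Subgroup G), g = x ∨ g = x * t) :
    ∀ x ∈ (P : Subgroup G), Commute x t → x ∈ ⁅(P : Subgroup G), (P : Subgroup G)⁆ := by
  have hti : t⁻¹ = t := inv_eq_of_mul_eq_one_right htt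
  have hPH : (P : Subgroup G) ≤ H := le_normalizer.trans hNH
  set Pd := ⁅(P : Subgroup G), (P : Subgroup G)⁆ with hPd
  let τ : ↥(P : Subgroup G) →* ↥(P : Subgroup G) :=
    { toFun := fun x => ⟨t * x * t⁻¹, hnP t htH x x.2⟩
      map_one' := Subtype.ext (by simp)
      map_mul' := fun x y => Subtype.ext (by simp [mul_assoc]) }
  let φ : ↥(P : Subgroup G) →* Abelianization ↥(P : Subgroup G) :=
    Abelianization.of * Abelianization.of.comp τ
  set K := φ.ker.map (P : Subgroup G).subtype with hK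
  have hmapd : Pd = (commutator ↥(P : Subgroup G)).map (P : Subgroup G).subtype := by
    rw [_root_.commutator_def, map_commutator, ← MonoidHom.range_eq_map, range_subtype]
  have hPdK : Pd ≤ K := hmapd ▸ map_mono (Abelianization.commutator_subset_ker φ)
  have hττ : ∀ x, τ (τ x) = x := fun x => Subtype.ext (by
    show t * (t * x * t⁻¹) * t⁻¹ = x
    rw [hti, show t * (t * (x : G) * t) * t = (t * t) * x * (t * t) by group, htt, one_mul, mul_one])
  have hKn : ∀ g ∈ H, ∀ x ∈ K, g * x * g⁻¹ ∈ K := by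
    have hp : ∀ g ∈ (P : Subgroup G), ∀ x ∈ K, g * x * g⁻¹ ∈ K := by
      rintro g hg _ ⟨x, hx, rfl⟩
      exact ⟨⟨g, hg⟩ * x * ⟨g, hg⟩⁻¹, φ.normal_ker.conj_mem x hx _, rfl⟩
    have ht : ∀ x ∈ K, t * x * t⁻¹ ∈ K := by
      rintro _ ⟨x, hx, rfl⟩
      refine ⟨τ x, ?_, rfl⟩
      show φ (τ x) = 1
      simp only [φ, MonoidHom.mul_apply, MonoidHom.comp_apply, hττ]
      rw [mul_comm]
      exact hx
    intro g hg x hx
    obtain ⟨y, hy, e | e⟩ := hHform g hg <;> rw [e]
    · exact hp y hy x hx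
    · have := hp y hy _ (ht x hx)
      simpa [mul_assoc] using this
  have hHK : ⁅H, H⁆ ≤ K := by
    haveI : (K.subgroupOf H).Normal := ⟨fun x hx g => hKn g g.2 x hx⟩
    set π := QuotientGroup.mk' (K.subgroupOf H) with hπ
    have hπ1 : ∀ y : ↥H, (y : G) ∈ K → π y = 1 := fun y hy => (QuotientGroup.eq_one_iff y).2 hy
    have hpp : ∀ x y : ↥H, (x : G) ∈ (P : Subgroup G) → (y : G) ∈ (P : Subgroup G) → Commute (π x) (π y) := by
      intro x y hx hy
      refine commutatorElement_eq_one_iff_commute.1 ?_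
      rw [← map_commutatorElement]
      exact hπ1 _ (hPdK (commutator_mem_commutator hx hy))
    have hpt : ∀ x : ↥H, (x : G) ∈ (P : Subgroup G) → Commute (π ⟨t, htH⟩) (π x) := by
      intro x hx
      refine commutatorElement_eq_one_iff_commute.1 ?_
      rw [← map_commutatorElement]
      refine hπ1 _ ⟨τ ⟨x, hx⟩ * ⟨x, hx⟩⁻¹, ?_, rfl⟩
      show φ _ = 1
      simp only [φ, MonoidHom.mul_apply, MonoidHom.comp_apply, map_mul, map_inv, hττ]
      simp only [mul_comm, mul_inv_cancel]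
    have hgen : ∀ g : ↥H, ∃ x : ↥H, (x : G) ∈ (P : Subgroup G) ∧ (π g = π x ∨ π g = π x * π ⟨t, htH⟩) := by
      intro g
      obtain ⟨x, hx, e | e⟩ := hHform g g.2
      · exact ⟨g, e ▸ hx, Or.inl rfl⟩
      · refine ⟨⟨x, hPH hx⟩, hx, Or.inr ?_⟩
        rw [← map_mul]
        exact congrArg π (Subtype.ext e)
    rw [Subgroup.commutator_le]
    intro g hg k hk
    obtain ⟨x, hx, e⟩ := hgen ⟨g, hg⟩
    obtain ⟨y, hy, e'⟩ := hgen ⟨k, hk⟩
    have hcomm : Commute (π ⟨g, hg⟩) (π ⟨k, hk⟩) := by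
      have hx' := hpt x hx
      have hy' := hpt y hy
      have hxy := hpp x y hx hy
      rcases e with e | e <;> rcases e' with e' | e' <;> rw [e, e']
      · exact hxy
      · exact hxy.mul_right hx'.symm
      · exact hxy.mul_left hy'
      · exact (hxy.mul_left hy').mul_right (hx'.symm.mul_left (Commute.refl _))
    rw [← commutatorElement_eq_one_iff_commute, ← map_commutatorElement] at hcomm
    exact mem_subgroupOf.1 ((QuotientGroup.eq_one_iff _).1 hcomm)
  have hPK : (P : Subgroup G) ≤ K := sylow_le_of_control hperf P hNH hfus hKn hPdK (inf_le_right.trans hHK)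
  intro x hx hc
  obtain ⟨x', hx', e⟩ := hPK hx
  have hτx : τ x' = x' := Subtype.ext (by
    show t * (x' : G) * t⁻¹ = x'
    rw [show (x' : G) = x from e, hc.symm.eq, mul_inv_cancel_right])
  have h1 : Abelianization.of x' * Abelianization.of x' = 1 := by
    have h0 : φ x' = 1 := hx'
    simp only [φ, MonoidHom.mul_apply, MonoidHom.comp_apply, hτx] at h0
    exact h0
  have h2 : Abelianization.of x' = 1 := by
    obtain ⟨k, hk⟩ := IsPGroup.iff_orderOf.1 P.2 x'
    obtain ⟨j, hj⟩ : Odd (orderOf x') := hk ▸ ((Fact.out : p.Prime).odd_of_ne_two hp).pow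
    have hs : Abelianization.of x' ^ (2 * j + 1) = 1 := by
      rw [← map_pow, ← hj, pow_orderOf_eq_one, map_one]
    rwa [pow_succ, pow_mul, pow_two, h1, one_pow, one_mul] at hs
  rw [hmapd]
  exact ⟨x', by rw [← Abelianization.ker_of]; exact h2, e⟩

end Cfsg.Lib.CITExt.TwoS
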