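import Cfsg.Agent.CITExt.TwoS.Degree
import Cfsg.Agent.CITExt.TwoS.Fusion
import Cfsg.Agent.CITExt.TwoS.Transfer

/-!
A simple group without odd cores in the centralisers of its involutions has no element of order `2s`.
-/

set_option autoImplicit false
set_option linter.unusedSectionVars false
set_option linter.style.haveILetI false

namespace Cfsg.Lib.CITExt.TwoS

open Subgroup Cfsg.Lib.CITGroups Cfsg.Lib.ZJ
open scoped commutatorElement

universe u

variable {G : Type u} [Group G] [Finite G] {s : ℕ}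

/-- an element of prime order at least five acting on a group of order dividing nine -/
theorem commute_of_card_nine {A : Type*} [Group A] [Finite A] {V : Subgroup A} {σ : A} {r : ℕ} (hr : r.Prime)
    (hr5 : 5 ≤ r) (hσ : σ ^ r = 1) (hσV : ∀ v ∈ V, σ * v * σ⁻¹ ∈ V) (hcard : Nat.card ↥V ∣ 9) :
    ∀ v ∈ V, Commute σ v := by
  haveI := Fact.mk hr
  have hn : zpowers σ ≤ normalizer (V : Set A) := zpowers_le.2 (mem_nrm hσV)
  letI : MulAction ↥(zpowers σ) ↥V :=
    { smul := fun g v => ⟨g * v * (g : A)⁻¹, nrm_conj (hn g.2) v.2⟩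
      one_smul := fun v => Subtype.ext (by show ((1 : A)) * v * (1 : A)⁻¹ = v; group)
      mul_smul := fun g k v => Subtype.ext (by
        show (g : A) * k * v * ((g : A) * k)⁻¹ = g * (k * v * (k : A)⁻¹) * (g : A)⁻¹
        group) }
  have hp : IsPGroup r ↥(zpowers σ) := fun g => ⟨1, Subtype.ext (by
    obtain ⟨i, hi⟩ := mem_zpowers_iff.1 g.2
    push_cast
    rw [← hi, pow_one, ← zpow_natCast, ← zpow_mul, mul_comm, zpow_mul, zpow_natCast, hσ, one_zpow])⟩
  have hmod := hp.card_modEq_card_fixedPoints ↥V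
  set F := V ⊓ centralizer ({σ} : Set A) with hF
  have hFc : Nat.card (MulAction.fixedPoints ↥(zpowers σ) ↥V) = Nat.card ↥F := by
    refine Nat.card_congr
      { toFun := fun v => ⟨((v : ↥V) : A), (v : ↥V).2, ?_⟩
        invFun := fun v => ⟨⟨(v : A), v.2.1⟩, fun g => Subtype.ext ?_⟩
        left_inv := fun v => rfl
        right_inv := fun v => rfl }
    · exact mem_centralizer_singleton_iff.2 (mul_inv_eq_iff_eq_mul.1
        (congrArg Subtype.val (v.2 ⟨σ, mem_zpowers σ⟩) : σ * ((v : ↥V) : A) * σ⁻¹ = (v : ↥V))).symm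
    · obtain ⟨i, hi⟩ := mem_zpowers_iff.1 g.2
      show (g : A) * v * (g : A)⁻¹ = v
      rw [← hi, ((show Commute (v : A) σ from mem_centralizer_singleton_iff.1 v.2.2).symm.zpow_left i).eq,
        mul_inv_cancel_right]
  rw [hFc] at hmod
  have hFV : Nat.card ↥F ∣ Nat.card ↥V := Subgroup.card_dvd_of_le inf_le_left
  have h9 : ∀ n : ℕ, n ∣ 9 → n = 1 ∨ n = 3 ∨ n = 9 := by
    intro n hn
    obtain ⟨i, hi, rfl⟩ := (Nat.dvd_prime_pow Nat.prime_three).1 (show n ∣ 3 ^ 2 by norm_num; exact hn)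
    interval_cases i <;> simp
  have heq : Nat.card ↥F = Nat.card ↥V := by
    have hle := Nat.le_of_dvd Nat.card_pos hFV
    have hd := (Nat.modEq_iff_dvd' hle).1 hmod.symm
    rcases h9 _ hcard with e | e | e <;> rcases h9 _ (hFV.trans hcard) with e' | e' | e' <;>
      simp only [e, e'] at hd hle ⊢
    all_goals first
      | omega
      | (have := Nat.le_of_dvd (by norm_num) hd; interval_cases r <;> revert hd hr <;> norm_num)
  intro v hv
  have : v ∈ F := (Subgroup.eq_of_le_of_card_ge (inf_le_left : F ≤ V) heq.ge).ge hv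
  exact (show Commute v σ from mem_centralizer_singleton_iff.1 this.2).symm

namespace NoCore

variable {S : Sylow 2 G}

local notation "NS" => normalizer ((S : Subgroup G) : Set G)

set_option maxHeartbeats 1600000 in
theorem false_of_simple [IsSimpleGroup G] (B : NoCore s S) (hex : ∃ g : G, orderOf g = 2 * s) : False := by
  classical
  have hSE := B.strongly
  obtain ⟨rfl, hsmall, ⟨c0, hc0, hex0⟩, hcent⟩ := B.three_data hex
  haveI : Fact (Nat.Prime 3) := ⟨Nat.prime_three⟩
  haveI : Fact (Nat.Prime 2) := ⟨Nat.prime_two⟩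
  have h := B.hyp
  have hperf : commutator G = ⊤ := by
    refine (Subgroup.commutator_normal (⊤ : Subgroup G) ⊤).eq_bot_or_eq_top.resolve_left fun e => B.nonsolv ?_
    exact ⟨1, by rw [derivedSeries_one]; exact e⟩
  have hc01 : c0 ≠ 1 := fun e => by rw [e, orderOf_one] at hc0; omega
  obtain ⟨P, hzP0⟩ := (IsPGroup.of_card (n := 1) (by rw [Nat.card_zpowers, hc0, pow_one]) :
    IsPGroup 3 ↥(zpowers c0)).exists_le_sylow
  have hP := P.2
  have hcP : c0 ∈ (P : Subgroup G) := hzP0 (mem_zpowers c0)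
  -- small centralisers in the Sylow subgroup
  have hsmallc : ∀ c ∈ (P : Subgroup G), c ≠ 1 → (∃ t : G, orderOf t = 2 ∧ Commute c t) →
      ∀ hc : c ∈ (P : Subgroup G), Nat.card ↥(centralizer ({(⟨c, hc⟩ : ↥(P : Subgroup G))} : Set ↥(P : Subgroup G))) ≤
        3 ^ 2 := by
    intro c hc hc1 hct _
    obtain ⟨i, hi⟩ := IsPGroup.iff_card.1
      (hP.to_subgroup (centralizer ({(⟨c, hc⟩ : ↥(P : Subgroup G))} : Set ↥(P : Subgroup G))))
    have h18 : 3 ^ i ≤ 18 := by
      rw [← hi]
      refine le_trans (Nat.card_le_card_of_injective (fun x : centralizer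
        ({(⟨c, hc⟩ : ↥(P : Subgroup G))} : Set ↥(P : Subgroup G)) =>
          (⟨((x : ↥(P : Subgroup G)) : G), ?_⟩ : ↥(centralizer ({c} : Set G)))) fun a b e => Subtype.ext (Subtype.ext
            (congrArg Subtype.val e :))) (hcent c (h.order_s hP hc hc1) hct).1
      exact mem_centralizer_singleton_iff.2 (congrArg Subtype.val (mem_centralizer_singleton_iff.1 x.2))
    rw [hi]
    by_contra hlt
    have : 3 ≤ i := by
      by_contra hi3
      exact hlt (Nat.pow_le_pow_right (by norm_num) (by omega))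
    have := Nat.pow_le_pow_right (show 1 ≤ 3 by norm_num) this
    omega
  -- the Sylow subgroup is larger than three
  have hP9 : 3 < Nat.card ↥(P : Subgroup G) := by
    by_contra hle
    have hPz : (P : Subgroup G) = zpowers c0 :=
      (Subgroup.eq_of_le_of_card_ge hzP0 (by rw [Nat.card_zpowers, hc0]; omega)).symm
    have hNC : normalizer ((P : Subgroup G) : Set G) ≤ centralizer ((P : Subgroup G) : Set G) := by
      intro g hg
      refine mem_centralizer_iff.2 fun x hx => ?_
      rw [SetLike.mem_coe, hPz] at hx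
      obtain ⟨i, rfl⟩ := mem_zpowers_iff.1 hx
      have h1 : g * c0 * g⁻¹ ∈ zpowers c0 := hPz ▸ nrm_conj hg hcP
      obtain ⟨j, hj⟩ := mem_zpowers_iff.1 h1
      have hj3 : c0 ^ j = c0 ^ (j % 3) := by
        have := (zpow_mod_orderOf c0 j).symm
        rwa [hc0] at this
      have hne : g * c0 * g⁻¹ ≠ c0⁻¹ := (hcent c0 hc0 hex0).2 g
      have hg0 : g * c0 * g⁻¹ = c0 := by
        have hlt : j % 3 = 0 ∨ j % 3 = 1 ∨ j % 3 = 2 := by omega
        rcases hlt with e | e | e <;> rw [e] at hj3 <;> rw [hj3] at hj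
        · rw [zpow_zero] at hj
          exact absurd (conj_eq_one_iff.1 hj.symm) hc01
        · rw [zpow_one] at hj; exact hj.symm
        · refine absurd (hj.symm.trans ?_) hne
          refine eq_inv_of_mul_eq_one_left ?_
          rw [show c0 ^ (2 : ℤ) * c0 = c0 ^ 3 by rw [zpow_ofNat, ← pow_succ], ← hc0, pow_orderOf_eq_one]
      exact ((show Commute g c0 from mul_inv_eq_iff_eq_mul.1 hg0).zpow_right i).eq.symm
    set T := (MonoidHom.transferSylow P hNC).ker with hT
    haveI hTn : T.Normal := MonoidHom.normal_ker _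
    have hcompl := MonoidHom.ker_transferSylow_isComplement' P hNC
    have hP1 : (P : Subgroup G) ≠ ⊥ := fun e => hc01 (by rw [← mem_bot, ← e]; exact hcP)
    rcases hTn.eq_bot_or_eq_top with e | e
    · have h1 := hcompl.card_mul
      rw [← hT, e, Subgroup.card_bot, one_mul] at h1
      refine B.nonsolv ?_
      have htop : (P : Subgroup G) = ⊤ := Subgroup.eq_top_of_card_eq _ h1
      haveI := hP.isNilpotent
      haveI : Group.IsSolvable ↥(P : Subgroup G) := inferInstance
      exact Group.isSolvable_of_surjective (f := (P : Subgroup G).subtype) fun x =>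
        ⟨⟨x, htop ▸ mem_top x⟩, rfl⟩
    · exact hP1 (by
        have h2 := hcompl.disjoint
        rw [← hT, e] at h2
        exact top_disjoint.1 h2)
  set Z := Cfsg.centerThompsonOf 3 (P : Subgroup G) with hZ
  have hZP : Z ≤ (P : Subgroup G) := centerThompson_le P
  haveI : Nontrivial ↥(P : Subgroup G) := Finite.one_lt_card_iff_nontrivial.1 (by omega)
  haveI : Nontrivial ↥(center ↥(P : Subgroup G)) := hP.center_nontrivial
  obtain ⟨z₀, hz₀⟩ := exists_ne (1 : ↥(center ↥(P : Subgroup G)))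
  have hzP : ((z₀ : ↥(P : Subgroup G)) : G) ∈ (P : Subgroup G) := (z₀ : ↥(P : Subgroup G)).2
  have hzc : ∀ x ∈ (P : Subgroup G), Commute x ((z₀ : ↥(P : Subgroup G)) : G) := fun x hx =>
    congrArg Subtype.val (mem_center_iff.1 z₀.2 ⟨x, hx⟩)
  have hzZ : ((z₀ : ↥(P : Subgroup G)) : G) ∈ Z := by
    refine ⟨?_, mem_centralizer_iff.2 fun y hy => (hzc y (Cfsg.Lib.Thompson.thompsonSubgroupOf_le _ hy)).eq⟩
    obtain ⟨A, hA⟩ := maxEl_nonempty (p := 3) (P : Subgroup G)
    exact ((thompsonSubgroupOf_eq_sSup (p := 3) (P : Subgroup G)).symm.le ((le_sSup hA : A ≤ _)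
      (mem_maxEl_of_commute hA hzP (h.pow_of_mem hP hzP) fun a ha => (hzc a (hA.1 ha)).eq)))
  have hZne : Z ≠ ⊥ := fun e => hz₀ (Subtype.ext (Subtype.ext (by rwa [e, mem_bot] at hzZ)))
  set H := normalizer (Z : Set G) with hH
  have hPH : (P : Subgroup G) ≤ H := sylow_le_normalizer_centerThompson P
  have hNP : normalizer ((P : Subgroup G) : Set G) ≤ H := by
    intro g hg
    refine mem_nrm fun x hx => ?_
    have e : (P : Subgroup G).map (MulAut.conj g).toMonoidHom = P := by
      refine Subgroup.eq_of_le_of_card_ge ?_ (le_of_eq (Subgroup.card_map_of_injective (MulAut.conj g).injective).symm)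
      rintro _ ⟨y, hy, rfl⟩
      exact nrm_conj hg hy
    have := map_centerThompsonOf (p := 3) (MulAut.conj g) (P : Subgroup G)
    rw [e] at this
    exact this.le (conj_mem_map hx)
  have hfus : ∀ y ∈ (P : Subgroup G), ∀ g : G, g * y * g⁻¹ ∈ (P : Subgroup G) →
      ∃ n ∈ H, n * y * n⁻¹ = g * y * g⁻¹ := by
    intro y hy g hg
    obtain ⟨n, hn, hny⟩ := Cfsg.Agent.S0118.result (by norm_num) h.no_sl_section P {y}
      (Set.singleton_subset_iff.2 hy) g⁻¹ (by
        rintro _ ⟨w, hw, rfl⟩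
        rw [Set.mem_singleton_iff.1 hw]
        show g⁻¹⁻¹ * y * g⁻¹ ∈ _
        rw [inv_inv]
        exact hg)
    exact ⟨n⁻¹, inv_mem hn, by simpa using hny y rfl⟩
  haveI : Group.IsNilpotent ↥Z := (hP.to_le hZP).isNilpotent
  have hHsol : Group.IsSolvable ↥H := h.solvable_local hZne inferInstance
  -- no four-group in `H`
  have hfour : ∀ E : Subgroup G, E ≤ H → IsPGroup 2 ↥E → Nat.card ↥E < 4 := by
    intro E hEH hE
    by_contra h4
    obtain ⟨PE, hPE⟩ := hE.exists_le_sylow
    obtain ⟨g, hg⟩ := MulAction.exists_smul_eq G PE S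
    haveI := hHsol
    have hle := h.le_of_four hSE (Y := H.map (MulAut.conj g).toMonoidHom) (E := E.map (MulAut.conj g).toMonoidHom)
      (Group.isSolvable_of_surjective (MonoidHom.subgroupMap_surjective (MulAut.conj g).toMonoidHom H))
      (map_mono hEH)
      (by
        refine le_trans ?_ le_normalizer
        rintro _ ⟨e, he, rfl⟩
        rw [← hg, Sylow.coe_subgroup_smul]
        exact ⟨e, hPE he, rfl⟩)
      (hE.map _) (by rw [Subgroup.card_map_of_injective (MulAut.conj g).injective]; omega)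
    have h3 := hsmall _ ((map_mono hPH).trans hle) (hP.map _)
    rw [Subgroup.card_map_of_injective (MulAut.conj g).injective] at h3
    omega
  obtain ⟨R0, hR0H, hR0s, -, hR0n, hR0⟩ := h.sclosed_in hHsol le_normalizer (hP.to_le hZP) hZne
    (fun g hg x hx => nrm_conj hg hx) (fun y hy _ K hKH hK hyK k hk => by
      rcases eq_or_ne k 1 with rfl | hk1
      · exact Commute.one_right _
      suffices he : y * k * y⁻¹ = k from mul_inv_eq_iff_eq_mul.1 he
      by_contra hne
      have hy1 : y * k * y⁻¹ ≠ 1 := fun e => hk1 (conj_eq_one_iff.1 e)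
      have hsub : ({1, k, y * k * y⁻¹} : Set G) ⊆ K := by
        rintro _ (rfl | rfl | rfl)
        exacts [one_mem _, hk, hyK k hk]
      have h3 := Set.ncard_le_ncard hsub (Set.toFinite _)
      rw [Set.ncard_eq_three.2 ⟨1, k, y * k * y⁻¹, hk1.symm, hy1.symm, Ne.symm hne, rfl⟩,
        ← Nat.card_coe_set_eq] at h3
      obtain ⟨i, hi⟩ := IsPGroup.iff_card.1 hK
      have h4 : Nat.card ↥K < 4 := hfour K hKH hK
      have h5 : (3 : ℕ) ≤ Nat.card ↥K := h3
      rw [hi] at h4 h5
      rcases i with _ | _ | i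
      · omega
      · omega
      · rw [pow_succ, pow_succ] at h4
        have := Nat.two_pow_pos i
        omega)
  have hPR : (P : Subgroup G) = R0 :=
    (P.is_maximal' hR0s fun x hx => hR0 x (hPH hx) (h.pow_of_mem hP hx)).symm
  have hnP : ∀ g ∈ H, ∀ x ∈ (P : Subgroup G), g * x * g⁻¹ ∈ (P : Subgroup G) := fun g hg x hx =>
    hPR ▸ hR0n g hg x (hPR ▸ hx)
  -- the abelian quotient has order at most nine
  set Pd := ⁅(P : Subgroup G), (P : Subgroup G)⁆ with hPdef
  have hmapd : Pd = (commutator ↥(P : Subgroup G)).map (P : Subgroup G).subtype := by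
    rw [_root_.commutator_def, map_commutator, ← MonoidHom.range_eq_map, range_subtype]
  have hidx : (commutator ↥(P : Subgroup G)).index ≤ 9 := by
    set c : ↥(P : Subgroup G) := ⟨c0, hcP⟩
    let f : ↥(P : Subgroup G) ⧸ centralizer ({c} : Set ↥(P : Subgroup G)) → ↥(commutator ↥(P : Subgroup G)) :=
      Quotient.lift (fun x : ↥(P : Subgroup G) => (⟨⁅x, c⁆, commutator_mem_commutator (mem_top _) (mem_top _)⟩ :
        ↥(commutator ↥(P : Subgroup G)))) fun a b hab => by
        have h1 := mem_centralizer_singleton_iff.1 (QuotientGroup.leftRel_apply.1 hab)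
        refine Subtype.ext ?_
        show a * c * a⁻¹ * c⁻¹ = b * c * b⁻¹ * c⁻¹
        calc a * c * a⁻¹ * c⁻¹ = a * (c * (a⁻¹ * b)) * b⁻¹ * c⁻¹ := by group
          _ = _ := by rw [← h1]; group
    have hf : Function.Injective f := by
      intro x y hxy
      induction x using QuotientGroup.induction_on with
      | H a =>
      induction y using QuotientGroup.induction_on with
      | H b =>
      have e : a * c * a⁻¹ = b * c * b⁻¹ := mul_right_cancel (congrArg Subtype.val hxy :
        a * c * a⁻¹ * c⁻¹ = b * c * b⁻¹ * c⁻¹)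
      refine QuotientGroup.eq.2 (mem_centralizer_singleton_iff.2 ?_)
      calc a⁻¹ * b * c = a⁻¹ * (b * c * b⁻¹) * b := by group
        _ = c * (a⁻¹ * b) := by rw [← e]; group
    have h1 : (centralizer ({c} : Set ↥(P : Subgroup G))).index ≤ Nat.card ↥(commutator ↥(P : Subgroup G)) :=
      Nat.card_le_card_of_injective f hf
    have h2 := Nat.mul_le_mul h1 (hsmallc c0 hcP hc01 hex0 hcP)
    rw [Subgroup.index_mul_card, ← Subgroup.index_mul_card (commutator ↥(P : Subgroup G)), mul_comm] at h2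
    exact Nat.le_of_mul_le_mul_left h2 Nat.card_pos
  -- `H` is a `{2, 3}`-group
  have hprimes : ∀ r : ℕ, r.Prime → r ∣ Nat.card ↥H → r = 2 ∨ r = 3 := by
    intro r hr hrd
    by_contra hne
    push Not at hne
    have hr5 : 5 ≤ r := by
      have := hr.two_le
      rcases eq_or_ne r 4 with rfl | h4
      · norm_num at hr
      omega
    haveI := Fact.mk hr
    obtain ⟨⟨ρ, hρH⟩, hρ⟩ := exists_prime_orderOf_dvd_card' (G := ↥H) r hrd
    rw [orderOf_mk] at hρ
    have hPdn : ∀ g ∈ H, ∀ x ∈ Pd, g * x * g⁻¹ ∈ Pd := by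
      intro g hg x hx
      have h1 : g * x * g⁻¹ ∈ Pd.map (MulAut.conj g).toMonoidHom := conj_mem_map hx
      rw [hPdef, map_commutator] at h1
      refine commutator_mono ?_ ?_ h1 <;>
      · rintro _ ⟨y, hy, rfl⟩
        exact hnP g hg y hy
    haveI : (Pd.subgroupOf H).Normal := ⟨fun x hx g => hPdn g g.2 x hx⟩
    set π := QuotientGroup.mk' (Pd.subgroupOf H) with hπ
    set V := ((P : Subgroup G).subgroupOf H).map π with hV
    have hVc : Nat.card ↥V ∣ 9 := by
      let f : ↥(P : Subgroup G) →* ↥V :=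
        (π.comp (Subgroup.inclusion hPH)).codRestrict V fun x => ⟨_, x.2, rfl⟩
      have hsurj : Function.Surjective f := by
        rintro ⟨_, ⟨x, hx, rfl⟩⟩
        exact ⟨⟨x, hx⟩, rfl⟩
      have hker : commutator ↥(P : Subgroup G) ≤ f.ker := fun x hx => Subtype.ext
        ((QuotientGroup.eq_one_iff _).2 (mem_subgroupOf.2 (hmapd ▸ ⟨x, hx, rfl⟩ : (x : G) ∈ Pd)))
      have h1 : Nat.card ↥V = f.ker.index := by
        rw [Subgroup.index_ker, MonoidHom.range_eq_top.2 hsurj, Subgroup.card_top]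
      rw [h1]
      obtain ⟨i, hi⟩ := IsPGroup.iff_card.1 hP
      obtain ⟨j, hji, hj⟩ := (Nat.dvd_prime_pow Nat.prime_three).1 (hi ▸ Subgroup.index_dvd_card f.ker)
      have hle : f.ker.index ≤ 9 :=
        (Nat.le_of_dvd (Nat.pos_of_ne_zero Subgroup.FiniteIndex.index_ne_zero) (Subgroup.index_dvd_of_le hker)).trans hidx
      rw [hj] at hle ⊢
      have : j ≤ 2 := by
        by_contra hj3
        have := Nat.pow_le_pow_right (show 1 ≤ 3 by norm_num) (show 3 ≤ j by omega)
        omega
      exact Nat.pow_dvd_pow 3 this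
    have hcomm := commute_of_card_nine (V := V) (σ := π ⟨ρ, hρH⟩) hr hr5
      (by rw [← map_pow, show (⟨ρ, hρH⟩ : ↥H) ^ r = 1 from Subtype.ext (by simpa using hρ ▸ pow_orderOf_eq_one ρ),
        map_one])
      (by
        rintro _ ⟨x, hx, rfl⟩
        exact ⟨⟨ρ, hρH⟩ * x * ⟨ρ, hρH⟩⁻¹, hnP ρ hρH x hx, by simp⟩) hVc
    have hle := Cfsg.Lib.Coprime.le_centralizer_of_frattini (A := zpowers ρ) (K := (P : Subgroup G))
      (zpowers_le.2 (mem_nrm (hnP ρ hρH)))
      (by
        obtain ⟨j, hj⟩ := IsPGroup.iff_card.1 (hP.to_subgroup (frattini ↥(P : Subgroup G)))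
        rw [Nat.card_zpowers, hρ, hj]
        exact Nat.Coprime.pow_right _ ((Nat.coprime_primes hr Nat.prime_three).2 hne.2))
      (fun a ha k hk => by
        have haH : a ∈ H := zpowers_le.2 hρH ha
        obtain ⟨i, hi⟩ := mem_zpowers_iff.1 ha
        have hc : Commute (π ⟨a, haH⟩) (π ⟨k, hPH hk⟩) := by
          have e : (⟨a, haH⟩ : ↥H) = ⟨ρ, hρH⟩ ^ i := Subtype.ext (by simpa using hi.symm)
          rw [e, map_zpow]
          exact (hcomm _ ⟨_, hk, rfl⟩).zpow_left i
        have h1 : π (⟨a, haH⟩ * ⟨k, hPH hk⟩ * ⟨a, haH⟩⁻¹ * ⟨k, hPH hk⟩⁻¹) = 1 := by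
          rw [map_mul, map_mul, map_mul, map_inv, map_inv, hc.eq, mul_inv_cancel_right, mul_inv_cancel]
        have h2 : a * k * a⁻¹ * k⁻¹ ∈ Pd := mem_subgroupOf.1 ((QuotientGroup.eq_one_iff _).1 h1)
        rw [hmapd] at h2
        exact map_mono (Cfsg.Lib.PGroups.commutator_le_frattini hP) h2)
    exact h.not_comm hr hne.1 hne.2 hρ (Or.inr hc0)
      ((mem_centralizer_iff.1 (hle (mem_zpowers ρ)) c0 hcP).symm)
  -- the index of the Sylow subgroup in `H`
  set PH := (P : Subgroup G).subgroupOf H with hPH'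
  haveI : PH.Normal := ⟨fun x hx g => hnP g g.2 x hx⟩
  have hi : PH.index = 1 ∨ PH.index = 2 := by
    have h3 : ¬ 3 ∣ PH.index := fun hd => P.not_dvd_index
      (hd.trans (Subgroup.relIndex_dvd_index_of_le hPH : (P : Subgroup G).relIndex H ∣ _))
    have hpow : PH.index = 2 ^ PH.index.primeFactorsList.length :=
      Nat.eq_prime_pow_of_unique_prime_dvd Subgroup.FiniteIndex.index_ne_zero fun {q} hq hqd =>
        (hprimes q hq (hqd.trans (Subgroup.index_dvd_card _))).resolve_right fun e => h3 (e ▸ hqd)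
    obtain ⟨k, hk⟩ : ∃ k, PH.index = 2 ^ k := ⟨_, hpow⟩
    rcases k with _ | _ | k
    · exact Or.inl (by rw [hk, pow_zero])
    · exact Or.inr (by rw [hk, pow_one])
    exfalso
    obtain ⟨T⟩ := (inferInstance : Nonempty (Sylow 2 ↥H))
    have h4 : 4 ∣ Nat.card ↥H := (hk ▸ (⟨2 ^ k, by ring⟩ : 4 ∣ 2 ^ (k + 1 + 1)) : 4 ∣ PH.index).trans
      (Subgroup.index_dvd_card _)
    have h5 : 2 ^ 2 ∣ Nat.card ↥(T : Subgroup ↥H) := T.pow_dvd_card_of_pow_dvd_card (by norm_num; exact h4)
    have h6 := hfour ((T : Subgroup ↥H).map H.subtype) (map_subtype_le _) (T.2.map _)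
    rw [Subgroup.card_map_of_injective H.subtype_injective] at h6
    have := Nat.le_of_dvd Nat.card_pos h5
    omega
  have hcPd : ∀ c ∈ Pd, c ≠ 1 → (∃ t : G, orderOf t = 2 ∧ Commute c t) → False := by
    intro c hc hc1 hct
    rw [hmapd] at hc
    obtain ⟨x, hx, rfl⟩ := hc
    exact hc1 (congrArg Subtype.val
      (eq_one_of_small_centralizer hP hx (hsmallc _ x.2 hc1 hct x.2)))
  rcases hi with hi | hi
  · -- no element outside the Sylow subgroup
    have hHP : H ≤ (P : Subgroup G) := subgroupOf_eq_top.1 (Subgroup.index_eq_one.1 hi)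
    have hle : (P : Subgroup G) ≤ Pd := sylow_le_of_control hperf P hNP hfus
      (fun g hg x hx => by
        rw [show g * x * g⁻¹ = ⁅g, x⁆ * x by rw [commutatorElement_def]; group]
        exact mul_mem (commutator_mem_commutator (hHP hg) (commutator_le_self _ hx)) hx)
      le_rfl (inf_le_right.trans (commutator_mono hHP hHP))
    exact hcPd c0 (hle hcP) hc01 hex0
  · obtain ⟨⟨t, htH⟩, ht⟩ := exists_prime_orderOf_dvd_card' (G := ↥H) 2 (hi ▸ Subgroup.index_dvd_card PH)
    rw [orderOf_mk] at ht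
    have htt : t * t = 1 := by rw [← pow_two, ← ht, pow_orderOf_eq_one]
    have htP : t ∉ (P : Subgroup G) := fun e => by
      have := h.order_s hP e (fun e' => by rw [e', orderOf_one] at ht; omega)
      omega
    have hHform : ∀ g ∈ H, ∃ x ∈ (P : Subgroup G), g = x ∨ g = x * t := by
      intro g hg
      by_cases hgP : g ∈ (P : Subgroup G)
      · exact ⟨g, hgP, Or.inl rfl⟩
      refine ⟨g * t, ?_, Or.inr (by rw [mul_assoc, htt, mul_one])⟩
      have := (Subgroup.mul_mem_iff_of_index_two hi (a := ⟨g, hg⟩) (b := ⟨t, htH⟩)).2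
        (iff_of_false hgP htP)
      exact this
    have hfix := fixed_mem_derived hperf P (by norm_num) hNP hfus htt htH hnP hHform
    by_cases hne : ∃ c ∈ (P : Subgroup G), c ≠ 1 ∧ Commute c t
    · obtain ⟨c, hc, hc1, hct⟩ := hne
      exact hcPd c (hfix c hc hct) hc1 ⟨t, ht, hct⟩
    · push Not at hne
      exact (hcent c0 hc0 hex0).2 t (inv_of_fpf htt (hnP t htH) (fun k hk hc => by
        by_contra hk1
        exact hne k hk hk1 hc.symm) c0 hcP)

end NoCore

end Cfsg.Lib.CITExt.TwoS
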