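import Cfsg.Agent.CITExt.OuterLinear

/-!
Odd outer automorphisms of `PSL₂(q)` inside a group with that socle are field automorphisms.
-/

set_option autoImplicit false
set_option linter.unusedSectionVars false
set_option linter.style.haveILetI false

namespace Cfsg.Lib.CITExt

open Subgroup Matrix Cfsg.Lib.Known.AutPSL2

variable {G : Type*} [Group G] [Finite G] {F : Type} [Field F] [Fintype F]

/-- the product of an element with its conjugate is a square -/
theorem isSquare_mul_conj (σ : F ≃+* F) (a : Fˣ) : IsSquare ((a : F) * σ a) := by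
  classical
  by_cases hF : ringChar F = 2
  · exact FiniteField.isSquare_of_char_two hF _
  by_cases ha : IsSquare (a : F)
  · exact ha.mul (ha.map σ)
  have hσ : ¬ IsSquare (σ a) := fun hs => ha (by simpa using hs.map σ.symm)
  have h0 : σ (a : F) ≠ 0 := by simp
  rw [← quadraticChar_one_iff_isSquare (mul_ne_zero a.ne_zero h0), map_mul,
    (quadraticChar_neg_one_iff_not_isSquare).2 ha, (quadraticChar_neg_one_iff_not_isSquare).2 hσ]
  norm_num

/-- an element of order `r` inducing a field automorphism of order `r` -/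
theorem exists_field_element {N : Subgroup G} [N.Normal] (hC : centralizer (N : Set G) = ⊥)
    (e : ↥N ≃* Matrix.ProjectiveSpecialLinearGroup (Fin 2) F) {p f : ℕ} [Fact p.Prime] [CharP F p] (hf : 1 ≤ f)
    (hF : Fintype.card F = p ^ f) {r : ℕ} (hr : r.Prime) (hr2 : r ≠ 2) (hd : r ∣ N.index) :
    ∃ y : G, orderOf y = r ∧ r ∣ f ∧ Commute y ((e.symm (π (uS 1)) : ↥N) : G) ∧
      Commute y ((e.symm (π (vS 1)) : ↥N) : G) ∧ Commute y ((e.symm (π wS) : ↥N) : G) := by
  classical
  haveI := Fact.mk hr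
  letI : Algebra (ZMod p) F := ZMod.algebra F p
  obtain ⟨ρ, hρ, hρN⟩ := exists_rho hC e
  obtain ⟨q, hq⟩ := exists_prime_orderOf_dvd_card' (G := G ⧸ N) r (by rwa [← N.index_eq_card])
  obtain ⟨g, rfl⟩ := QuotientGroup.mk'_surjective N q
  obtain ⟨p₀, a, σ, hdec⟩ := exists_decomp p hf hF (ρ g)
  obtain ⟨b, hb⟩ := isSquare_mul_conj σ.toRingEquiv a
  have hb0 : b ≠ 0 := fun e0 => by
    rw [e0, mul_zero, mul_eq_zero] at hb
    rcases hb with h0 | h0
    · exact a.ne_zero h0
    · exact a.ne_zero (σ.toRingEquiv.map_eq_zero_iff.1 h0)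
  obtain ⟨d, hd'⟩ := diagAut_sq (F := F) (Units.mk0 b hb0)
  set β := diagAut a * fieldAut p σ with hβ
  have hββ : β * β = MulAut.conj d * fieldAut p (σ * σ) := by
    rw [← hd', map_mul, hβ, ← mul_assoc, mul_assoc (diagAut a), fieldAut_conj_diag, ← mul_assoc, ← map_mul,
      mul_assoc]
    congr 2
    exact Units.ext (by rw [Units.val_mul, Units.val_pow_eq_pow_val, Units.val_mk0, pow_two, ← hb]; rfl)
  have hg2 : ρ (g * g) = MulAut.conj (p₀ * β p₀ * d) * fieldAut p (σ * σ) := by
    have h1 : β * MulAut.conj p₀ = MulAut.conj (β p₀) * β := MulEquiv.ext fun x => by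
      simp only [MulAut.mul_apply, MulAut.conj_apply, map_mul, map_inv]
    rw [map_mul ρ, hdec, mul_assoc (MulAut.conj p₀), ← hβ, map_mul, map_mul, mul_assoc (MulAut.conj p₀),
      ← mul_assoc β, h1, mul_assoc (MulAut.conj (β p₀)), hββ]
    simp only [mul_assoc]
  set m : ↥N := e.symm (p₀ * β p₀ * d) with hm
  set y : G := (m : G)⁻¹ * (g * g) with hy
  have hρy : ρ y = fieldAut p (σ * σ) := by
    rw [hy, map_mul, map_inv, hρN, hm, e.apply_symm_apply, hg2, inv_mul_cancel_left]
  have hyq : QuotientGroup.mk' N y = (QuotientGroup.mk' N g) ^ 2 := by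
    rw [hy, map_mul, map_inv, show QuotientGroup.mk' N (m : G) = 1 from (QuotientGroup.eq_one_iff _).2 m.2,
      inv_one, one_mul, map_mul, pow_two]
  have hord : orderOf (QuotientGroup.mk' N y) = r := by
    rw [hyq]
    refine (Nat.Coprime.orderOf_pow ?_).trans hq
    rw [hq]
    exact (Nat.coprime_primes hr Nat.prime_two).2 hr2
  have hyr : y ^ r ∈ N := by
    refine (QuotientGroup.eq_one_iff _).1 ?_
    rw [← QuotientGroup.mk'_apply, map_pow, ← hord, pow_orderOf_eq_one]
  have hσr : (σ * σ) ^ r = 1 := by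
    refine (inner_imp (F := F) p (a := 1) (g := e ⟨y ^ r, hyr⟩) ?_).1
    rw [map_one, one_mul, map_pow, ← hρy, ← map_pow, ← hρN]
  have hyo : orderOf y = r := by
    refine orderOf_eq_prime (hρ ?_) fun e1 => ?_
    · rw [map_pow, hρy, ← map_pow, hσr, map_one, map_one]
    · rw [e1, map_one, orderOf_one] at hord
      exact hr.one_lt.ne hord
  have hσo : orderOf (σ * σ) = r := by
    refine orderOf_eq_prime hσr fun e1 => ?_
    have : y = 1 := hρ (by rw [hρy, e1, map_one, map_one])
    rw [this, orderOf_one] at hyo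
    exact hr.one_lt.ne hyo
  refine ⟨y, hyo, ?_, commute_of_fixed e hρ hρN ?_, commute_of_fixed e hρ hρN ?_, commute_of_fixed e hρ hρN ?_⟩
  · have hfin : Module.finrank (ZMod p) F = f := by
      have := Module.card_eq_pow_finrank (K := ZMod p) (V := F)
      rw [hF, ZMod.card] at this
      exact (Nat.pow_right_injective (Fact.out : p.Prime).two_le this).symm
    rw [← hfin, ← IsGalois.card_aut_eq_finrank (ZMod p) F, ← hσo]
    exact orderOf_dvd_natCard _
  · rw [hρy, fieldAut_u, map_one]
  · rw [hρy, fieldAut_v, map_one]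
  · rw [hρy, ← uS_conj_v, map_mul, map_mul, fieldAut_u, fieldAut_v, map_one, map_neg, map_one]

end Cfsg.Lib.CITExt
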