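import Cfsg.Agent.CITExt.TwoS.Structure

/-!
The intersection of two conjugates of the strongly embedded subgroup.
-/

set_option autoImplicit false
set_option linter.unusedSectionVars false
set_option linter.style.haveILetI false

namespace Cfsg.Lib.CITExt.TwoS

open Subgroup Cfsg.Lib.CITGroups

universe u

variable {G : Type u} [Group G] [Finite G] {s : ℕ}

/-- an element of order `s` normalising a nontrivial `s`-group centralises a nontrivial element of it -/
theorem Hyp.exists_commuting (h : Hyp s G) {K : Subgroup G} (hK : IsPGroup s ↥K) (hne : K ≠ ⊥) {d : G}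
    (hd : d ^ s = 1) (hdK : ∀ k ∈ K, d * k * d⁻¹ ∈ K) : ∃ z ∈ K, z ≠ 1 ∧ Commute d z := by
  haveI := Fact.mk h.prime
  set P := K ⊔ zpowers d with hP
  have hPs : IsPGroup s ↥P := hK.to_sup_of_normal_left' (h.zpowers_sgroup hd) (zpowers_le.2 (mem_nrm hdK))
  haveI : (K.subgroupOf P).Normal := (normal_subgroupOf_iff_le_normalizer le_sup_left).2
    (sup_le le_normalizer (zpowers_le.2 (mem_nrm hdK)))
  obtain ⟨z, hz, hzc, hz1⟩ := Cfsg.Lib.PGroups.exists_mem_center_of_normal_ne_bot hPs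
    (N := K.subgroupOf P) (fun e => hne (by
      rw [subgroupOf_eq_bot] at e
      exact eq_bot_iff.2 fun x hx => e.le_bot ⟨hx, mem_sup_left hx⟩))
  exact ⟨z, mem_subgroupOf.1 hz, fun e => by
    rw [(Subtype.ext e : z = 1), orderOf_one] at hz1
    exact h.prime.one_lt.ne hz1,
    congrArg Subtype.val (mem_center_iff.1 hzc ⟨d, mem_sup_right (mem_zpowers d)⟩)⟩

/-- a group whose only prime is `s` -/
theorem isPGroup_of_primes {K : Subgroup G} {r : ℕ} (hK : ∀ q : ℕ, q.Prime → q ∣ Nat.card ↥K → q = r) :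
    IsPGroup r ↥K :=
  IsPGroup.of_card (Nat.eq_prime_pow_of_unique_prime_dvd Nat.card_pos.ne' fun {q} hq hd => hK q hq hd)

/-- the intersection of the normaliser with its conjugate by `u` -/
def Two' (Q : Subgroup G) (u : G) : Subgroup G :=
  normalizer (Q : Set G) ⊓ (normalizer (Q : Set G)).map (MulAut.conj u).toMonoidHom

namespace Setup

variable {S : Sylow 2 G} {Q : Subgroup G}

local notation "M" => normalizer (Q : Set G)

theorem pair_odd (L : Setup s S Q) (hns : ¬ Group.IsSolvable G) {u d : G} (huM : u ∉ M) (hd : d ∈ Two' Q u) :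
    Odd (orderOf d) :=
  Odd.of_dvd_nat ((L.strongly hns).2.2 u huM) (by rw [← orderOf_mk d hd]; exact _root_.orderOf_dvd_natCard _)

theorem pair_cent (L : Setup s S Q) (hns : ¬ Group.IsSolvable G) {u d t : G} (huM : u ∉ M) (hd : d ∈ Two' Q u)
    (ht : t ∈ (S : Subgroup G)) (ht1 : t ≠ 1) (hc : Commute d t) : d ∈ Q :=
  (L.mem_sup_cases (L.cent_le_QS hns ht ht1 hc)).2 (L.pair_odd hns huM hd)

theorem pair_trans (L : Setup s S Q) (hns : ¬ Group.IsSolvable G) {u t t' : G} (hu : orderOf u = 2) (huM : u ∉ M)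
    (ht : t ∈ (S : Subgroup G)) (ht1 : t ≠ 1) (ht' : t' ∈ (S : Subgroup G)) (ht1' : t' ≠ 1) :
    ∃ d ∈ Two' Q u, d * t * d⁻¹ = t' :=
  (Cfsg.Agent.S1225.result M (L.strongly hns) u hu huM t t' (L.hyp.order_S S ht ht1) (L.sylow_le ht)
    (L.hyp.order_S S ht' ht1') (L.sylow_le ht')).1

theorem pair_relIndex (L : Setup s S Q) (hns : ¬ Group.IsSolvable G) {u : G} (hu : orderOf u = 2) (huM : u ∉ M) :
    Q.relIndex (Two' Q u) = Nat.card {x : G // x ∈ (S : Subgroup G) ∧ x ≠ 1} := by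
  obtain ⟨t, ht, ht1⟩ := L.exists_one
  rw [← relIndex_centralizer (K := Two' Q u) (t := t) _
    (fun d hd => ⟨L.normal_S hns hd.1 ht, fun e => ht1 (conj_eq_one_iff.1 e)⟩)
    fun z ⟨hz, hz1⟩ => L.pair_trans hns hu huM ht ht1 hz hz1]
  unfold Subgroup.relIndex
  congr 1
  ext ⟨d, hd⟩
  simp only [mem_subgroupOf]
  exact ⟨fun hq => L.le_cent_S hns ht (mem_sup_left hq),
    fun hc => L.pair_cent hns huM hd ht ht1 (mem_centralizer_singleton_iff.1 hc)⟩

theorem pair_card (L : Setup s S Q) (hns : ¬ Group.IsSolvable G) {u : G} (hu : orderOf u = 2) (huM : u ∉ M) :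
    Nat.card ↥(Two' Q u) =
      Nat.card {x : G // x ∈ (S : Subgroup G) ∧ x ≠ 1} * Nat.card ↥(Two' Q u ⊓ Q) := by
  rw [← L.pair_relIndex hns hu huM, ← Subgroup.index_mul_card (Q.subgroupOf (Two' Q u))]
  congr 1
  rw [← Subgroup.card_map_of_injective (Two' Q u).subtype_injective, subgroupOf_map_subtype, inf_comm]

/-- with `s` involutions in `S` some conjugate of the strongly embedded subgroup meets `Q` -/
theorem exists_meet (L : Setup s S Q) (hns : ¬ Group.IsSolvable G)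
    (hl : Nat.card {x : G // x ∈ (S : Subgroup G) ∧ x ≠ 1} = s) :
    ∃ g : G, g ∉ M ∧ ∃ x ∈ Q, x ≠ 1 ∧ g⁻¹ * x * g ∈ M := by
  haveI := Fact.mk L.hyp.prime
  have h := L.hyp
  have hSE := L.strongly hns
  by_contra hcon
  push Not at hcon
  have hno : ∀ g : G, g ∉ M → ∀ x ∈ Q, g⁻¹ * x * g ∈ M → x = 1 := fun g hg x hx hgx => by
    by_contra hx1
    exact hcon g hg x hx hx1 hgx
  obtain ⟨u, hu, huM⟩ := L.exists_outside hns
  have hDQ : ∀ x ∈ Two' Q u, x ∈ Q → x = 1 := fun x hx hxQ =>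
    hno u huM x hxQ ((Cfsg.Lib.StrongEmb.mem_conj_iff).1 hx.2)
  have hcard : Nat.card ↥(Two' Q u) = s := by
    rw [L.pair_card hns hu huM, hl, show (Two' Q u ⊓ Q) = ⊥ from eq_bot_iff.2 fun x hx => mem_bot.2 (hDQ x hx.1 hx.2),
      Subgroup.card_bot, mul_one]
  obtain ⟨⟨d, hdD⟩, hd⟩ := exists_prime_orderOf_dvd_card' (G := ↥(Two' Q u)) s (dvd_of_eq hcard.symm)
  rw [orderOf_mk] at hd
  have hds : d ^ s = 1 := hd ▸ pow_orderOf_eq_one d
  have hd1 : d ≠ 1 := fun e => h.prime.one_lt.ne (by rw [← hd, e, orderOf_one])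
  set R := centralizer ({d} : Set G) with hR
  have hRs : IsPGroup s ↥R := isPGroup_of_primes fun q hq hqd => by
    refine (h.primes_cent (Or.inr hd) (fun _ hk => mem_centralizer_singleton_iff.1 hk) hq hqd).resolve_left ?_
    rintro rfl
    haveI : Fact (Nat.Prime 2) := ⟨Nat.prime_two⟩
    obtain ⟨⟨e, heR⟩, he⟩ := exists_prime_orderOf_dvd_card' (G := ↥R) 2 hqd
    rw [orderOf_mk] at he
    obtain ⟨t, ht, ht1⟩ := L.exists_one
    obtain ⟨g, hg⟩ := isConj_iff.1 (Cfsg.Lib.StrongEmb.all_conj hSE (h.order_S S ht ht1) he)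
    have hc : Commute (g⁻¹ * d * g) t := by
      have := (show Commute e d from mem_centralizer_singleton_iff.1 heR).symm.map (MulAut.conj g⁻¹).toMonoidHom
      rw [← hg] at this
      simpa [mul_assoc] using this
    have hQ : g⁻¹ * d * g ∈ Q := (L.mem_sup_cases (L.cent_le_QS hns ht ht1 hc)).2 (by
      rw [show g⁻¹ * d * g = MulAut.conj g⁻¹ d by simp, MulEquiv.orderOf_eq, hd]
      exact h.odd_s)
    by_cases hgM : g ∈ M
    · refine hd1 (hDQ d hdD ?_)
      simpa [mul_assoc] using nrm_conj hgM hQ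
    · have := hno g⁻¹ (fun e => hgM (inv_inv g ▸ inv_mem e)) _ hQ (by simpa [mul_assoc] using hdD.1)
      exact hd1 (conj_eq_one_iff.1 (show g⁻¹ * d * g⁻¹⁻¹ = 1 by rw [inv_inv]; exact this))
  obtain ⟨w, hw, hw1, hwc⟩ := h.exists_commuting L.inv.1 L.ne hds (fun k hk => nrm_conj hdD.1 hk)
  obtain ⟨w', hw', hw'1, hw'c⟩ := h.exists_commuting (L.inv.1.map (MulAut.conj u).toMonoidHom)
    (fun e => L.ne ((Subgroup.map_eq_bot_iff_of_injective _ (MulAut.conj u).injective).1 e)) hds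
    (by
      rintro _ ⟨k, hk, rfl⟩
      exact ⟨u⁻¹ * d * u * k * (u⁻¹ * d * u)⁻¹, nrm_conj ((Cfsg.Lib.StrongEmb.mem_conj_iff).1 hdD.2) hk,
        by simp [mul_assoc]⟩)
  have hw'M : w' ∉ M := by
    intro hM
    obtain ⟨k, hk, rfl⟩ := hw'
    refine hw'1 ?_
    rw [hno u⁻¹ (fun e => huM (inv_inv u ▸ inv_mem e)) k hk (by simpa using hM), map_one]
  haveI : Group.IsNilpotent ↥R := hRs.isNilpotent
  have hlt := Group.normalizerCondition_of_isNilpotent (G := ↥R) ((M).subgroupOf R) (lt_top_iff_ne_top.2 fun e =>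
    hw'M (subgroupOf_eq_top.1 e (mem_centralizer_singleton_iff.2 hw'c.eq.symm)))
  obtain ⟨n, hn, hnM⟩ := SetLike.exists_of_lt hlt
  have hwR : w ∈ R := mem_centralizer_singleton_iff.2 hwc.eq.symm
  have h1 := (mem_normalizer_iff.1 hn ⟨w, hwR⟩).1 (mem_subgroupOf.2 (le_normalizer hw))
  refine hw1 (hno (n : G)⁻¹ (fun e => hnM (mem_subgroupOf.2 (inv_inv (n : G) ▸ inv_mem e))) w hw ?_)
  simpa using mem_subgroupOf.1 h1

/-- the configuration of two conjugates meeting in an elementary group of order `s²` -/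
theorem exists_square (L : Setup s S Q) (hns : ¬ Group.IsSolvable G)
    (hl : Nat.card {x : G // x ∈ (S : Subgroup G) ∧ x ≠ 1} = s) :
    ∃ u : G, orderOf u = 2 ∧ u ∉ M ∧ IsPGroup s ↥(Two' Q u) ∧ IsMulCommutative ↥(Two' Q u) ∧
      ∃ a ∈ Two' Q u, a ∈ Q ∧ a ≠ 1 := by
  haveI := Fact.mk L.hyp.prime
  have h := L.hyp
  have hSE := L.strongly hns
  obtain ⟨g, hg, x, hx, hx1, hgx⟩ := L.exists_meet hns hl
  obtain ⟨t, ht, ht1⟩ := L.exists_one
  have hne : (QuotientGroup.mk (1 : G) : G ⧸ M) ≠ QuotientGroup.mk g := fun e =>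
    hg (by simpa using QuotientGroup.eq.1 e)
  obtain ⟨u, hu, hux, -, -⟩ := Cfsg.Lib.StrongEmb.exists_swap hSE hne (s := t) (t := g * t * g⁻¹)
    (h.order_S S ht ht1) (by
      rw [MulAction.Quotient.smul_mk, smul_eq_mul, QuotientGroup.eq]
      simpa using inv_mem (L.sylow_le ht))
    (by rw [show g * t * g⁻¹ = MulAut.conj g t from rfl, MulEquiv.orderOf_eq, h.order_S S ht ht1])
    (by
      rw [MulAction.Quotient.smul_mk, smul_eq_mul, QuotientGroup.eq]
      simpa [mul_assoc] using inv_mem (L.sylow_le ht))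
  rw [MulAction.Quotient.smul_mk, smul_eq_mul, mul_one, QuotientGroup.eq] at hux
  have huM : u ∉ M := fun e => hg (by simpa using mul_mem e hux)
  have hxD : x ∈ Two' Q u := ⟨le_normalizer hx, (Cfsg.Lib.StrongEmb.mem_conj_iff).2 (by
    have := mul_mem (mul_mem hux hgx) (inv_mem hux)
    simpa [mul_assoc] using this)⟩
  have huu : u⁻¹ = u := inv_eq_of_mul_eq_one_right (by rw [← pow_two, ← hu, pow_orderOf_eq_one])
  set A := Two' Q u ⊓ Q with hA
  set B := A.map (MulAut.conj u).toMonoidHom with hB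
  have hBM : B ≤ M := by
    rintro _ ⟨a, ha, rfl⟩
    have := (Cfsg.Lib.StrongEmb.mem_conj_iff).1 ha.1.2
    simpa [huu] using this
  have hBQ : (Q ⊔ (S : Subgroup G)) ⊓ B = ⊥ := eq_bot_iff.2 (by
    rintro _ ⟨hb, ⟨a, ha, rfl⟩⟩
    have hQ : MulAut.conj u a ∈ Q := (L.mem_sup_cases hb).2 (by
      rw [MulEquiv.coe_toMonoidHom, MulEquiv.orderOf_eq]
      exact L.pair_odd hns huM ha.1)
    rw [mem_bot]
    exact (map_eq_one_iff _ (MulAut.conj u).injective).2
      (L.ti hns ha.2 (g := u⁻¹) (by simpa using hQ) (fun e => huM (inv_inv u ▸ inv_mem e))))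
  have hBs : Nat.card ↥B ≤ s := by
    rw [← hl, ← L.relIndex_QS hns, ← Subgroup.relIndex_bot_left B, ← hBQ, inf_relIndex_right]
    exact Subgroup.relIndex_le_of_le_right hBM Subgroup.FiniteIndex.index_ne_zero
  rw [hB, Subgroup.card_map_of_injective (MulAut.conj u).injective] at hBs
  have hAs : IsPGroup s ↥A := L.inv.1.to_le inf_le_right
  have hA : Nat.card ↥A = s := by
    obtain ⟨i, hi⟩ := IsPGroup.iff_card.1 hAs
    rcases i with _ | i
    · exfalso
      rw [pow_zero, Subgroup.card_eq_one] at hi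
      exact hx1 (by rw [← mem_bot, ← hi]; exact ⟨hxD, hx⟩)
    · rw [hi] at hBs ⊢
      have := Nat.le_self_pow (show i + 1 ≠ 0 by omega) s
      omega
  have hD : Nat.card ↥(Two' Q u) = s ^ 2 := by rw [L.pair_card hns hu huM, hl, ← hA, pow_two]
  exact ⟨u, hu, huM, IsPGroup.of_card hD, IsPGroup.isMulCommutative_of_card_eq_prime_sq hD, x, hxD, hx, hx1⟩

end Setup

end Cfsg.Lib.CITExt.TwoS
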