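import Cfsg.Agent.CITExt.TwoS.Basic
import Cfsg.Agent.S4593

/-!
The socle of a non-solvable group in which the orders divisible by `2` or by `s` are `2`, `s` and `2s`.
-/

set_option autoImplicit false
set_option linter.unusedSectionVars false
set_option linter.style.haveILetI false

namespace Cfsg.Lib.CITExt.TwoS

open Subgroup Cfsg.Lib.CITGroups

universe u

variable {G : Type u} [Group G] [Finite G] {s : ℕ}

/-- two commuting subgroups of equal order are solvable -/
theorem Hyp.solvable_of_commute (h : Hyp s G) {L M : Subgroup G} (e : Nat.card ↥L = Nat.card ↥M)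
    (hc : ∀ a ∈ L, ∀ b ∈ M, Commute a b) : Group.IsSolvable ↥L := by
  haveI : Fact (Nat.Prime 2) := ⟨Nat.prime_two⟩
  by_cases heven : Even (Nat.card ↥L)
  swap
  · exact Cfsg.Agent.PF.isSolvable_of_odd _ (Nat.not_even_iff_odd.1 heven)
  obtain ⟨t, ht⟩ := exists_prime_orderOf_dvd_card' (G := ↥M) 2 (e ▸ heven.two_dvd)
  rw [← orderOf_coe] at ht
  haveI := h.solvable_centralizer (Or.inl ht)
  exact Cfsg.Lib.Coprime.isSolvable_of_le
    (fun a ha => mem_centralizer_singleton_iff.2 (hc a ha t t.2).eq) (h.solvable_centralizer (Or.inl ht))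

/-- the socle is simple and contains every involution -/
theorem Hyp.exists_socle (h : Hyp s G) (hns : ¬ Group.IsSolvable G) :
    ∃ N : Subgroup G, N.Normal ∧ IsSimpleGroup ↥N ∧ ¬ IsMulCommutative ↥N ∧
      centralizer (N : Set G) = ⊥ ∧ Odd N.index := by
  haveI : Fact (Nat.Prime 2) := ⟨Nat.prime_two⟩
  haveI : Nontrivial G := by
    rcases subsingleton_or_nontrivial G with hs | hn
    · exact absurd (Group.isSolvable_of_comm fun a b => Subsingleton.elim _ _) hns
    · exact hn
  obtain ⟨N, hN, -, hne, hmin⟩ := exists_minimal_normal (normal_top : (⊤ : Subgroup G).Normal) top_ne_bot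
  haveI := hN
  haveI : Nontrivial ↥N := N.nontrivial_iff_ne_bot.2 hne
  have hNs : ¬ Group.IsSolvable ↥N := fun hs => hne (h.no_solvable_normal hns N hN hs)
  obtain ⟨L, hL, -, hL1, hLmin⟩ := exists_minimal_normal (normal_top : (⊤ : Subgroup ↥N).Normal) top_ne_bot
  have hLtop : L = ⊤ := by
    by_contra hLt
    haveI := hL
    let c : G → Subgroup ↥N := fun g => L.map (MulAut.conjNormal g : MulAut ↥N).toMonoidHom
    have hcn : ∀ g, (c g).Normal := fun g => hL.map _ (MulAut.conjNormal g : MulAut ↥N).surjective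
    have hcard : ∀ g, Nat.card ↥(c g) = Nat.card ↥L := fun g =>
      card_map_of_injective (MulAut.conjNormal g : MulAut ↥N).injective
    have hcmin : ∀ g, ∀ K : Subgroup ↥N, K.Normal → K ≤ c g → K = ⊥ ∨ K = c g := by
      intro g K hK hKc
      obtain ⟨α, hα⟩ : ∃ α : MulAut ↥N, α = MulAut.conjNormal g := ⟨_, rfl⟩
      have hcg : c g = L.map α.toMonoidHom := by rw [hα]
      rw [hcg] at hKc ⊢
      rcases hLmin (K.comap α.toMonoidHom) (hK.comap _)
        ((comap_mono hKc).trans (comap_map_eq_self_of_injective α.injective L).le) with e | e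
      · exact Or.inl (by rw [← map_comap_eq_self_of_surjective (f := α.toMonoidHom) α.surjective K, e, Subgroup.map_bot])
      · exact Or.inr (by rw [← map_comap_eq_self_of_surjective (f := α.toMonoidHom) α.surjective K, e])
    have hpair : ∀ g k, c g ≠ c k → ∀ a ∈ c g, ∀ b ∈ c k, Commute a b := by
      intro g k hne' a ha b hb
      haveI := hcn g
      haveI := hcn k
      refine commute_of_normal_of_disjoint _ _ (hcn g) (hcn k) (disjoint_iff.2 ?_) a b ha hb
      rcases hcmin g (c g ⊓ c k) inferInstance inf_le_left with e | e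
      · exact e
      · rcases hcmin k (c g ⊓ c k) inferInstance inf_le_right with e' | e'
        · exact e'
        · exact absurd (e.symm.trans e') hne'
    have hc1 : c 1 = L := by
      show L.map _ = L
      rw [map_one]
      exact map_id L
    by_cases hall : ∀ g, c g = L
    · have hnorm : (L.map N.subtype).Normal := by
        constructor
        rintro _ ⟨x, hx, rfl⟩ g
        exact ⟨MulAut.conjNormal g x, hall g ▸ ⟨x, hx, rfl⟩, MulAut.conjNormal_apply g x⟩
      rcases hmin _ hnorm (map_subtype_le L) with e | e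
      · exact hL1 ((map_eq_bot_iff_of_injective _ N.subtype_injective).1 e)
      · refine hLt (eq_top_iff.2 fun x _ => ?_)
        obtain ⟨y, hy, hyx⟩ : (x : G) ∈ L.map N.subtype := e.symm ▸ x.2
        exact Subtype.ext hyx ▸ hy
    push Not at hall
    obtain ⟨g₀, hg₀⟩ := hall
    have hLs : Group.IsSolvable ↥L :=
      (h.subgroup N).solvable_of_commute (hcard g₀).symm (hc1 ▸ hpair 1 g₀ (hc1.symm ▸ Ne.symm hg₀))
    have hab := comm_of_minimal_solvable hLmin hLs hL1
    -- all conjugates together
    let X : Set G := {x | ∃ g : G, ∃ l : ↥N, l ∈ L ∧ x = g * l * g⁻¹}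
    have hXN : closure X ≤ N := by
      rw [closure_le]
      rintro _ ⟨g, l, -, rfl⟩
      exact hN.conj_mem _ l.2 g
    have hXn : (closure X).Normal := by
      constructor
      intro x hx k
      induction hx using closure_induction with
      | mem x hx =>
        obtain ⟨g, l, hl, rfl⟩ := hx
        exact subset_closure ⟨k * g, l, hl, by group⟩
      | one => simp
      | mul x y _ _ ihx ihy =>
        have := mul_mem ihx ihy
        simpa [mul_assoc] using this
      | inv x _ ih =>
        have := inv_mem ih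
        simpa [mul_assoc] using this
    have hcomm : ∀ x ∈ X, ∀ y ∈ X, x * y = y * x := by
      rintro _ ⟨g, l, hl, rfl⟩ _ ⟨k, m, hm, rfl⟩
      set a := MulAut.conjNormal g l with ha
      set b := MulAut.conjNormal k m with hb
      have key : Commute a b := by
        by_cases e : c g = c k
        · obtain ⟨l', hl', hl''⟩ : b ∈ c g := e.symm ▸ (⟨m, hm, rfl⟩ : b ∈ c k)
          rw [← hl'']
          exact (hab l hl l' hl').map (MulAut.conjNormal g : MulAut ↥N).toMonoidHom
        · exact hpair g k e a ⟨l, hl, rfl⟩ b ⟨m, hm, rfl⟩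
      have := congrArg Subtype.val key.eq
      simpa [ha, hb, MulAut.conjNormal_apply] using this
    haveI := isMulCommutative_closure hcomm
    rcases hmin _ hXn hXN with e | e
    · refine hL1 (eq_bot_iff.2 fun l hl => ?_)
      have : (l : G) ∈ closure X := subset_closure ⟨1, l, hl, by group⟩
      rw [e, mem_bot] at this
      exact mem_bot.2 (Subtype.ext this)
    · exact hNs (e ▸ Group.isSolvable_of_comm fun a b => mul_comm' a b)
  have hsimple : IsSimpleGroup ↥N := by
    refine { eq_bot_or_eq_top_of_normal := fun K hK => ?_ }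
    exact hLtop ▸ hLmin K hK (hLtop ▸ le_top)
  haveI := hsimple
  have heven : 2 ∣ Nat.card ↥N := by
    by_contra ho
    exact hNs (Cfsg.Agent.PF.isSolvable_of_odd _ (Nat.not_even_iff_odd.1 fun e => ho e.two_dvd))
  have hC : centralizer (N : Set G) = ⊥ := by
    refine h.no_solvable_normal hns _ inferInstance ?_
    by_contra hCs
    have hev : 2 ∣ Nat.card ↥(centralizer (N : Set G)) := by
      by_contra ho
      exact hCs (Cfsg.Agent.PF.isSolvable_of_odd _ (Nat.not_even_iff_odd.1 fun e => ho e.two_dvd))
    obtain ⟨z, hz⟩ := exists_prime_orderOf_dvd_card' (G := ↥(centralizer (N : Set G))) 2 hev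
    rw [← orderOf_coe] at hz
    exact hNs (Cfsg.Lib.Coprime.isSolvable_of_le
      (fun a ha => mem_centralizer_singleton_iff.2 (mem_centralizer_iff.1 z.2 a ha))
      (h.solvable_centralizer (Or.inl hz)))
  refine ⟨N, hN, hsimple, fun hc => hNs (Group.isSolvable_of_comm fun a b => hc.1.1 a b), hC, ?_⟩
  -- every involution lies in the socle
  have hinv : ∀ t : G, orderOf t = 2 → t ∈ N := by
    intro t ht
    obtain ⟨P⟩ : Nonempty (Sylow 2 ↥N) := inferInstance
    obtain ⟨Q, hQ⟩ := (P.2.map N.subtype).exists_le_sylow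
    obtain ⟨T, hT⟩ := (IsPGroup.of_card (p := 2) (n := 1)
      (by rw [Nat.card_zpowers, ht, pow_one] : Nat.card ↥(zpowers t) = 2 ^ 1)).exists_le_sylow
    obtain ⟨g, hg⟩ := MulAction.exists_smul_eq G T Q
    have htQ : g * t * g⁻¹ ∈ (Q : Subgroup G) := by
      rw [← hg]
      exact ⟨t, hT (mem_zpowers t), rfl⟩
    suffices g * t * g⁻¹ ∈ N by simpa [mul_assoc] using hN.conj_mem _ this g⁻¹
    generalize g * t * g⁻¹ = a at htQ
    have ha : a * a = 1 := h.sq_two (two_of_mem Q.2 htQ)
    have hZ : center ↥N = ⊥ := by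
      rcases IsSimpleGroup.eq_bot_or_eq_top_of_normal (center ↥N) inferInstance with e | e
      · exact e
      · refine absurd (Group.isSolvable_of_comm fun x y => ?_) hNs
        exact (mem_center_iff.1 (e ▸ mem_top y) x)
    have hcore : Cfsg.pPrimeCore 2 ↥N = ⊥ := by
      rcases IsSimpleGroup.eq_bot_or_eq_top_of_normal (Cfsg.pPrimeCore 2 ↥N)
        (Cfsg.Lib.Components.normal_of_mem_sSup_normal fun K hK => hK.1) with e | e
      · exact e
      · refine absurd heven fun hev => ?_
        have := Cfsg.Lib.Components.coprime_card_pPrimeCore (G := ↥N) 2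
        rw [e, card_top] at this
        exact absurd (Nat.eq_one_of_dvd_coprimes this hev dvd_rfl) (by norm_num)
    have hpow : ∃ j, orderOf (MulAut.conjNormal a : MulAut ↥N) = 2 ^ j := by
      obtain ⟨j, -, hj⟩ := (Nat.dvd_prime_pow Nat.prime_two (m := 1)).1
        (orderOf_dvd_of_pow_eq_one (x := (MulAut.conjNormal a : MulAut ↥N)) (n := 2 ^ 1)
          (by rw [← map_pow, pow_one, pow_two, ha, map_one]))
      exact ⟨j, hj⟩
    have hfix : ∀ x ∈ (P : Subgroup ↥N), MulAut.conjNormal a x = x := by
      intro x hx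
      refine Subtype.ext ?_
      have hc : Commute a (x : G) := h.comm_two_group Q.2 htQ (hQ ⟨x, hx, rfl⟩)
      rw [MulAut.conjNormal_apply, hc.eq, mul_inv_cancel_right]
    obtain ⟨n, hn⟩ := Cfsg.Agent.S4593.result (G := ↥N) hZ hcore P
      ⟨⟨fun x y => Subtype.ext (((h.subgroup N).comm_two_group P.2 x.2 y.2).eq)⟩⟩ (MulAut.conjNormal a) hpow hfix
    have hmem : (n : G)⁻¹ * a ∈ centralizer (N : Set G) := mem_centralizer_iff.2 fun x hx => by
      have := congrArg Subtype.val (hn ⟨x, hx⟩)
      rw [MulAut.conjNormal_apply] at this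
      push_cast at this
      calc x * ((n : G)⁻¹ * a) = (n : G)⁻¹ * ((n : G) * x * (n : G)⁻¹) * a := by group
        _ = (n : G)⁻¹ * a * x := by rw [← this]; group
    rw [hC, mem_bot, inv_mul_eq_one] at hmem
    exact hmem ▸ n.2
  obtain ⟨S⟩ : Nonempty (Sylow 2 G) := inferInstance
  have hS : (S : Subgroup G) ≤ N := fun x hx => by
    rcases eq_or_ne x 1 with rfl | hx1
    · exact N.one_mem
    · exact hinv x (h.order_two S.2 hx hx1)
  exact Nat.not_even_iff_odd.1 fun e => S.not_dvd_index (e.two_dvd.trans (index_dvd_of_le hS))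

end Cfsg.Lib.CITExt.TwoS
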