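import Cfsg.Agent.CITExt.TwoS.SimpleCase
import Cfsg.Agent.CITExt.TwoS.Socle
import Cfsg.Agent.CITExt.TwoS.Outer
import Cfsg.Agent.CITExt.ThreeOrders

/-!
The non-solvable groups in which the orders divisible by `2` or by `s` are `2`, `s` and `2s`, all three occurring.
-/

set_option autoImplicit false
set_option linter.unusedSectionVars false
set_option linter.style.haveILetI false

namespace Cfsg.Lib.CITExt.TwoS

open Subgroup Cfsg.Lib.CITGroups Matrix Cfsg.Lib.Known.AutPSL2

universe u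

variable {G : Type u} [Group G] [Finite G] {s : ℕ}

/-- nothing lies over `PSL₂(q)` by an odd index -/
theorem Hyp.eq_top_of_psl (h : Hyp s G) {N : Subgroup G} [N.Normal] (hC : centralizer (N : Set G) = ⊥)
    (hidx : Odd N.index) {F : Type} [Field F] [Fintype F]
    (e : ↥N ≃* Matrix.ProjectiveSpecialLinearGroup (Fin 2) F) : N = ⊤ := by
  classical
  by_contra hne
  obtain ⟨r, hr, hd⟩ := Nat.exists_prime_and_dvd (n := N.index) fun e1 => hne (index_eq_one.1 e1)
  have hr2 : r ≠ 2 := fun e2 => Nat.not_even_iff_odd.2 hidx (even_iff_two_dvd.2 (e2 ▸ hd))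
  obtain ⟨p, hpc⟩ := CharP.exists F
  haveI := hpc
  obtain ⟨f, hp, hF⟩ := FiniteField.card F p
  haveI := Fact.mk hp
  obtain ⟨y, hyo, hrf, hu, hv, hw⟩ := exists_field_element hC e f.pos hF hr hr2 hd
  have hs := h.prime
  have hs3 : 3 ≤ s := by
    have := hs.two_le
    have := h.ne_two
    omega
  have hrs : r = s := by
    have ho := hw.orderOf_mul_eq_mul_orderOf_of_coprime (by
      rw [hyo, orderOf_symm, orderOf_w]
      exact (Nat.coprime_primes hr Nat.prime_two).2 hr2)
    rw [hyo, orderOf_symm, orderOf_w] at ho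
    rcases h.two _ (ho ▸ dvd_mul_left 2 r) with e1 | e1 <;> rw [ho] at e1
    · have := hr.two_le
      omega
    · omega
  subst hrs
  by_cases hp2 : p = 2
  · subst hp2
    have h3 : r = 3 := by
      by_contra h3
      have hUV : orderOf (π (uS (1 : F)) * π (vS (1 : F))) = 3 := by
        haveI : Fact (Nat.Prime 3) := ⟨Nat.prime_three⟩
        refine orderOf_eq_prime ?_ fun e1 => ?_
        · rw [← map_mul, ← map_pow]
          refine (QuotientGroup.eq_one_iff _).2 ?_
          convert one_mem (Subgroup.center (Matrix.SpecialLinearGroup (Fin 2) F))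
          refine sl_ext ?_
          simp only [pow_three, cmul, cone, coe_uS, coe_vS]
          ext i j
          fin_cases i <;> fin_cases j <;> simp [Matrix.mul_apply, Fin.sum_univ_two, CharTwo.add_self_eq_zero]
        · have e2 : π (vS (1 : F)) = π (uS (-1)) := by
            rw [eq_inv_of_mul_eq_one_right e1]
            refine inv_eq_of_mul_eq_one_right ?_
            rw [← map_mul, ← uS_add, add_neg_cancel, uS_zero, map_one]
          have := π_eq_apply (F := F) e2.symm 1 0 (by simp [coe_uS])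
          simp [coe_vS] at this
      have hc : Commute y ((e.symm (π (uS 1) * π (vS 1)) : ↥N) : G) := by
        rw [map_mul, Subgroup.coe_mul]
        exact hu.mul_right hv
      have ho := hc.orderOf_mul_eq_mul_orderOf_of_coprime (by
        rw [hyo, orderOf_symm, hUV]
        exact (Nat.coprime_primes hr Nat.prime_three).2 h3)
      rw [hyo, orderOf_symm, hUV] at ho
      rcases h.spart _ (ho ▸ dvd_mul_right r 3) with e1 | e1 <;> rw [ho] at e1 <;> omega
    subst h3
    obtain ⟨k, hk⟩ := hrf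
    have hq : 2 ≤ Fintype.card F := Fintype.one_lt_card
    have hg : Nat.gcd 2 (Fintype.card F - 1) = 1 := by
      have h2 : 2 ∣ Fintype.card F := hF ▸ dvd_pow_self 2 f.pos.ne'
      exact (Nat.coprime_two_left (n := Fintype.card F - 1)).2 ⟨(Fintype.card F - 2) / 2, by omega⟩
    have h9 : 9 ∣ Fintype.card F - 1 ∨ 9 ∣ Fintype.card F + 1 := by
      have hmod : Fintype.card F % 9 = 1 ∨ Fintype.card F % 9 = 8 := by
        rw [hF, hk, pow_mul, Nat.pow_mod]
        rcases Nat.even_or_odd k with ⟨j, rfl⟩ | ⟨j, rfl⟩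
        · exact Or.inl (by rw [← two_mul, pow_mul, Nat.pow_mod]; norm_num)
        · exact Or.inr (by rw [pow_succ, pow_mul, Nat.mul_mod, Nat.pow_mod]; norm_num)
      omega
    obtain ⟨x, hx⟩ := (Cfsg.Lib.GLTwo.psl_spectrum (F := F) 2 9).2
      (Or.inr (by rw [hg, Nat.div_one, Nat.div_one]; exact h9))
    have hxG : orderOf ((e.symm x : ↥N) : G) = 9 := by rw [orderOf_symm, hx]
    rcases h.spart _ (by rw [hxG]; norm_num) with e1 | e1 <;> rw [hxG] at e1 <;> omega
  · have hps : p = r := by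
      by_contra hne'
      have ho := hu.orderOf_mul_eq_mul_orderOf_of_coprime (by
        rw [hyo, orderOf_symm, orderOf_u (p := p)]
        exact (Nat.coprime_primes hr hp).2 (Ne.symm hne'))
      rw [hyo, orderOf_symm, orderOf_u (p := p)] at ho
      rcases h.spart _ (ho ▸ dvd_mul_right r p) with e1 | e1 <;> rw [ho] at e1
      · exact hp.one_lt.ne' (Nat.eq_of_mul_eq_mul_left hr.pos (by rw [mul_one]; exact e1))
      · exact hp2 (Nat.eq_of_mul_eq_mul_left hr.pos (by rw [e1, mul_comm]))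
    subst hps
    have hfp : p ≤ (f : ℕ) := Nat.le_of_dvd f.pos hrf
    have h27 : 27 ≤ Fintype.card F := by
      rw [hF]
      exact le_trans (by norm_num : 27 ≤ 3 ^ 3)
        ((Nat.pow_le_pow_left hs3 3).trans (Nat.pow_le_pow_right hp.pos (hs3.trans hfp)))
    have hodd : Fintype.card F % 2 = 1 := by
      rw [hF]
      exact Nat.odd_iff.1 (hp.odd_of_ne_two hp2).pow
    have hpq : p ∣ Fintype.card F := hF ▸ dvd_pow_self p f.pos.ne'
    have hg : Nat.gcd 2 (Fintype.card F - 1) = 2 := Nat.gcd_eq_left (by omega)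
    have key : ∀ m : ℕ, 2 ∣ m → 13 ≤ m → (2 * m = Fintype.card F - 1 ∨ 2 * m = Fintype.card F + 1) → False := by
      intro m hm2 hm hmq
      obtain ⟨x, hx⟩ := (Cfsg.Lib.GLTwo.psl_spectrum (F := F) p m).2 (by
        rcases hmq with e1 | e1
        · exact Or.inr (Or.inl (by rw [hg]; exact dvd_of_eq (by omega)))
        · exact Or.inr (Or.inr (by rw [hg]; exact dvd_of_eq (by omega))))
      have hxG : orderOf ((e.symm x : ↥N) : G) = m := by rw [orderOf_symm, hx]
      rcases h.two _ (hxG ▸ hm2) with e1 | e1 <;> rw [hxG] at e1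
      · omega
      · have hd1 : p ∣ 2 * m := ⟨4, by omega⟩
        rcases hmq with e2 | e2 <;> rw [e2] at hd1
        · have := Nat.dvd_sub hpq hd1
          rw [show Fintype.card F - (Fintype.card F - 1) = 1 by omega] at this
          exact hp.one_lt.ne' (Nat.dvd_one.1 this)
        · exact hp.one_lt.ne' (Nat.dvd_one.1 ((Nat.dvd_add_right hpq).1 hd1))
    rcases Nat.even_or_odd ((Fintype.card F - 1) / 2) with he | ho'
    · exact key _ he.two_dvd (by omega) (Or.inl (by omega))
    · obtain ⟨j, hj⟩ := ho'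
      exact key ((Fintype.card F + 1) / 2) ⟨j + 1, by omega⟩ (by omega) (Or.inr (by omega))

theorem orderOf_psl_three {F : Type} [Field F] [Fintype F] [CharP F 2] :
    ∃ x : Matrix.ProjectiveSpecialLinearGroup (Fin 3) F, orderOf x = 4 := by
  haveI : Fact (Nat.Prime 2) := ⟨Nat.prime_two⟩
  let X : Matrix.SpecialLinearGroup (Fin 3) F :=
    ⟨!![1, 1, 0; 0, 1, 1; 0, 0, 1], by rw [Matrix.det_fin_three]; simp⟩
  refine ⟨QuotientGroup.mk' _ X, orderOf_eq_prime_pow (p := 2) (n := 1) (fun e1 => ?_) ?_⟩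
  · rw [← map_pow] at e1
    obtain ⟨c, -, hc⟩ := Matrix.SpecialLinearGroup.mem_center_iff.1 ((QuotientGroup.eq_one_iff _).1 e1)
    have h02 := congrFun (congrFun hc 0) 2
    rw [pow_one, pow_two, Matrix.SpecialLinearGroup.coe_mul] at h02
    simp [X, Matrix.mul_apply, Fin.sum_univ_three] at h02
  · rw [← map_pow, show X ^ 2 ^ (1 + 1) = 1 from Subtype.ext (by
      show X.1 ^ 4 = 1
      simp only [pow_succ, pow_zero, one_mul]
      ext i j
      fin_cases i <;> fin_cases j <;> simp [X, Matrix.mul_apply, Fin.sum_univ_three, CharTwo.add_self_eq_zero]),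
      map_one]

theorem Hyp.no_four (h : Hyp s G) (g : G) : orderOf g ≠ 4 := fun e => by
  have := h.prime.two_le
  have := h.ne_two
  rcases h.two g (by rw [e]; norm_num) with e1 | e1 <;> omega

/-- the group is `PSL(2, q)` -/
theorem Hyp.psl_of_composite (h : Hyp s G) (hns : ¬ Group.IsSolvable G) (hex : ∃ g : G, orderOf g = 2 * s) :
    ∃ (F : Type) (_ : Field F) (_ : Fintype F), 5 < Fintype.card F ∧
      (Fintype.card F % 8 = 3 ∨ Fintype.card F % 8 = 5) ∧
      Nonempty (G ≃* Matrix.ProjectiveSpecialLinearGroup (Fin 2) F) := by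
  classical
  haveI : Fact (Nat.Prime 2) := ⟨Nat.prime_two⟩
  have hs3 : 3 ≤ s := by
    have := h.prime.two_le
    have := h.ne_two
    omega
  obtain ⟨N, hN, hsimple, hna, hC, hidx⟩ := h.exists_socle hns
  haveI := hN
  haveI := hsimple
  have hNs : ¬ Group.IsSolvable ↥N := fun hs =>
    hna ⟨⟨fun a b => IsSimpleGroup.comm_iff_isSolvable.2 hs a b⟩⟩
  by_cases hexN : ∃ g : ↥N, orderOf g = 2 * s
  swap
  · exfalso
    have htop : ∀ {F : Type} [Field F] [Fintype F], (↥N ≃* Matrix.ProjectiveSpecialLinearGroup (Fin 2) F) → False := by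
      intro F _ _ e
      obtain ⟨g, hg⟩ := hex
      exact hexN ⟨⟨g, h.eq_top_of_psl hC hidx e ▸ mem_top g⟩, by rw [orderOf_mk, hg]⟩
    have hcit : CIT ↥N := by
      intro t ht
      rw [IsPGroup.iff_orderOf]
      rintro ⟨x, hx⟩
      rw [orderOf_mk]
      rcases Nat.eq_two_pow_or_exists_odd_prime_and_dvd (orderOf x) with ⟨k, hk⟩ | ⟨r, hr, hrd, hro⟩
      · exact ⟨k, hk⟩
      exfalso
      have hr2 : r ≠ 2 := fun e => by rw [e] at hro; exact absurd hro (by decide)
      have hyo : orderOf (x ^ (orderOf x / r)) = r := orderOf_pow_orderOf_div (orderOf_pos x).ne' hrd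
      have hc : Commute (x ^ (orderOf x / r)) t :=
        (show Commute x t from mem_centralizer_singleton_iff.1 hx).pow_left _
      have ho := hc.orderOf_mul_eq_mul_orderOf_of_coprime (by
        rw [hyo, ht]; exact (Nat.coprime_primes hr Nat.prime_two).2 hr2)
      rw [hyo, ht] at ho
      rcases (h.subgroup N).two _ (ho ▸ dvd_mul_left 2 r) with e1 | e1
      · have := hr.two_le
        omega
      · exact hexN ⟨_, e1⟩
    rcases Cfsg.Lib.CITGroups.classification_of (Cfsg.Lie.IsoSuzuki ↥N)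
        (fun M hZ => Cfsg.Lib.SuzukiUnique.zassenhaus_iso (G := ↥N) (Ω := ↥N ⧸ M) hZ) hcit hna with
      ⟨F, i1, i2, -, ⟨e⟩⟩ | ⟨F, i1, i2, hq, ⟨e⟩⟩ | ⟨F, i1, i2, m, hm, hF, ⟨e⟩⟩
    · exact htop e
    · haveI : CharP F 2 := charP_of_card_eq_prime_pow (p := 2) (f := 2) (by rw [hq]; norm_num)
      obtain ⟨x, hx⟩ := orderOf_psl_three (F := F)
      exact (h.subgroup N).no_four (e.symm x) (by rw [MulEquiv.orderOf_eq, hx])
    · have Q : Cfsg.Lib.Suz.Par F m := ⟨hm, hF⟩
      haveI : CharP F 2 := charP_of_card_eq_prime_pow hF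
      obtain ⟨x, a, hx, ha, hax⟩ := exists_twenty Q
      have e' : ↥N ≃* ↥(Cfsg.Sz F m) := e.trans (Cfsg.Lib.Suz.lieEquiv Q).symm
      refine (h.subgroup N).no_four (e'.symm a) ?_
      rw [MulEquiv.orderOf_eq]
      refine orderOf_eq_prime_pow (p := 2) (n := 1) (fun e1 => ?_) ha
      rw [pow_one, pow_two] at e1
      have h4 : x = x ^ 4 := calc
        x = a * (a * x) := by rw [← mul_assoc, e1, one_mul]
        _ = a * (x ^ 2 * a) := by rw [hax]
        _ = a * x * (x * a) := by simp only [pow_two, mul_assoc]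
        _ = x ^ 2 * (a * x) * a := by rw [hax]; simp only [mul_assoc]; rw [← mul_assoc a x a, hax]; simp only [mul_assoc]
        _ = x ^ 4 * (a * a) := by
          rw [hax, show x ^ 4 = x ^ 2 * x ^ 2 from (pow_add x 2 2)]
          simp only [mul_assoc]
        _ = x ^ 4 := by rw [e1, mul_one]
      have h3 : x ^ 3 = 1 := by
        rw [pow_succ] at h4
        exact right_eq_mul.1 h4
      have := orderOf_dvd_of_pow_eq_one h3
      rw [hx] at this
      norm_num at this
  obtain ⟨P⟩ : Nonempty (Sylow 2 ↥N) := inferInstance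
  obtain ⟨-, F, i1, i2, hodd, ⟨e⟩⟩ := (h.subgroup N).simple_case hNs hexN P
  obtain ⟨f⟩ := iso_of_top (h.eq_top_of_psl hC hidx e) e
  obtain ⟨p, hpc⟩ := CharP.exists F
  haveI := hpc
  obtain ⟨n, hp, hF⟩ := FiniteField.card F p
  haveI := Fact.mk hp
  have hq1 : 1 < Fintype.card F := Fintype.one_lt_card
  have hq2 : Fintype.card F % 2 = 1 := Nat.odd_iff.1 hodd
  have hg : Nat.gcd 2 (Fintype.card F - 1) = 2 := Nat.gcd_eq_left (by omega)
  obtain ⟨g, hg2⟩ := hex
  have hmem := (Cfsg.Lib.GLTwo.psl_spectrum (F := F) p (2 * s)).1 ⟨f g, by rw [MulEquiv.orderOf_eq, hg2]⟩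
  rw [hg] at hmem
  have hp2 : p ≠ 2 := fun e2 => by
    have := dvd_pow_self p n.pos.ne'
    rw [← hF, e2] at this
    omega
  have h5 : 5 < Fintype.card F := by
    by_contra hle
    rcases hmem with hd | hd | hd
    · exact hp2 ((Nat.prime_dvd_prime_iff_eq Nat.prime_two hp).1 ((dvd_mul_right 2 s).trans hd)).symm
    · have := Nat.le_of_dvd (by omega) hd
      omega
    · have := Nat.le_of_dvd (by omega) hd
      omega
  have h4 : ¬ (4 ∣ (Fintype.card F - 1) / 2 ∨ 4 ∣ (Fintype.card F + 1) / 2) := fun hd => by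
    obtain ⟨x, hx⟩ := (Cfsg.Lib.GLTwo.psl_spectrum (F := F) p 4).2 (Or.inr (by rw [hg]; exact hd))
    exact h.no_four (f.symm x) (by rw [MulEquiv.orderOf_eq, hx])
  exact ⟨F, i1, i2, h5, by omega, ⟨f⟩⟩

end Cfsg.Lib.CITExt.TwoS
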