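import Cfsg.Agent.CITExt.TwoS.Solv
import Cfsg.Agent.InvolCalc.StronglyEmbedded
import Cfsg.Agent.Transfer.Control

/-!
Maximal `s`-subgroups invariant under a Sylow 2-subgroup, and the strongly embedded subgroup which they give.
-/

set_option autoImplicit false
set_option linter.unusedSectionVars false
set_option linter.style.haveILetI false

namespace Cfsg.Lib.CITExt.TwoS

open Subgroup Cfsg.Lib.CITGroups

universe u

variable {G : Type u} [Group G] [Finite G] {s : ℕ}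

/-- an `s`-subgroup invariant under a Sylow 2-subgroup -/
def Inv (s : ℕ) (S : Sylow 2 G) (Q : Subgroup G) : Prop :=
  IsPGroup s ↥Q ∧ ∀ t ∈ (S : Subgroup G), ∀ x ∈ Q, t * x * t⁻¹ ∈ Q

/-- the odd core of the centraliser of an element -/
def OT (t : G) : Subgroup G := OX (centralizer ({t} : Set G))

theorem Inv.odd (h : Hyp s G) {S : Sylow 2 G} {Q : Subgroup G} (hQ : Inv s S Q) : Odd (Nat.card ↥Q) := by
  haveI := Fact.mk h.prime
  obtain ⟨k, hk⟩ := IsPGroup.iff_card.1 hQ.1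
  rw [hk]
  exact h.odd_s.pow

theorem sylow_relIndex (S : Sylow 2 G) (X : Subgroup G) (hX : (S : Subgroup G) ≤ X) :
    ¬ 2 ∣ (S : Subgroup G).relIndex X := fun h => by
  haveI : Fact (Nat.Prime 2) := ⟨Nat.prime_two⟩
  exact S.not_dvd_index (h.trans (Subgroup.relIndex_dvd_index_of_le hX))

theorem Hyp.order_S (h : Hyp s G) (S : Sylow 2 G) {t : G} (ht : t ∈ (S : Subgroup G)) (ht1 : t ≠ 1) :
    orderOf t = 2 := h.order_two S.2 ht ht1

theorem Hyp.sylow_le_cent (h : Hyp s G) (S : Sylow 2 G) {t : G} (ht : t ∈ (S : Subgroup G)) :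
    (S : Subgroup G) ≤ centralizer ({t} : Set G) :=
  fun _ hx => mem_centralizer_singleton_iff.2 (h.comm_two_group S.2 hx ht).eq

theorem Hyp.inv_ox (h : Hyp s G) (S : Sylow 2 G) (h4 : 4 ≤ Nat.card ↥(S : Subgroup G)) {X : Subgroup G}
    (hX : (S : Subgroup G) ≤ X) : Inv s S (OX X) :=
  ⟨h.odd_invariant S.2 h4 (ox_odd X) (fun _ ht => ox_conj (hX ht)), fun _ ht => ox_conj (hX ht)⟩

theorem Hyp.inv_le_ox (h : Hyp s G) {S : Sylow 2 G} {X R : Subgroup G} (hXs : Group.IsSolvable ↥X)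
    (hX : (S : Subgroup G) ≤ X) (hR : Inv s S R) (hRX : R ≤ X) : R ≤ OX X :=
  (h.solvable_structure hXs hX S.2 (sylow_relIndex S X hX)).1 R hRX (hR.odd h) hR.2

theorem Hyp.cent_le_ot (h : Hyp s G) {S : Sylow 2 G} {R : Subgroup G} (hR : Inv s S R) {t : G}
    (ht : t ∈ (S : Subgroup G)) (ht1 : t ≠ 1) {x : G} (hx : x ∈ R) (hc : Commute x t) : x ∈ OT t := by
  refine h.inv_le_ox (h.solvable_centralizer (Or.inl (h.order_S S ht ht1))) (h.sylow_le_cent S ht)
    (S := S) (R := R ⊓ centralizer ({t} : Set G)) ⟨hR.1.to_le inf_le_left, fun a ha y hy => ⟨hR.2 a ha y hy.1, ?_⟩⟩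
    inf_le_right ⟨hx, mem_centralizer_singleton_iff.2 hc.eq⟩
  have hac : Commute a t := h.comm_two_group S.2 ha ht
  exact mem_centralizer_singleton_iff.2
    (((hac.mul_left (mem_centralizer_singleton_iff.1 hy.2)).mul_left hac.inv_left).eq)

theorem exists_max (S : Sylow 2 G) {R : Subgroup G} (hR : Inv s S R) :
    ∃ Q : Subgroup G, R ≤ Q ∧ Inv s S Q ∧ ∀ K, Inv s S K → Q ≤ K → K = Q := by
  obtain ⟨Q, ⟨hQ, hRQ⟩, hmax⟩ := Set.Finite.exists_maximal (s := {K : Subgroup G | Inv s S K ∧ R ≤ K})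
    (Set.toFinite _) ⟨R, hR, le_rfl⟩
  exact ⟨Q, hRQ, hQ, fun K hK hle => le_antisymm (hmax ⟨hK, hRQ.trans hle⟩ hle) hle⟩

/-- two maximal invariant subgroups which meet nontrivially are equal -/
theorem Hyp.max_eq (h : Hyp s G) (S : Sylow 2 G) (h4 : 4 ≤ Nat.card ↥(S : Subgroup G)) :
    ∀ Q₁ Q₂ : Subgroup G, Inv s S Q₁ → (∀ K, Inv s S K → Q₁ ≤ K → K = Q₁) → Inv s S Q₂ →
      (∀ K, Inv s S K → Q₂ ≤ K → K = Q₂) → Q₁ ⊓ Q₂ ≠ ⊥ → Q₁ = Q₂ := by
  haveI := Fact.mk h.prime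
  suffices H : ∀ n : ℕ, ∀ Q₁ Q₂ : Subgroup G, Inv s S Q₁ → (∀ K, Inv s S K → Q₁ ≤ K → K = Q₁) → Inv s S Q₂ →
      (∀ K, Inv s S K → Q₂ ≤ K → K = Q₂) → Q₁ ⊓ Q₂ ≠ ⊥ → Nat.card G - Nat.card ↥(Q₁ ⊓ Q₂) ≤ n → Q₁ = Q₂ from
    fun Q₁ Q₂ a b c d e => H _ Q₁ Q₂ a b c d e le_rfl
  intro n
  induction n using Nat.strong_induction_on with
  | _ n ih =>
  intro Q₁ Q₂ hQ₁ hm₁ hQ₂ hm₂ hne hn
  by_contra hdiff
  set D := Q₁ ⊓ Q₂ with hD
  have hDinv : ∀ t ∈ (S : Subgroup G), ∀ x ∈ D, t * x * t⁻¹ ∈ D :=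
    fun t ht x hx => ⟨hQ₁.2 t ht x hx.1, hQ₂.2 t ht x hx.2⟩
  haveI : Group.IsNilpotent ↥D := (hQ₁.1.to_le inf_le_left).isNilpotent
  set X := normalizer (D : Set G) with hX
  have hXs : Group.IsSolvable ↥X := h.solvable_local hne inferInstance
  have hSX : (S : Subgroup G) ≤ X := fun t ht => mem_nrm (hDinv t ht)
  have hlt : ∀ Q : Subgroup G, Inv s S Q → D ≤ Q → D ≠ Q → D < Q ⊓ X ∧ Q ⊓ X ≤ OX X := by
    intro Q hQ hle hneq
    refine ⟨lt_of_le_of_ne (le_inf hle le_normalizer) fun e => hneq ?_, ?_⟩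
    · haveI : Group.IsNilpotent ↥Q := hQ.1.isNilpotent
      by_contra hne'
      have hlt := Group.normalizerCondition_of_isNilpotent (G := ↥Q) (D.subgroupOf Q) (lt_top_iff_ne_top.2 fun e' =>
        hne' (le_antisymm hle (subgroupOf_eq_top.1 e')))
      obtain ⟨y, hy, hyD⟩ := SetLike.exists_of_lt hlt
      refine hyD (mem_subgroupOf.2 (e.symm.le ⟨y.2, mem_nrm fun k hk => ?_⟩))
      exact mem_subgroupOf.1 ((mem_normalizer_iff.1 hy ⟨k, hle hk⟩).1 (mem_subgroupOf.2 hk))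
    · refine h.inv_le_ox hXs hSX ⟨hQ.1.to_le inf_le_left, fun t ht x hx => ⟨hQ.2 t ht x hx.1, ?_⟩⟩ inf_le_right
      exact X.mul_mem (X.mul_mem (hSX ht) hx.2) (X.inv_mem (hSX ht))
  have h1 : D ≠ Q₁ := fun e => hdiff (hm₁ Q₂ hQ₂ (e ▸ inf_le_right)).symm
  have h2 : D ≠ Q₂ := fun e => hdiff (hm₂ Q₁ hQ₁ (e ▸ inf_le_left))
  obtain ⟨Q₃, hle₃, hQ₃, hm₃⟩ := exists_max S (h.inv_ox S h4 hSX)
  have key : ∀ Q : Subgroup G, Inv s S Q → (∀ K, Inv s S K → Q ≤ K → K = Q) → D ≤ Q → D ≠ Q → Q₃ = Q := by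
    intro Q hQ hm hle hneq
    obtain ⟨hlt', hle'⟩ := hlt Q hQ hle hneq
    have h3 : Q ⊓ X ≤ Q₃ ⊓ Q := le_inf (hle'.trans hle₃) inf_le_left
    have hlt'' : D < Q₃ ⊓ Q := hlt'.trans_le h3
    refine ih _ ?_ Q₃ Q hQ₃ hm₃ hQ hm (ne_bot_of_gt hlt'') le_rfl
    have hc : Nat.card ↥D < Nat.card ↥(Q₃ ⊓ Q) := by
      by_contra hge
      exact hlt''.ne (Subgroup.eq_of_le_of_card_ge hlt''.le (not_lt.1 hge))
    have := Subgroup.card_le_card_group (Q₃ ⊓ Q)
    omega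
  exact hdiff ((key Q₁ hQ₁ hm₁ inf_le_left h1).symm.trans (key Q₂ hQ₂ hm₂ inf_le_right h2))

/-- the data from which the strongly embedded subgroup is made -/
structure Setup (s : ℕ) (S : Sylow 2 G) (Q : Subgroup G) : Prop where
  hyp : Hyp s G
  four : 4 ≤ Nat.card ↥(S : Subgroup G)
  inv : Inv s S Q
  ne : Q ≠ ⊥
  max : ∀ R : Subgroup G, Inv s S R → R ⊓ Q ≠ ⊥ → R ≤ Q
  contains : ∀ t ∈ (S : Subgroup G), t ≠ 1 → OT t ≤ Q
  stable : ∀ g ∈ normalizer ((S : Subgroup G) : Set G), ∀ x ∈ Q, g * x * g⁻¹ ∈ Q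

theorem Hyp.inv_conj (h : Hyp s G) {S : Sylow 2 G} {R : Subgroup G} (hR : Inv s S R) {g : G}
    (hg : g ∈ normalizer ((S : Subgroup G) : Set G)) : Inv s S (R.map (MulAut.conj g).toMonoidHom) := by
  refine ⟨hR.1.map _, ?_⟩
  rintro t ht _ ⟨x, hx, rfl⟩
  refine ⟨g⁻¹ * t * g⁻¹⁻¹ * x * (g⁻¹ * t * g⁻¹⁻¹)⁻¹, hR.2 _ (nrm_conj (inv_mem hg) ht) x hx, ?_⟩
  simp only [MulEquiv.coe_toMonoidHom, MulAut.conj_apply]
  group

/-- the invariant maximal subgroups meeting an odd core contain it -/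
theorem Hyp.max_contains (h : Hyp s G) {S : Sylow 2 G} (h4 : 4 ≤ Nat.card ↥(S : Subgroup G)) {Q : Subgroup G}
    (hQ : Inv s S Q) (hm : ∀ K, Inv s S K → Q ≤ K → K = Q) {R : Subgroup G} (hR : Inv s S R)
    (hne : R ⊓ Q ≠ ⊥) : R ≤ Q := by
  obtain ⟨Q', hle, hQ', hm'⟩ := exists_max S hR
  rwa [← h.max_eq S h4 Q' Q hQ' hm' hQ hm fun e => hne (le_bot_iff.1 (e ▸ inf_le_inf_right Q hle))]

theorem Hyp.ot_conj (h : Hyp s G) {S : Sylow 2 G} (h4 : 4 ≤ Nat.card ↥(S : Subgroup G)) {g t : G}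
    (hg : g ∈ normalizer ((S : Subgroup G) : Set G)) (ht : t ∈ (S : Subgroup G)) (ht1 : t ≠ 1) :
    (OT t).map (MulAut.conj g).toMonoidHom ≤ OT (g * t * g⁻¹) := by
  rintro _ ⟨x, hx, rfl⟩
  refine h.cent_le_ot (h.inv_conj (h.inv_ox S h4 (h.sylow_le_cent S ht)) hg) (nrm_conj hg ht)
    (fun e => ht1 (conj_eq_one_iff.1 e)) ⟨x, hx, rfl⟩ ?_
  have hc : Commute x t := mem_centralizer_singleton_iff.1 (ox_le _ hx)
  simpa using hc.map (MulAut.conj g).toMonoidHom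

/-- for rank at least three there is a unique maximal invariant subgroup -/
theorem Hyp.setup_of_rank (h : Hyp s G) {S : Sylow 2 G} (h8 : 8 ≤ Nat.card ↥(S : Subgroup G))
    {t₀ : G} (ht₀ : t₀ ∈ (S : Subgroup G)) (hO : OT t₀ ≠ ⊥) :
    ∃ Q : Subgroup G, Setup s S Q := by
  classical
  haveI := Fact.mk h.prime
  haveI : Fact (Nat.Prime 2) := ⟨Nat.prime_two⟩
  have h4 : 4 ≤ Nat.card ↥(S : Subgroup G) := by omega
  obtain ⟨Q, hle, hQ, hm⟩ := exists_max S (h.inv_ox S h4 (h.sylow_le_cent S ht₀))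
  have hQne : Q ≠ ⊥ := fun e => hO (le_bot_iff.1 (e ▸ hle))
  -- a subgroup outside whose centraliser at most one coset is free
  have hcoset : ∀ R : Subgroup G, Inv s S R → R ≠ ⊥ → ∃ (K : Subgroup G) (B : Finset G), K ≤ (S : Subgroup G) ∧
      (∀ t ∈ (S : Subgroup G), t ≠ 1 → t ∉ B → ∃ x ∈ R, x ≠ 1 ∧ Commute x t) ∧
      (∀ t ∈ B, t ∈ (S : Subgroup G) ∧ t ∉ K) ∧ B.card ≤ Nat.card ↥K := by
    intro R hR hne
    haveI : Nontrivial ↥R := R.nontrivial_iff_ne_bot.2 hne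
    haveI : Nontrivial ↥(center ↥R) := hR.1.center_nontrivial
    obtain ⟨z, hz⟩ := exists_ne (1 : ↥(center ↥R))
    set x : G := ((z : ↥R) : G)
    have hxR : x ∈ R := (z : ↥R).2
    have hx1 : x ≠ 1 := fun e => hz (Subtype.ext (Subtype.ext e))
    let K : Subgroup G := (S : Subgroup G) ⊓ centralizer ({x} : Set G)
    haveI : Fintype G := Fintype.ofFinite G
    let B : Finset G := Finset.univ.filter fun t => t ∈ (S : Subgroup G) ∧ t ≠ 1 ∧ ∀ y ∈ R, Commute y t → y = 1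
    refine ⟨K, B, inf_le_left, fun t ht ht1 htB => ?_, fun t ht => ?_, ?_⟩
    · simp only [B, Finset.mem_filter, Finset.mem_univ, true_and, not_and, not_forall] at htB
      obtain ⟨y, hy, hyc, hy1⟩ := htB ht ht1
      exact ⟨y, hy, hy1, hyc⟩
    · simp only [B, Finset.mem_filter, Finset.mem_univ, true_and] at ht
      exact ⟨ht.1, fun hK => hx1 (ht.2.2 x hxR (mem_centralizer_singleton_iff.1 hK.2).symm)⟩
    · rcases B.eq_empty_or_nonempty with e | ⟨v, hv⟩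
      · rw [e]; simp
      have hinv : ∀ t ∈ B, t * x * t⁻¹ = x⁻¹ := by
        intro t ht
        simp only [B, Finset.mem_filter, Finset.mem_univ, true_and] at ht
        have hzc : ∀ a ∈ (center ↥R).map R.subtype, ∀ b ∈ (center ↥R).map R.subtype, Commute a b := by
          rintro _ ⟨a, ha, rfl⟩ _ ⟨b, hb, rfl⟩
          exact congrArg Subtype.val (mem_center_iff.1 ha b).symm
        refine inv_of_no_fix hzc (h.sq_two (two_of_mem S.2 ht.1)) ?_ ?_ (v := x) ⟨(z : ↥R), z.2, rfl⟩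
        · rintro _ ⟨a, ha, rfl⟩
          refine ⟨⟨t * a * t⁻¹, hR.2 t ht.1 a a.2⟩, mem_center_iff.2 fun b => Subtype.ext ?_, rfl⟩
          have hb : t⁻¹ * (b : G) * t⁻¹⁻¹ ∈ R := hR.2 _ (inv_mem ht.1) b b.2
          have e := congrArg Subtype.val (mem_center_iff.1 ha ⟨_, hb⟩)
          show (b : G) * (t * a * t⁻¹) = t * a * t⁻¹ * b
          calc (b : G) * (t * a * t⁻¹) = t * ((t⁻¹ * (b : G) * t⁻¹⁻¹) * a) * t⁻¹ := by group
            _ = t * a * t⁻¹ * b := by rw [show t⁻¹ * (b : G) * t⁻¹⁻¹ * (a : G) = (a : G) * (t⁻¹ * (b : G) * t⁻¹⁻¹) from e]; group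
        · rintro _ ⟨a, ha, rfl⟩ hc
          exact ht.2.2 a a.2 hc.symm
      rw [← Nat.card_eq_finsetCard]
      refine Nat.card_le_card_of_injective (fun t : B => (⟨(t : G) * v, ?_, ?_⟩ : ↥K))
        fun a b e => Subtype.ext (mul_right_cancel (congrArg Subtype.val e))
      · have ht := t.2
        simp only [B, Finset.mem_filter, Finset.mem_univ, true_and] at ht hv
        exact mul_mem ht.1 hv.1
      · refine mem_centralizer_singleton_iff.2 (mul_inv_eq_iff_eq_mul.1 ?_)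
        rw [show (t : G) * v * x * ((t : G) * v)⁻¹ = t * (v * x * v⁻¹) * (t : G)⁻¹ by group, hinv v hv,
          show (t : G) * x⁻¹ * (t : G)⁻¹ = ((t : G) * x * (t : G)⁻¹)⁻¹ by group, hinv t t.2, inv_inv]
  have hall : ∀ R : Subgroup G, Inv s S R → R ≠ ⊥ → R ≤ Q := by
    intro R hR hne
    obtain ⟨K₁, B₁, hK₁, hgood₁, hB₁, hc₁⟩ := hcoset R hR hne
    obtain ⟨K₂, B₂, hK₂, hgood₂, hB₂, hc₂⟩ := hcoset Q hQ hQne
    obtain ⟨t, ht, ht1, htB₁, htB₂⟩ : ∃ t ∈ (S : Subgroup G), t ≠ 1 ∧ t ∉ B₁ ∧ t ∉ B₂ := by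
      by_contra hcon
      push Not at hcon
      haveI : Fintype G := Fintype.ofFinite G
      have hsub : (Finset.univ.filter fun t => t ∈ (S : Subgroup G) ∧ t ≠ 1) ⊆ B₁ ∪ B₂ := fun t ht => by
        simp only [Finset.mem_filter, Finset.mem_univ, true_and] at ht
        by_cases hb : t ∈ B₁
        · exact Finset.mem_union_left _ hb
        · exact Finset.mem_union_right _ (hcon t ht.1 ht.2 hb)
      have hcS : (Finset.univ.filter fun t => t ∈ (S : Subgroup G) ∧ t ≠ 1).card + 1 =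
          Nat.card ↥(S : Subgroup G) := by
        rw [show (Finset.univ.filter fun t => t ∈ (S : Subgroup G) ∧ t ≠ 1) =
          ((S : Subgroup G) : Set G).toFinset.erase 1 by
            ext x
            simp only [Finset.mem_filter, Finset.mem_univ, true_and, Finset.mem_erase, Set.mem_toFinset, SetLike.mem_coe]
            exact and_comm,
          Finset.card_erase_add_one (by simp), Set.toFinset_card, ← Nat.card_eq_fintype_card]
        rfl
      have hu := (Finset.card_le_card hsub).trans (Finset.card_union_le B₁ B₂)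
      have hd₁ := Subgroup.card_dvd_of_le hK₁
      have hd₂ := Subgroup.card_dvd_of_le hK₂
      obtain ⟨a, ha⟩ := IsPGroup.iff_card.1 S.2
      rw [ha] at hd₁ hd₂ hcS h8
      obtain ⟨i, hi, ei⟩ := (Nat.dvd_prime_pow Nat.prime_two).1 hd₁
      obtain ⟨j, hj, ej⟩ := (Nat.dvd_prime_pow Nat.prime_two).1 hd₂
      have hdisj : ∀ (K : Subgroup G) (B : Finset G), K ≤ (S : Subgroup G) →
          (∀ t ∈ B, t ∈ (S : Subgroup G) ∧ t ∉ K) → B.card + Nat.card ↥K ≤ 2 ^ a := by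
        intro K B hK hB
        have hd : Disjoint B ((K : Set G).toFinset) := Finset.disjoint_left.2 fun t ht hK' =>
          (hB t ht).2 (by simpa using hK')
        have hle : B ∪ (K : Set G).toFinset ⊆ ((S : Subgroup G) : Set G).toFinset := fun t ht => by
          rcases Finset.mem_union.1 ht with e | e
          · exact Set.mem_toFinset.2 (hB t e).1
          · exact Set.mem_toFinset.2 (hK (Set.mem_toFinset.1 e))
        have h1 := Finset.card_le_card hle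
        rw [Finset.card_union_of_disjoint hd, Set.toFinset_card, Set.toFinset_card, ← Nat.card_eq_fintype_card,
          ← Nat.card_eq_fintype_card] at h1
        exact h1.trans ha.le
      have hd1 := hdisj K₁ B₁ hK₁ hB₁
      have hd2 := hdisj K₂ B₂ hK₂ hB₂
      rw [ei] at hc₁ hd1
      rw [ej] at hc₂ hd2
      have hint : a ≤ i + 1 → a ≤ j + 1 → False := by
        intro h1 h2
        have hle : Nat.card ↥K₁ * Nat.card ↥K₂ ≤ 2 ^ a * Nat.card ↥(K₁ ⊓ K₂ : Subgroup G) := by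
          rw [← ha, ← Cfsg.Lib.Coprime.card_sup_mul_card_inf (H := K₂) (N := K₁) (fun k hk => mem_nrm fun l hl => by
            rw [(h.comm_two_group S.2 (hK₂ hk) (hK₁ hl)).eq, mul_inv_cancel_right]; exact hl)]
          exact Nat.mul_le_mul_right _ (Subgroup.card_le_of_le (sup_le hK₁ hK₂))
        rw [ei, ej, ← pow_add] at hle
        have hcard : 2 ≤ Nat.card ↥(K₁ ⊓ K₂ : Subgroup G) := by
          by_contra hlt
          have h1' : Nat.card ↥(K₁ ⊓ K₂ : Subgroup G) = 1 := by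
            have := Nat.card_pos (α := ↥(K₁ ⊓ K₂ : Subgroup G))
            omega
          rw [h1', mul_one] at hle
          have h3 : 3 ≤ a := (Nat.pow_le_pow_iff_right (a := 2) (by norm_num)).1 (by norm_num; exact h8)
          have := (Nat.pow_le_pow_iff_right (a := 2) (by norm_num)).1 hle
          omega
        haveI : Nontrivial ↥(K₁ ⊓ K₂ : Subgroup G) := Finite.one_lt_card_iff_nontrivial.1 (by omega)
        obtain ⟨t, ht1⟩ := exists_ne (1 : ↥(K₁ ⊓ K₂ : Subgroup G))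
        exact (hB₂ t (hcon t (hK₁ t.2.1) (fun e => ht1 (Subtype.ext e)) fun hb => (hB₁ t hb).2 t.2.1)).2 t.2.2
      rcases (by omega : (a ≤ i + 1 ∧ a ≤ j + 1) ∨ i + 2 ≤ a ∨ j + 2 ≤ a) with ⟨h1, h2⟩ | h1 | h1
      · exact hint h1 h2
      · have := Nat.pow_le_pow_right (n := 2) (by norm_num) h1
        rw [pow_add] at this
        omega
      · have := Nat.pow_le_pow_right (n := 2) (by norm_num) h1
        rw [pow_add] at this
        omega
    obtain ⟨x, hxR, hx1, hxt⟩ := hgood₁ t ht ht1 htB₁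
    obtain ⟨y, hyQ, hy1, hyt⟩ := hgood₂ t ht ht1 htB₂
    have hot := h.inv_ox S h4 (h.sylow_le_cent S ht)
    have h1 : OT t ≤ Q := h.max_contains h4 hQ hm hot fun e =>
      hy1 (by rw [← mem_bot, ← e]; exact ⟨h.cent_le_ot hQ ht ht1 hyQ hyt, hyQ⟩)
    exact h.max_contains h4 hQ hm hR fun e =>
      hx1 (by rw [← mem_bot, ← e]; exact ⟨hxR, h1 (h.cent_le_ot hR ht ht1 hxR hxt)⟩)
  refine ⟨Q, h, h4, hQ, hQne, fun R hR hne => hall R hR fun e => hne (by rw [e, bot_inf_eq]), fun t ht _ => ?_,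
    fun g hg x hx => hall _ (h.inv_conj hQ hg) (fun e => hQne ?_) ⟨x, hx, rfl⟩⟩
  · rcases eq_or_ne (OT t) ⊥ with e | e
    · rw [e]; exact bot_le
    · exact hall _ (h.inv_ox S h4 (h.sylow_le_cent S ht)) e
  · exact (Subgroup.map_eq_bot_iff_of_injective _ (MulAut.conj g).injective).1 e

/-- for rank two one maximal invariant subgroup meeting two odd cores is the only one needed -/
theorem Hyp.setup_of_four (h : Hyp s G) (hns : ¬ Group.IsSolvable G) {S : Sylow 2 G}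
    (h4 : Nat.card ↥(S : Subgroup G) = 4) {R : Subgroup G} (hR : Inv s S R) {t u : G}
    (ht : t ∈ (S : Subgroup G)) (ht1 : t ≠ 1) (hu : u ∈ (S : Subgroup G)) (hu1 : u ≠ 1) (htu : t ≠ u)
    (hRt : ∃ x ∈ R, x ≠ 1 ∧ Commute x t) (hRu : ∃ x ∈ R, x ≠ 1 ∧ Commute x u) :
    ∃ Q : Subgroup G, Setup s S Q := by
  classical
  have h4' : 4 ≤ Nat.card ↥(S : Subgroup G) := h4.ge
  obtain ⟨Q, hle, hQ, hm⟩ := exists_max S hR
  have hO : ∀ a ∈ (S : Subgroup G), a ≠ 1 → (∃ x ∈ R, x ≠ 1 ∧ Commute x a) → OT a ≠ ⊥ ∧ OT a ≤ Q := by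
    rintro a ha ha1 ⟨x, hx, hx1, hxa⟩
    have hxO := h.cent_le_ot hR ha ha1 hx hxa
    refine ⟨fun e => hx1 (by rwa [e, mem_bot] at hxO), h.max_contains h4' hQ hm
      (h.inv_ox S h4' (h.sylow_le_cent S ha)) fun e => hx1 ?_⟩
    rw [← mem_bot, ← e]
    exact ⟨hxO, hle hx⟩
  obtain ⟨hOt, hQt⟩ := hO t ht ht1 hRt
  obtain ⟨hOu, hQu⟩ := hO u hu hu1 hRu
  have hQne : Q ≠ ⊥ := fun e => hOt (le_bot_iff.1 (e ▸ hQt))
  set v := t * u with hv
  have hvS : v ∈ (S : Subgroup G) := mul_mem ht hu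
  have hu2 : u * u = 1 := h.sq_two (two_of_mem S.2 hu)
  have hv1 : v ≠ 1 := fun e => htu (mul_right_cancel (e.trans hu2.symm))
  have hvt : v ≠ t := fun e => hu1 (mul_eq_left.1 e)
  have hvu : v ≠ u := fun e => ht1 (mul_eq_right.1 e)
  have hlist : ∀ x ∈ (S : Subgroup G), x ≠ 1 → x = t ∨ x = u ∨ x = v := by
    intro x hx hx1
    by_contra hne
    push Not at hne
    have hsub : ({1, t, u, v, x} : Set G) ⊆ (S : Subgroup G) := by
      rintro _ (rfl | rfl | rfl | rfl | rfl)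
      exacts [one_mem _, ht, hu, hvS, hx]
    have h5 := Set.ncard_le_ncard hsub (Set.toFinite _)
    rw [Set.ncard_insert_of_notMem (by simp [Ne.symm ht1, Ne.symm hu1, Ne.symm hv1, Ne.symm hx1]),
      Set.ncard_insert_of_notMem (by simp [htu, Ne.symm hvt, Ne.symm hne.1]),
      Set.ncard_insert_of_notMem (by simp [Ne.symm hvu, Ne.symm hne.2.1]),
      Set.ncard_pair (Ne.symm hne.2.2), ← Nat.card_coe_set_eq] at h5
    have := h5.trans h4.le
    omega
  obtain ⟨g, hg, r, hr, hr2, hgr, k, hk, hgk⟩ := h.exists_moving hns S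
  -- no involution of the four-group is fixed
  have hnofix : ∀ a ∈ (S : Subgroup G), a ≠ 1 → g * a * g⁻¹ ≠ a := by
    intro a ha ha1 hfix
    obtain ⟨W, hWS, hW1, hgW, hWfix⟩ := h.exists_fpf_part S.2 hr hr2 hgr (fun k hk => nrm_conj hg hk) ⟨k, hk, hgk⟩
    obtain ⟨w, hw, hw1⟩ := (Subgroup.bot_or_exists_ne_one W).resolve_left hW1
    have hw' : g * w * g⁻¹ ≠ w := fun e => hw1 (hWfix w hw (mul_inv_eq_iff_eq_mul.1 e))
    have hcl : w * (g * w * g⁻¹) ≠ a := fun e => ha1 (e ▸ hWfix _ (W.mul_mem hw (hgW w hw))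
      (e.symm ▸ mul_inv_eq_iff_eq_mul.1 hfix))
    have hgw1 : g * w * g⁻¹ ≠ 1 := fun e => hw1 (conj_eq_one_iff.1 e)
    have hwa : w ≠ a := fun e => hw' (e ▸ hfix)
    have hgwa : g * w * g⁻¹ ≠ a := fun e => hwa (by
      have := e.trans hfix.symm
      simpa using this)
    have hw2 : w * w = 1 := h.sq_two (two_of_mem S.2 (hWS hw))
    have hp1 : w * (g * w * g⁻¹) ≠ 1 := fun e => hw' (mul_left_cancel (e.trans hw2.symm))
    have hp2 : w * (g * w * g⁻¹) ≠ w := fun e => hgw1 (mul_eq_left.1 e)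
    have hp3 : w * (g * w * g⁻¹) ≠ g * w * g⁻¹ := fun e => hw1 (mul_eq_right.1 e)
    have hsub : ({1, a, w, g * w * g⁻¹, w * (g * w * g⁻¹)} : Set G) ⊆ (S : Subgroup G) := by
      rintro _ (rfl | rfl | rfl | rfl | rfl)
      exacts [one_mem _, ha, hWS hw, hWS (hgW w hw), mul_mem (hWS hw) (hWS (hgW w hw))]
    have h5 := Set.ncard_le_ncard hsub (Set.toFinite _)
    rw [Set.ncard_insert_of_notMem (by simp [Ne.symm ha1, Ne.symm hw1, Ne.symm hgw1, Ne.symm hp1]),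
      Set.ncard_insert_of_notMem (by simp [Ne.symm hwa, Ne.symm hgwa, Ne.symm hcl]),
      Set.ncard_insert_of_notMem (by simp [Ne.symm hw', Ne.symm hp2]),
      Set.ncard_pair (Ne.symm hp3), ← Nat.card_coe_set_eq] at h5
    have := h5.trans h4.le
    omega
  have hshift : ∀ a ∈ (S : Subgroup G), a ≠ 1 → g * a * g⁻¹ ∈ (S : Subgroup G) ∧ g * a * g⁻¹ ≠ 1 :=
    fun a ha ha1 => ⟨nrm_conj hg ha, fun e => ha1 (conj_eq_one_iff.1 e)⟩
  -- the conjugate of the maximal subgroup is itself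
  have hgQ : Q.map (MulAut.conj g).toMonoidHom = Q := by
    obtain ⟨a, ha, ha1, hQa, hb⟩ : ∃ a, a ∈ (S : Subgroup G) ∧ a ≠ 1 ∧ (OT a ≤ Q ∧ OT a ≠ ⊥) ∧
        (g * a * g⁻¹ = t ∨ g * a * g⁻¹ = u) := by
      obtain ⟨m1, n1⟩ := hshift t ht ht1
      obtain ⟨m2, n2⟩ := hshift u hu hu1
      rcases hlist _ m1 n1 with e | e | e
      · exact ⟨t, ht, ht1, ⟨hQt, hOt⟩, Or.inl e⟩
      · exact ⟨t, ht, ht1, ⟨hQt, hOt⟩, Or.inr e⟩
      · rcases hlist _ m2 n2 with e' | e' | e'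
        · exact ⟨u, hu, hu1, ⟨hQu, hOu⟩, Or.inl e'⟩
        · exact ⟨u, hu, hu1, ⟨hQu, hOu⟩, Or.inr e'⟩
        · exact absurd (by simpa using e.trans e'.symm) htu
    have h1 : (OT a).map (MulAut.conj g).toMonoidHom ≤ Q := by
      refine (h.ot_conj h4' hg ha ha1).trans ?_
      rcases hb with e | e <;> rw [e] <;> assumption
    have h2 : Q.map (MulAut.conj g).toMonoidHom ≤ Q := h.max_contains h4' hQ hm (h.inv_conj hQ hg) fun e =>
      hQa.2 ((Subgroup.map_eq_bot_iff_of_injective _ (MulAut.conj g).injective).1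
        (le_bot_iff.1 (e ▸ le_inf (map_mono hQa.1) h1)))
    exact Subgroup.eq_of_le_of_card_ge h2 (le_of_eq (Subgroup.card_map_of_injective (MulAut.conj g).injective).symm)
  have hOv : OT v ≠ ⊥ ∧ OT v ≤ Q := by
    obtain ⟨m1, n1⟩ := hshift t ht ht1
    obtain ⟨m2, n2⟩ := hshift u hu hu1
    have key : ∀ a ∈ (S : Subgroup G), a ≠ 1 → OT a ≠ ⊥ → OT a ≤ Q → g * a * g⁻¹ = v → OT v ≠ ⊥ ∧ OT v ≤ Q := by
      intro a ha ha1 hne hleQ e
      have h1 : (OT a).map (MulAut.conj g).toMonoidHom ≤ OT v := e ▸ h.ot_conj h4' hg ha ha1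
      have hne' : (OT a).map (MulAut.conj g).toMonoidHom ≠ ⊥ :=
        fun e' => hne ((Subgroup.map_eq_bot_iff_of_injective _ (MulAut.conj g).injective).1 e')
      refine ⟨fun e' => hne' (le_bot_iff.1 (e' ▸ h1)), h.max_contains h4' hQ hm
        (h.inv_ox S h4' (h.sylow_le_cent S hvS)) fun e' => hne' (le_bot_iff.1 ?_)⟩
      have h2 : (OT a).map (MulAut.conj g).toMonoidHom ≤ Q := (map_mono hleQ).trans hgQ.le
      exact e' ▸ le_inf h1 h2
    rcases hlist _ m1 n1 with e | e | e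
    · exact absurd e (hnofix t ht ht1)
    · rcases hlist _ m2 n2 with e' | e' | e'
      · obtain ⟨m3, n3⟩ := hshift v hvS hv1
        rcases hlist _ m3 n3 with e'' | e'' | e''
        · exact absurd (by simpa using e'.trans e''.symm) hvu.symm
        · exact absurd (by simpa using e.trans e''.symm) hvt.symm
        · exact absurd e'' (hnofix v hvS hv1)
      · exact absurd e' (hnofix u hu hu1)
      · exact key u hu hu1 hOu hQu e'
    · exact key t ht ht1 hOt hQt e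
  have hallO : ∀ a ∈ (S : Subgroup G), a ≠ 1 → OT a ≠ ⊥ ∧ OT a ≤ Q := fun a ha ha1 => by
    rcases hlist a ha ha1 with rfl | rfl | rfl
    exacts [⟨hOt, hQt⟩, ⟨hOu, hQu⟩, hOv]
  refine ⟨Q, h, h4', hQ, hQne, fun R' hR' hne => h.max_contains h4' hQ hm hR' hne,
    fun a ha ha1 => (hallO a ha ha1).2, fun n hn x hx => ?_⟩
  obtain ⟨hb, hb1⟩ : n * t * n⁻¹ ∈ (S : Subgroup G) ∧ n * t * n⁻¹ ≠ 1 :=
    ⟨nrm_conj hn ht, fun e => ht1 (conj_eq_one_iff.1 e)⟩
  exact h.max_contains h4' hQ hm (h.inv_conj hQ hn) (fun e =>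
    hOt ((Subgroup.map_eq_bot_iff_of_injective _ (MulAut.conj n).injective).1 (le_bot_iff.1 (e ▸
      le_inf (map_mono hQt) ((h.ot_conj h4' hn ht ht1).trans (hallO _ hb hb1).2))))) ⟨x, hx, rfl⟩

namespace Setup

variable {S : Sylow 2 G} {Q : Subgroup G}

/-- the strongly embedded subgroup -/
local notation "M" => normalizer (Q : Set G)

theorem sylow_le (L : Setup s S Q) : (S : Subgroup G) ≤ M := fun t ht => mem_nrm (L.inv.2 t ht)

theorem normalizer_le (L : Setup s S Q) : normalizer ((S : Subgroup G) : Set G) ≤ M :=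
  fun g hg => mem_nrm (L.stable g hg)

theorem solvable (L : Setup s S Q) : Group.IsSolvable ↥M := by
  haveI := Fact.mk L.hyp.prime
  haveI := L.inv.1.isNilpotent
  exact L.hyp.solvable_local L.ne inferInstance

theorem le_M (L : Setup s S Q) {t : G} (ht : t ∈ (S : Subgroup G)) (ht1 : t ≠ 1) :
    centralizer ({t} : Set G) ≤ M := by
  intro x hx
  obtain ⟨o, ho, n, -, hn, rfl⟩ := (L.hyp.solvable_structure (L.hyp.solvable_centralizer
    (Or.inl (L.hyp.order_S S ht ht1))) (L.hyp.sylow_le_cent S ht) S.2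
    (sylow_relIndex S _ (L.hyp.sylow_le_cent S ht))).2 x hx
  exact mul_mem (le_normalizer (L.contains t ht ht1 ho)) (L.normalizer_le (mem_nrm hn))

theorem ne_top (L : Setup s S Q) (hns : ¬ Group.IsSolvable G) : M ≠ ⊤ := fun e => by
  haveI := Fact.mk L.hyp.prime
  haveI := L.inv.1.isNilpotent
  exact L.ne (L.hyp.no_solvable_normal hns Q (Subgroup.normalizer_eq_top_iff.1 e) inferInstance)

/-- an involution of the strongly embedded subgroup is conjugate in it into the Sylow 2-subgroup -/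
theorem conj_into (L : Setup s S Q) {t : G} (ht : orderOf t = 2) (htM : t ∈ M) :
    ∃ m ∈ M, m * t * m⁻¹ ∈ (S : Subgroup G) := by
  haveI : Fact (Nat.Prime 2) := ⟨Nat.prime_two⟩
  have hp : IsPGroup 2 ↥(zpowers (⟨t, htM⟩ : ↥M)) :=
    IsPGroup.of_card (n := 1) (by rw [Nat.card_zpowers, orderOf_mk, ht, pow_one])
  obtain ⟨P, hP⟩ := hp.exists_le_sylow
  obtain ⟨m, hm⟩ := MulAction.exists_smul_eq ↥M P (S.subtype L.sylow_le)
  refine ⟨m, m.2, ?_⟩
  have h1 : m * ⟨t, htM⟩ * m⁻¹ ∈ ((S.subtype L.sylow_le : Sylow 2 ↥M) : Subgroup ↥M) := by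
    rw [← hm, Sylow.coe_subgroup_smul]
    exact ⟨_, hP (mem_zpowers _), rfl⟩
  rw [Sylow.coe_subtype, mem_subgroupOf] at h1
  simpa using h1

theorem strongly (L : Setup s S Q) (hns : ¬ Group.IsSolvable G) : Cfsg.IsStronglyEmbedded M := by
  haveI : Fact (Nat.Prime 2) := ⟨Nat.prime_two⟩
  refine Cfsg.Lib.StrongEmb.of_conditions (L.ne_top hns) ?_ ?_ ?_
  · refine even_iff_two_dvd.2 (dvd_trans ?_ (Subgroup.card_dvd_of_le L.sylow_le))
    obtain ⟨k, hk⟩ := IsPGroup.iff_card.1 S.2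
    rw [hk]
    refine dvd_pow_self 2 fun e => ?_
    have := L.four
    rw [hk, e] at this
    norm_num at this
  · intro t htM ht
    obtain ⟨m, hm, hmt⟩ := L.conj_into ht htM
    intro x hx
    have hc : Commute x t := mem_centralizer_singleton_iff.1 hx
    have h1 : m * x * m⁻¹ ∈ M := L.le_M hmt (fun e => by
      rw [conj_eq_one_iff] at e; rw [e, orderOf_one] at ht; omega) (mem_centralizer_singleton_iff.2 (by
        simpa using (hc.map (MulAut.conj m).toMonoidHom).eq))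
    simpa [mul_assoc] using mul_mem (mul_mem (inv_mem hm) h1) hm
  · intro t htM t' htM' ht ht' hc
    obtain ⟨m, hm, hmt⟩ := L.conj_into ht htM
    obtain ⟨m', hm', hmt'⟩ := L.conj_into ht' htM'
    obtain ⟨g, hg⟩ := isConj_iff.1 hc
    have hy : m' * g * m⁻¹ * (m * t * m⁻¹) * (m' * g * m⁻¹)⁻¹ = m' * t' * m'⁻¹ := by rw [← hg]; group
    have hab : IsMulCommutative ↥(S : Subgroup G) :=
      ⟨⟨fun a b => Subtype.ext (L.hyp.comm_two_group S.2 a.2 b.2).eq⟩⟩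
    obtain ⟨n, hn, hne⟩ := Cfsg.Lib.Transfer.abelian_sylow_fusion S hab _ _ hmt (by rw [hy]; exact hmt')
    refine ⟨m'⁻¹ * n * m, mul_mem (mul_mem (inv_mem hm') (L.normalizer_le hn)) hm, ?_⟩
    calc m'⁻¹ * n * m * t * (m'⁻¹ * n * m)⁻¹ = m'⁻¹ * (n * (m * t * m⁻¹) * n⁻¹) * m' := by group
      _ = m'⁻¹ * (m' * t' * m'⁻¹) * m' := by rw [← hne, hy]
      _ = t' := by group

theorem ox_eq (L : Setup s S Q) : OX M = Q := by
  have h1 : Q ≤ OX M := L.hyp.inv_le_ox L.solvable L.sylow_le L.inv le_normalizer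
  exact le_antisymm (L.max _ (L.hyp.inv_ox S L.four L.sylow_le) (by rw [inf_eq_right.2 h1]; exact L.ne)) h1

theorem decomp (L : Setup s S Q) {x : G} (hx : x ∈ M) :
    ∃ q ∈ Q, ∃ n ∈ normalizer ((S : Subgroup G) : Set G), x = q * n := by
  obtain ⟨o, ho, n, -, hn, e⟩ :=
    (L.hyp.solvable_structure L.solvable L.sylow_le S.2 (sylow_relIndex S _ L.sylow_le)).2 x hx
  exact ⟨o, L.ox_eq ▸ ho, n, mem_nrm hn, e⟩

/-- a solvable subgroup with a four-group in the strongly embedded subgroup lies in it -/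
theorem four_lemma (L : Setup s S Q) (hns : ¬ Group.IsSolvable G) {Y E : Subgroup G} (hY : Group.IsSolvable ↥Y)
    (hEY : E ≤ Y) (hEM : E ≤ M) (hE : IsPGroup 2 ↥E) (hE4 : 4 ≤ Nat.card ↥E) : Y ≤ M := by
  haveI : Fact (Nat.Prime 2) := ⟨Nat.prime_two⟩
  have hSE := L.strongly hns
  obtain ⟨P, hP⟩ := (hE.comap_of_injective Y.subtype Y.subtype_injective :
    IsPGroup 2 ↥(E.subgroupOf Y)).exists_le_sylow
  set T := (P : Subgroup ↥Y).map Y.subtype with hT
  have hTY : T ≤ Y := map_subtype_le _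
  have hT2 : IsPGroup 2 ↥T := P.2.map _
  have hET : E ≤ T := fun e he => ⟨⟨e, hEY he⟩, hP (mem_subgroupOf.2 he), rfl⟩
  obtain ⟨e, he, he1⟩ := (Subgroup.bot_or_exists_ne_one E).resolve_left fun hb => by
    rw [hb] at hE4
    norm_num at hE4
  have he2 := L.hyp.order_two hE he he1
  have hTM : T ≤ M := fun t ht => Cfsg.Lib.StrongEmb.centralizer_le hSE he2 (hEM he)
    (mem_centralizer_singleton_iff.2 (L.hyp.comm_two_group hT2 ht (hET he)).eq)
  have hidx : ¬ 2 ∣ T.relIndex Y := by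
    rw [hT, Subgroup.relIndex, Subgroup.subgroupOf, Subgroup.comap_map_eq_self_of_injective Y.subtype_injective]
    exact P.not_dvd_index
  obtain ⟨-, h2⟩ := L.hyp.solvable_structure hY hTY hT2 hidx
  have hOM : OX Y ≤ M := L.hyp.le_of_centralizers hE hE4 (ox_odd Y) (fun t ht => ox_conj (hEY ht))
    (fun t ht ht1 x _ hc => Cfsg.Lib.StrongEmb.centralizer_le hSE (L.hyp.order_two hE ht ht1) (hEM ht)
      (mem_centralizer_singleton_iff.2 hc.eq))
  intro y hy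
  obtain ⟨o, ho, n, -, hn, rfl⟩ := h2 y hy
  exact mul_mem (hOM ho) (Cfsg.Lib.StrongEmb.conj_eq hSE he2 (hEM he) (hTM (hn e (hET he))))

theorem exists_outside (L : Setup s S Q) (hns : ¬ Group.IsSolvable G) : ∃ u : G, orderOf u = 2 ∧ u ∉ M := by
  obtain ⟨t, ht, ht1⟩ := (Subgroup.bot_or_exists_ne_one (S : Subgroup G)).resolve_left fun hb => by
    have := L.four
    rw [hb] at this
    norm_num at this
  by_contra hcon
  push Not at hcon
  refine L.ne_top hns (eq_top_iff.2 fun g _ => Cfsg.Lib.StrongEmb.conj_eq (L.strongly hns)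
    (L.hyp.order_S S ht ht1) (L.sylow_le ht) (hcon _ ?_))
  rw [show g * t * g⁻¹ = MulAut.conj g t by simp, MulEquiv.orderOf_eq, L.hyp.order_S S ht ht1]

end Setup

end Cfsg.Lib.CITExt.TwoS
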