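import Cfsg.Agent.CITExt.TwoS.Zassenhaus
import Cfsg.Agent.CITExt.TwoS.NoCoreEnd
import Cfsg.Agent.S0508
import Mathlib.GroupTheory.SpecificGroups.KleinFour

/-!
The simple groups in which the orders divisible by `2` or by `s` are `2`, `s` and `2s`, all three occurring.
-/

set_option autoImplicit false
set_option linter.unusedSectionVars false
set_option linter.style.haveILetI false

namespace Cfsg.Lib.CITExt.TwoS

open Subgroup Cfsg.Lib.CITGroups

universe u

variable {G : Type u} [Group G] [Finite G] {s : ℕ}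

/-- such a simple group is `PSL(2, q)` with `q` odd and has Sylow 2-subgroups of order four -/
theorem Hyp.simple_case [IsSimpleGroup G] (h : Hyp s G) (hns : ¬ Group.IsSolvable G)
    (hex : ∃ g : G, orderOf g = 2 * s) (S : Sylow 2 G) :
    Nat.card ↥(S : Subgroup G) = 4 ∧ ∃ (F : Type) (_ : Field F) (_ : Fintype F),
      Odd (Fintype.card F) ∧ Nonempty (G ≃* Matrix.ProjectiveSpecialLinearGroup (Fin 2) F) := by
  classical
  haveI : Fact (Nat.Prime 2) := ⟨Nat.prime_two⟩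
  haveI := Fact.mk h.prime
  have h4 : Nat.card ↥(S : Subgroup G) = 4 := by
    by_contra hne
    obtain ⟨k, hk⟩ := IsPGroup.iff_card.1 S.2
    rcases lt_or_ge k 2 with hk2 | hk2
    · refine hns (solvable_of_small S ?_)
      rw [hk]
      exact Nat.pow_le_pow_right two_pos (by omega : k ≤ 1)
    have hk3 : 3 ≤ k := by
      by_contra hlt
      exact hne (by rw [hk, show k = 2 by omega]; rfl)
    have h8 : 8 ≤ Nat.card ↥(S : Subgroup G) := by
      rw [hk]
      exact Nat.pow_le_pow_right two_pos hk3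
    by_cases hO : ∀ t ∈ (S : Subgroup G), t ≠ 1 → OT t = ⊥
    · exact (⟨h, h8, hO, hns⟩ : NoCore s S).false_of_simple hex
    · push Not at hO
      obtain ⟨t, ht, -, hOt⟩ := hO
      obtain ⟨Q, L⟩ := h.setup_of_rank h8 ht hOt
      exact L.false_of_setup hns
  refine ⟨h4, ?_⟩
  obtain ⟨t, ht, ht1⟩ : ∃ t ∈ (S : Subgroup G), t ≠ 1 := by
    refine ((S : Subgroup G).bot_or_exists_ne_one).resolve_left fun e => ?_
    rw [e, card_bot] at h4
    omega
  by_cases hmeet : ∃ (R : Subgroup G) (t u : G), Inv s S R ∧ t ∈ (S : Subgroup G) ∧ t ≠ 1 ∧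
      u ∈ (S : Subgroup G) ∧ u ≠ 1 ∧ t ≠ u ∧ (∃ x ∈ R, x ≠ 1 ∧ Commute x t) ∧ (∃ x ∈ R, x ≠ 1 ∧ Commute x u)
  · obtain ⟨R, a, b, hR, ha, ha1, hb, hb1, hab, hRa, hRb⟩ := hmeet
    obtain ⟨Q, L⟩ := h.setup_of_four hns h4 hR ha ha1 hb hb1 hab hRa hRb
    exact (L.false_of_setup hns).elim
  have h4' : 4 ≤ Nat.card ↥(S : Subgroup G) := h4.ge
  have hto := h.order_S S ht ht1
  haveI : IsKleinFour ↥(S : Subgroup G) := ⟨h4, by
    haveI : Nontrivial ↥(S : Subgroup G) := ⟨⟨⟨t, ht⟩, 1, fun e => ht1 (congrArg Subtype.val e)⟩⟩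
    refine (Monoid.exponent_eq_prime_iff Nat.prime_two).2 fun g hg => ?_
    rw [← Subgroup.orderOf_coe]
    exact h.order_S S g.2 fun e => hg (Subtype.ext e)⟩
  have hdi : Nonempty ((S : Subgroup G) ≃* DihedralGroup 2) := IsKleinFour.nonempty_mulEquiv
  set O := OT t with hO
  have hOt : ∀ x ∈ O, Commute x t := fun x hx => mem_centralizer_singleton_iff.1 (ox_le _ hx)
  have hOinv : Inv s S O := h.inv_ox S h4' (h.sylow_le_cent S ht)
  have hfree : ∀ u ∈ (S : Subgroup G), u ≠ 1 → u ≠ t → ∀ y ∈ O, Commute u y → y = 1 := by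
    intro u hu hu1 hut y hy hc
    by_contra hy1
    exact hmeet ⟨O, t, u, hOinv, ht, ht1, hu, hu1, Ne.symm hut, ⟨y, hy, hy1, hOt y hy⟩, ⟨y, hy, hy1, hc.symm⟩⟩
  have hinvs : ∀ u ∈ (S : Subgroup G), u ≠ 1 → u ≠ t → ∀ y ∈ O, u * y * u⁻¹ = y⁻¹ := fun u hu hu1 hut =>
    inv_of_fpf (h.sq_two (two_of_mem S.2 hu)) (hOinv.2 u hu) (hfree u hu hu1 hut)
  have htC : t ∈ centralizer (O : Set G) := mem_centralizer_iff.2 fun y hy => hOt y hy
  refine Cfsg.Agent.S0508.result S 2 le_rfl hdi t hto ht (fun a ha => (h.comm_two_group S.2 ha ht).eq) O rfl ?_ ?_ ?_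
  · intro hne
    have hSO : (S : Subgroup G) ⊓ centralizer (O : Set G) = zpowers t := by
      refine le_antisymm (fun u hu => ?_) (zpowers_le.2 ⟨ht, htC⟩)
      by_contra hut
      exact hne (eq_bot_iff.2 fun y hy => mem_bot.2 (hfree u hu.1 (fun e => hut (e ▸ one_mem _))
        (fun e => hut (e ▸ mem_zpowers t)) y hy (mem_centralizer_iff.1 hu.2 y hy).symm))
    rw [hSO]
    refine ⟨inferInstance, ?_⟩
    have h1 := Subgroup.card_mul_index ((zpowers t).subgroupOf (S : Subgroup G))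
    rw [Nat.card_congr (subgroupOfEquivOfLe (zpowers_le.2 ht)).toEquiv, Nat.card_zpowers, hto, h4] at h1
    show ((zpowers t).subgroupOf (S : Subgroup G)).index = 2
    omega
  · intro u hu huO
    exact hinvs u hu (fun e => huO (e ▸ one_mem _)) (fun e => huO (e ▸ htC))
  intro Y hYO hY1
  obtain ⟨y, hy, hy1⟩ := Y.bot_or_exists_ne_one.resolve_left hY1
  have hYinv : Inv s S Y := by
    refine ⟨hOinv.1.to_le hYO, fun a ha x hx => ?_⟩
    by_cases ha1 : a = 1
    · simpa [ha1] using hx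
    by_cases hat : a = t
    · subst hat
      rwa [(hOt x (hYO hx)).symm.eq, mul_inv_cancel_right]
    · rw [hinvs a ha ha1 hat x (hYO hx)]
      exact Y.inv_mem hx
  set X := normalizer (Y : Set G) with hX
  haveI : Group.IsNilpotent ↥Y := hYinv.1.isNilpotent
  have hXs : Group.IsSolvable ↥X := h.solvable_local hY1 inferInstance
  have hSX : (S : Subgroup G) ≤ X := fun a ha => mem_nrm (hYinv.2 a ha)
  have hYX : Y ≤ OX X := h.inv_le_ox hXs hSX hYinv le_normalizer
  have hOX : OX X ≤ centralizer ({t} : Set G) := by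
    refine h.le_of_centralizers S.2 h4' (ox_odd X) (fun a ha => ox_conj (hSX ha)) fun a ha ha1 x hx hc => ?_
    by_cases hat : a = t
    · subst hat
      exact mem_centralizer_singleton_iff.2 hc.eq
    by_contra hx'
    have hx1 : x ≠ 1 := fun e => hx' (e ▸ one_mem _)
    exact hmeet ⟨OX X, t, a, h.inv_ox S h4' hSX, ht, ht1, ha, ha1, Ne.symm hat,
      ⟨y, hYX hy, hy1, hOt y (hYO hy)⟩, ⟨x, hx, hx1, hc⟩⟩
  intro g hg
  obtain ⟨o, ho, n, hnX, hn, rfl⟩ := (h.solvable_structure hXs hSX S.2 (sylow_relIndex S X hSX)).2 g hg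
  refine mul_mem (hOX ho) ?_
  have hy' : n⁻¹ * y * n ∈ Y := by simpa using nrm_conj (inv_mem hnX) hy
  have hc : Commute (n * t * n⁻¹) y := by
    have := ((hOt _ (hYO hy')).symm).map (MulAut.conj n).toMonoidHom
    simpa [mul_assoc] using this
  have hnt : n * t * n⁻¹ = t := by
    by_contra hne
    exact hy1 (hfree _ (hn t ht) (fun e => ht1 (conj_eq_one_iff.1 e)) hne y (hYO hy) hc)
  exact mem_centralizer_singleton_iff.2 (mul_inv_eq_iff_eq_mul.1 hnt)

end Cfsg.Lib.CITExt.TwoS
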