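import Cfsg.Agent.CITExt.TwoS.Basic
import Cfsg.Agent.Components.PComponents
import Cfsg.Agent.Coprime.Fitting
import Cfsg.Agent.Coprime.Sylow
import Cfsg.Agent.Coprime.Generation

/-!
The odd core of a solvable subgroup with commutative Sylow 2-subgroups, and subgroups of odd order normalised by a
four-group.
-/

set_option autoImplicit false
set_option linter.unusedSectionVars false
set_option linter.style.haveILetI false

namespace Cfsg.Lib.CITExt.TwoS

open Subgroup Cfsg.Lib.CITGroups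

universe u

variable {G : Type u} [Group G] [Finite G] {s : ℕ}

/-- the largest normal subgroup of odd order of a subgroup, in the group -/
def OX (X : Subgroup G) : Subgroup G := (Cfsg.oddCore ↥X).map X.subtype

theorem ox_le (X : Subgroup G) : OX X ≤ X := map_subtype_le _

theorem ox_odd (X : Subgroup G) : Odd (Nat.card ↥(OX X)) := by
  rw [OX, Subgroup.card_map_of_injective X.subtype_injective]
  exact Nat.coprime_two_right.1 (Cfsg.Lib.Components.coprime_card_pPrimeCore 2)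

theorem ox_conj {X : Subgroup G} {g : G} (hg : g ∈ X) : ∀ k ∈ OX X, g * k * g⁻¹ ∈ OX X := by
  rintro _ ⟨k, hk, rfl⟩
  haveI : (Cfsg.oddCore ↥X).Normal := Cfsg.Lib.Components.normal_of_mem_sSup_normal fun N hN => hN.1
  exact ⟨⟨g, hg⟩ * k * ⟨g, hg⟩⁻¹, ‹(Cfsg.oddCore ↥X).Normal›.conj_mem k hk ⟨g, hg⟩, rfl⟩

/-- In a solvable subgroup an odd subgroup normalised by a Sylow 2-subgroup lies in the odd core, and the subgroup
is the product of its odd core and the normaliser of a Sylow 2-subgroup. -/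
theorem Hyp.solvable_structure (h : Hyp s G) {X T : Subgroup G} (hX : Group.IsSolvable ↥X) (hTX : T ≤ X)
    (hT : IsPGroup 2 ↥T) (hidx : ¬ 2 ∣ T.relIndex X) :
    (∀ R : Subgroup G, R ≤ X → Odd (Nat.card ↥R) → (∀ t ∈ T, ∀ x ∈ R, t * x * t⁻¹ ∈ R) → R ≤ OX X) ∧
      ∀ x ∈ X, ∃ o ∈ OX X, ∃ n ∈ X, (∀ t ∈ T, n * t * n⁻¹ ∈ T) ∧ x = o * n := by
  haveI : Fact (Nat.Prime 2) := ⟨Nat.prime_two⟩
  haveI := hX
  set O := Cfsg.oddCore ↥X with hO
  haveI hOn : O.Normal := Cfsg.Lib.Components.normal_of_mem_sSup_normal fun N hN => hN.1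
  set π := QuotientGroup.mk' O with hπ
  haveI : Group.IsSolvable (↥X ⧸ O) := Group.isSolvable_of_surjective (QuotientGroup.mk'_surjective O)
  let TX : Sylow 2 ↥X := (hT.comap_of_injective X.subtype X.subtype_injective : IsPGroup 2 ↥(T.subgroupOf X)).toSylow hidx
  have hTX' : (TX : Subgroup ↥X) = T.subgroupOf X := rfl
  let Tb : Sylow 2 (↥X ⧸ O) := TX.mapSurjective (QuotientGroup.mk'_surjective O)
  have hTb : (Tb : Subgroup (↥X ⧸ O)) = (T.subgroupOf X).map π := rfl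
  have hcore : Cfsg.pPrimeCore 2 (↥X ⧸ O) = ⊥ := Cfsg.Lib.Components.pPrimeCore_quotient_eq_bot
  have hle := Cfsg.Lib.Coprime.centralizer_pCore_le 2 hcore
  have hpT : Cfsg.pCore 2 (↥X ⧸ O) ≤ (Tb : Subgroup (↥X ⧸ O)) := Cfsg.Lib.Coprime.pCore_le_sylow 2 Tb
  have hTp : (Tb : Subgroup (↥X ⧸ O)) ≤ Cfsg.pCore 2 (↥X ⧸ O) := by
    intro y hy
    refine hle (mem_centralizer_iff.2 fun z hz => ?_)
    have hy' := hy
    have hz' := hpT hz
    rw [hTb] at hy' hz'
    obtain ⟨a, ha, rfl⟩ := hy'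
    obtain ⟨b, hb, rfl⟩ := hz'
    rw [← map_mul, ← map_mul]
    exact congrArg π (Subtype.ext (h.comm_two_group hT (mem_subgroupOf.1 hb) (mem_subgroupOf.1 ha)).eq)
  refine ⟨fun R hRX hodd hTR => ?_, fun x hx => ?_⟩
  · intro r hr
    have hr2 : (π ⟨r, hRX hr⟩) ∈ Cfsg.pCore 2 (↥X ⧸ O) := by
      refine hle (mem_centralizer_iff.2 fun z hz => ?_)
      have hz' := hpT hz
      rw [hTb] at hz'
      obtain ⟨t, ht, rfl⟩ := hz'
      set c : ↥X := ⟨r, hRX hr⟩ * t * ⟨r, hRX hr⟩⁻¹ * t⁻¹ with hc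
      have h1 : π c ∈ (Tb : Subgroup (↥X ⧸ O)) := by
        refine hpT ?_
        haveI : (Cfsg.pCore 2 (↥X ⧸ O)).Normal :=
          Cfsg.Lib.Components.normal_of_mem_sSup_normal fun N hN => hN.1
        rw [hc, map_mul, map_mul, map_mul, map_inv, map_inv]
        exact mul_mem (‹(Cfsg.pCore 2 (↥X ⧸ O)).Normal›.conj_mem _ hz _) (inv_mem hz)
      have h2 : (c : G) ∈ R := by
        rw [hc]
        push_cast
        rw [mul_assoc r, mul_assoc r]
        exact R.mul_mem hr (hTR t (mem_subgroupOf.1 ht) _ (R.inv_mem hr))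
      have h3 : π c = 1 := by
        obtain ⟨k, hk⟩ := IsPGroup.iff_orderOf.1 Tb.2 ⟨_, h1⟩
        rw [orderOf_mk] at hk
        refine eq_one_of_two_odd ⟨k, hk⟩ (Odd.of_dvd_nat hodd ((orderOf_map_dvd π c).trans ?_))
        rw [← orderOf_coe]
        exact orderOf_mk (c : G) h2 ▸ _root_.orderOf_dvd_natCard _
      rw [hc, map_mul, map_mul, map_mul, map_inv, map_inv, mul_inv_eq_one, mul_inv_eq_iff_eq_mul] at h3
      exact h3.symm
    obtain ⟨k, hk⟩ := IsPGroup.iff_orderOf.1 (Cfsg.Lib.Components.isPGroup_pCore (G := ↥X ⧸ O) 2) ⟨_, hr2⟩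
    rw [orderOf_mk] at hk
    have h4 := eq_one_of_two_odd ⟨k, hk⟩ (Odd.of_dvd_nat hodd ((orderOf_map_dvd π _).trans (by
      rw [← orderOf_coe]; exact orderOf_mk r hr ▸ _root_.orderOf_dvd_natCard _)))
    exact ⟨⟨r, hRX hr⟩, (QuotientGroup.eq_one_iff _).1 h4, rfl⟩
  · set K := (Cfsg.pCore 2 (↥X ⧸ O)).comap π with hK
    haveI : (Cfsg.pCore 2 (↥X ⧸ O)).Normal :=
      Cfsg.Lib.Components.normal_of_mem_sSup_normal fun N hN => hN.1
    haveI : K.Normal := Normal.comap inferInstance _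
    have hTK : (TX : Subgroup ↥X) ≤ K := fun t ht => hTp (by rw [hTb]; exact mem_map_of_mem π (hTX' ▸ ht))
    have htop := Sylow.normalizer_sup_eq_top' TX hTK
    have hx' : (⟨x, hx⟩ : ↥X) ∈ normalizer ((TX : Subgroup ↥X) : Set ↥X) ⊔ K := htop.symm ▸ mem_top _
    obtain ⟨a, ha, b, hb, hab⟩ := Subgroup.mem_sup_of_normal_right.1 hx'
    have hb' : π b ∈ (T.subgroupOf X).map π := hTb ▸ hpT hb
    obtain ⟨t, ht, htb⟩ := hb'
    have ha' : a * t ∈ normalizer ((TX : Subgroup ↥X) : Set ↥X) :=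
      mul_mem ha (le_normalizer (hTX'.symm ▸ ht))
    have ho : (⟨x, hx⟩ : ↥X) * (a * t)⁻¹ ∈ O := by
      rw [← QuotientGroup.eq_one_iff]
      show π _ = 1
      rw [← hab, map_mul, map_mul, map_inv, map_mul, htb]
      group
    refine ⟨_, ⟨_, ho, rfl⟩, ((a * t : ↥X) : G), SetLike.coe_mem _, fun u hu => ?_, by
      show x = (((⟨x, hx⟩ : ↥X) * (a * t)⁻¹ : ↥X) : G) * _
      rw [Subgroup.coe_mul, Subgroup.coe_inv, inv_mul_cancel_right]⟩
    have h1 := (mem_normalizer_iff.1 ha' ⟨u, hTX hu⟩).1 (by rw [hTX']; exact mem_subgroupOf.2 hu)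
    rw [hTX'] at h1
    exact mem_subgroupOf.1 h1

/-- A subgroup of odd order normalised by a four-group is an `s`-group. -/
theorem Hyp.odd_invariant (h : Hyp s G) {T R : Subgroup G} (hT : IsPGroup 2 ↥T)
    (hT4 : 4 ≤ Nat.card ↥T) (hodd : Odd (Nat.card ↥R)) (hTR : ∀ t ∈ T, ∀ x ∈ R, t * x * t⁻¹ ∈ R) :
    IsPGroup s ↥R := by
  haveI : Fact (Nat.Prime 2) := ⟨Nat.prime_two⟩
  haveI := Fact.mk h.prime
  suffices hall : ∀ r : ℕ, r.Prime → r ∣ Nat.card ↥R → r = s by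
    refine IsPGroup.of_card (n := (Nat.card ↥R).factorization s) ?_
    refine Nat.eq_of_factorization_eq Nat.card_pos.ne' (pow_ne_zero _ h.prime.ne_zero) fun r => ?_
    rw [h.prime.factorization_pow]
    rcases eq_or_ne r s with rfl | hrs
    · simp
    · rw [Finsupp.single_eq_of_ne hrs]
      by_cases hr : r.Prime
      · exact Nat.factorization_eq_zero_of_not_dvd fun hd => hrs (hall r hr hd)
      · exact Nat.factorization_eq_zero_of_not_prime _ hr
  intro r hr hd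
  by_contra hrs
  haveI := Fact.mk hr
  have hr2 : r ≠ 2 := fun e => Nat.not_even_iff_odd.2 hodd (even_iff_two_dvd.2 (e ▸ hd))
  have hTn : T ≤ normalizer (R : Set G) := fun t ht => mem_nrm (hTR t ht)
  have hcop : (Nat.card ↥T).Coprime (Nat.card ↥R) := by
    obtain ⟨k, hk⟩ := IsPGroup.iff_card.1 hT
    rw [hk]
    exact Nat.Coprime.pow_left _ (Nat.coprime_two_left.2 hodd)
  haveI := hT.isNilpotent
  obtain ⟨P, hP⟩ := Cfsg.Lib.Coprime.exists_invariant_sylow hTn hcop (Or.inl inferInstance) r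
  haveI : Nontrivial ↥(P : Subgroup ↥R) := (P : Subgroup ↥R).nontrivial_iff_ne_bot.2 fun e => by
    have h1 := P.not_dvd_index
    rw [e, Subgroup.index_bot] at h1
    exact h1 hd
  set P' := (P : Subgroup ↥R).map R.subtype with hP'
  have hPr : IsPGroup r ↥P' := P.2.map _
  haveI : Nontrivial ↥P' := (equivMapOfInjective _ _ R.subtype_injective).symm.toEquiv.nontrivial
  haveI : Nontrivial ↥(center ↥P') := hPr.center_nontrivial
  set V := (center ↥P').map P'.subtype with hV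
  have hVc' : ∀ a ∈ V, ∀ b ∈ P', Commute a b := by
    rintro _ ⟨a, ha, rfl⟩ b hb
    exact congrArg Subtype.val (mem_center_iff.1 ha ⟨b, hb⟩).symm
  have hVle : V ≤ P' := map_subtype_le _
  have hVc : ∀ a ∈ V, ∀ b ∈ V, Commute a b := fun a ha b hb => hVc' a ha b (hVle hb)
  have htV : ∀ t ∈ T, ∀ v ∈ V, t * v * t⁻¹ ∈ V := by
    intro t ht v hv
    refine ⟨⟨t * v * t⁻¹, nrm_conj (hP ht) (hVle hv)⟩, mem_center_iff.2 fun b => Subtype.ext ?_, rfl⟩
    have hb : t⁻¹ * (b : G) * t⁻¹⁻¹ ∈ P' := nrm_conj (inv_mem (hP ht)) b.2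
    have e := (hVc' v hv _ hb).eq
    show (b : G) * (t * v * t⁻¹) = t * v * t⁻¹ * b
    calc (b : G) * (t * v * t⁻¹) = t * ((t⁻¹ * (b : G) * t⁻¹⁻¹) * v) * t⁻¹ := by group
      _ = t * v * t⁻¹ * b := by rw [← e]; group
  obtain ⟨z, hz⟩ := exists_ne (1 : ↥(center ↥P'))
  set x : G := ((z : ↥P') : G) with hxdef
  have hxV : x ∈ V := ⟨z, z.2, rfl⟩
  have hx1 : x ≠ 1 := fun e => hz (Subtype.ext (Subtype.ext e))
  have hinv : ∀ t ∈ T, t ≠ 1 → t * x * t⁻¹ = x⁻¹ := fun t ht ht1 =>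
    inv_of_no_fix hVc (h.sq_two (two_of_mem hT ht)) (htV t ht) (fun v hv hc => by
      by_contra hv1
      obtain ⟨k, hk⟩ := IsPGroup.iff_orderOf.1 hPr ⟨v, hVle hv⟩
      rw [orderOf_mk] at hk
      rcases k with _ | k
      · exact hv1 (orderOf_eq_one_iff.1 (by simpa using hk))
      have ho : orderOf (v ^ r ^ k) = r := by
        rw [orderOf_pow' v (pow_ne_zero _ hr.ne_zero), hk, pow_succ, Nat.gcd_eq_right (dvd_mul_right _ _),
          Nat.mul_div_cancel_left _ (pow_pos hr.pos k)]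
      exact h.not_comm hr hr2 hrs ho (Or.inl (h.order_two hT ht ht1)) ((hc.symm).pow_left _)) hxV
  obtain ⟨a, ha, b, hb, ha1, hb1, hab⟩ : ∃ a ∈ T, ∃ b ∈ T, a ≠ 1 ∧ b ≠ 1 ∧ a ≠ b := by
    by_contra hcon
    push Not at hcon
    have hsub : ((T : Set G) \ {1}).Subsingleton := fun a ha b hb => hcon a ha.1 b hb.1 ha.2 hb.2
    have := Set.ncard_le_one_iff_subsingleton.2 hsub
    have hc := Set.ncard_sdiff_singleton_add_one (s := (T : Set G)) T.one_mem
    rw [← Nat.card_coe_set_eq (T : Set G)] at hc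
    have : Nat.card ↥(T : Set G) = Nat.card ↥T := rfl
    omega
  have hb2 : b * b = 1 := h.sq_two (two_of_mem hT hb)
  have hab1 : a * b ≠ 1 := fun e => hab (mul_right_cancel (e.trans hb2.symm))
  have i3 := hinv _ (T.mul_mem ha hb) hab1
  rw [show a * b * x * (a * b)⁻¹ = a * (b * x * b⁻¹) * a⁻¹ by group, hinv b hb hb1] at i3
  have i4 : a * x⁻¹ * a⁻¹ = x := by
    rw [show a * x⁻¹ * a⁻¹ = (a * x * a⁻¹)⁻¹ by group, hinv a ha ha1, inv_inv]
  rw [i4] at i3
  have h2 : x ^ 2 = 1 := by rw [pow_two]; nth_rw 1 [i3]; exact inv_mul_cancel _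
  obtain ⟨k, hk⟩ := IsPGroup.iff_orderOf.1 hPr ⟨x, hVle hxV⟩
  rw [orderOf_mk] at hk
  have hd2 := orderOf_dvd_of_pow_eq_one h2
  rw [hk] at hd2
  rcases k with _ | k
  · exact hx1 (orderOf_eq_one_iff.1 (by simpa using hk))
  · exact hr2 ((Nat.prime_dvd_prime_iff_eq hr Nat.prime_two).1 ((dvd_pow_self r k.succ_ne_zero).trans hd2))

/-- generation by the centralisers of a four-group -/
theorem Hyp.le_of_centralizers (h : Hyp s G) {T R M : Subgroup G} (hT : IsPGroup 2 ↥T) (hT4 : 4 ≤ Nat.card ↥T)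
    (hodd : Odd (Nat.card ↥R)) (hTR : ∀ t ∈ T, ∀ x ∈ R, t * x * t⁻¹ ∈ R)
    (hM : ∀ t ∈ T, t ≠ 1 → ∀ x ∈ R, Commute x t → x ∈ M) : R ≤ M := by
  haveI : IsMulCommutative ↥T := ⟨⟨fun a b => Subtype.ext (h.comm_two_group hT a.2 b.2).eq⟩⟩
  have hnc : ¬ IsCyclic ↥T := fun hc => by
    obtain ⟨g, hg⟩ := hc.exists_generator
    have h1 := orderOf_eq_card_of_forall_mem_zpowers hg
    have h2 : orderOf g ∣ 2 := orderOf_dvd_of_pow_eq_one (Subtype.ext (by
      push_cast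
      rw [pow_two]
      exact h.sq_two (two_of_mem hT g.2)))
    have := Nat.le_of_dvd two_pos h2
    omega
  have hcop : (Nat.card ↥T).Coprime (Nat.card ↥R) := by
    haveI : Fact (Nat.Prime 2) := ⟨Nat.prime_two⟩
    obtain ⟨k, hk⟩ := IsPGroup.iff_card.1 hT
    rw [hk]
    exact Nat.Coprime.pow_left _ (Nat.coprime_two_left.2 hodd)
  rw [← Cfsg.Lib.Coprime.centralizerJoin_eq hnc (fun t ht => mem_nrm (hTR t ht)) hcop]
  refine iSup₂_le fun t ht x hx => ?_
  exact hM t ht.1 ht.2 x hx.1 (mem_centralizer_singleton_iff.1 hx.2)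

end Cfsg.Lib.CITExt.TwoS
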