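import Cfsg.Agent.CITExt.TwoS.Central

/-!
The structure of the strongly embedded subgroup: it normalises the Sylow 2-subgroup, and the centraliser of an
involution in it is `QS`.
-/

set_option autoImplicit false
set_option linter.unusedSectionVars false
set_option linter.style.haveILetI false

namespace Cfsg.Lib.CITExt.TwoS

open Subgroup Cfsg.Lib.CITGroups

universe u

theorem card_nonidentity {G : Type*} [Group G] [Finite G] (S : Subgroup G) :
    Nat.card {x : G // x ∈ S ∧ x ≠ 1} + 1 = Nat.card ↥S := by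
  have h := Set.ncard_sdiff_singleton_add_one (s := (S : Set G)) S.one_mem
  rw [← Nat.card_coe_set_eq, ← Nat.card_coe_set_eq] at h
  exact h

/-- the orbit of `t` in a set permuted transitively -/
theorem relIndex_centralizer {G : Type*} [Group G] [Finite G] {K : Subgroup G} {t : G} (p : G → Prop)
    (hp : ∀ k ∈ K, p (k * t * k⁻¹)) (htr : ∀ x, p x → ∃ k ∈ K, k * t * k⁻¹ = x) :
    (centralizer ({t} : Set G)).relIndex K = Nat.card {x // p x} := by
  let f : ↥K ⧸ (centralizer ({t} : Set G)).subgroupOf K → {x // p x} :=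
    Quotient.lift (fun k : ↥K => (⟨(k : G) * t * (k : G)⁻¹, hp k k.2⟩ : {x // p x})) fun a b hab => by
      have h1 := mem_subgroupOf.1 (QuotientGroup.leftRel_apply.1 hab)
      rw [mem_centralizer_singleton_iff] at h1
      push_cast at h1
      refine Subtype.ext ?_
      show (a : G) * t * (a : G)⁻¹ = b * t * (b : G)⁻¹
      calc (a : G) * t * (a : G)⁻¹ = a * (t * ((a : G)⁻¹ * b)) * (b : G)⁻¹ := by group
        _ = _ := by rw [← h1]; group
  refine Nat.card_eq_of_bijective f ⟨?_, ?_⟩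
  · intro x y hxy
    induction x using QuotientGroup.induction_on with
    | H a =>
    induction y using QuotientGroup.induction_on with
    | H b =>
    have e : (a : G) * t * (a : G)⁻¹ = b * t * (b : G)⁻¹ := congrArg Subtype.val hxy
    refine QuotientGroup.eq.2 (mem_subgroupOf.2 (mem_centralizer_singleton_iff.2 ?_))
    push_cast
    calc (a : G)⁻¹ * b * t = (a : G)⁻¹ * (b * t * (b : G)⁻¹) * b := by group
      _ = t * ((a : G)⁻¹ * b) := by rw [← e]; group
  · rintro ⟨x, hx⟩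
    obtain ⟨k, hk, rfl⟩ := htr x hx
    exact ⟨QuotientGroup.mk ⟨k, hk⟩, rfl⟩

theorem eq_one_of_pow_add_one {s a m : ℕ} (hs : Odd s) (hs3 : 3 ≤ s) (hm : 2 ≤ m) (h : s ^ a + 1 = 2 ^ m) :
    a = 1 := by
  have h4 : 4 ∣ 2 ^ m := (Nat.pow_dvd_pow 2 hm : 2 ^ 2 ∣ 2 ^ m)
  rcases Nat.even_or_odd a with ⟨b, hb⟩ | hodd
  · exfalso
    obtain ⟨c, hc⟩ := hs.pow (n := b)
    rw [hb, pow_add, hc] at h
    have h5 : (2 * c + 1) * (2 * c + 1) = 4 * (c * c + c) + 1 := by ring
    omega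
  set q : ℤ := ∑ i ∈ Finset.range a, (-(s : ℤ)) ^ i with hq
  have hqs : q * ((s : ℤ) + 1) = (2 : ℤ) ^ m := by
    have h1 := geom_sum_mul (-(s : ℤ)) a
    rw [hodd.neg_pow] at h1
    have h2 : ((s : ℤ)) ^ a + 1 = (2 : ℤ) ^ m := by exact_mod_cast h
    linear_combination (-1 : ℤ) * h1 + h2
  have hq1 : q.natAbs ∣ 2 ^ m := by
    have := congrArg Int.natAbs hqs
    rw [Int.natAbs_mul, Int.natAbs_pow] at this
    exact ⟨_, this.symm⟩
  have hqodd : Odd q.natAbs := by
    rw [Int.natAbs_odd, ← Int.not_even_iff_odd, ← ZMod.intCast_eq_zero_iff_even]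
    have hs1 : ((s : ℤ) : ZMod 2) = 1 := by
      push_cast
      exact (ZMod.natCast_eq_one_iff_odd).2 hs
    rw [hq]
    push_cast
    rw [show ((s : ℕ) : ZMod 2) = 1 from (ZMod.natCast_eq_one_iff_odd).2 hs]
    simp only [ZModModule.neg_eq_self, one_pow, Finset.sum_const, Finset.card_range, nsmul_eq_mul, mul_one]
    rw [(ZMod.natCast_eq_one_iff_odd).2 hodd]
    exact one_ne_zero
  obtain ⟨j, -, hj⟩ := (Nat.dvd_prime_pow Nat.prime_two).1 hq1
  rcases j with _ | j
  · have := congrArg Int.natAbs hqs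
    rw [Int.natAbs_mul, Int.natAbs_pow, hj, pow_zero, one_mul] at this
    have h2 : s + 1 = 2 ^ m := by
      rw [show ((s : ℤ) + 1) = ((s + 1 : ℕ) : ℤ) by push_cast; ring, Int.natAbs_natCast] at this
      exact this
    have h3 : s ^ a = s ^ 1 := by rw [pow_one]; omega
    exact Nat.pow_right_injective (by omega) h3
  · rw [hj] at hqodd
    exact absurd hqodd (Nat.not_odd_iff_even.2 ⟨2 ^ j, by ring⟩)

variable {G : Type u} [Group G] [Finite G] {s : ℕ}

namespace Setup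

variable {S : Sylow 2 G} {Q : Subgroup G}

local notation "M" => normalizer (Q : Set G)

theorem normal_S (L : Setup s S Q) (hns : ¬ Group.IsSolvable G) {m t : G} (hm : m ∈ M)
    (ht : t ∈ (S : Subgroup G)) : m * t * m⁻¹ ∈ (S : Subgroup G) := by
  obtain ⟨q, hq, n, hn, rfl⟩ := L.decomp hm
  have h1 := nrm_conj hn ht
  rw [show q * n * t * (q * n)⁻¹ = q * (n * t * n⁻¹) * q⁻¹ by group, (L.centralizes hns _ h1 q hq).symm.eq,
    mul_inv_cancel_right]
  exact h1

theorem le_cent_S (L : Setup s S Q) (hns : ¬ Group.IsSolvable G) {t : G} (ht : t ∈ (S : Subgroup G)) :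
    Q ⊔ (S : Subgroup G) ≤ centralizer ({t} : Set G) :=
  sup_le (fun q hq => mem_centralizer_singleton_iff.2 (L.centralizes hns t ht q hq).symm.eq)
    (L.hyp.sylow_le_cent S ht)

theorem cent_le (L : Setup s S Q) (hns : ¬ Group.IsSolvable G) {x : G} (hx : x ∈ Q) (hx1 : x ≠ 1) :
    centralizer ({x} : Set G) ≤ M :=
  L.four_lemma hns (L.hyp.solvable_centralizer (Or.inr (L.hyp.order_s L.inv.1 hx hx1)))
    (fun t ht => mem_centralizer_singleton_iff.2 (L.centralizes hns t ht x hx).eq) L.sylow_le S.2 L.four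

theorem ti (L : Setup s S Q) (hns : ¬ Group.IsSolvable G) {x g : G} (hx : x ∈ Q) (hgx : g⁻¹ * x * g ∈ Q)
    (hg : g ∉ M) : x = 1 := by
  by_contra hx1
  obtain ⟨t, ht, ht1⟩ := L.exists_one
  refine hg (Cfsg.Lib.StrongEmb.conj_eq (L.strongly hns) (L.hyp.order_S S ht ht1) (L.sylow_le ht)
    (L.cent_le hns hx hx1 (mem_centralizer_singleton_iff.2 ?_)))
  have := (L.centralizes hns t ht _ hgx).map (MulAut.conj g).toMonoidHom
  simpa [mul_assoc] using this.eq

theorem ti_map (L : Setup s S Q) (hns : ¬ Group.IsSolvable G) {x g : G} (hx : x ∈ Q)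
    (hgx : x ∈ Q.map (MulAut.conj g).toMonoidHom) (hx1 : x ≠ 1) : g ∈ M := by
  by_contra hg
  exact hx1 (L.ti hns hx ((Cfsg.Lib.StrongEmb.mem_conj_iff).1 hgx) hg)

theorem inv_mem_S (L : Setup s S Q) (hns : ¬ Group.IsSolvable G) {t : G} (ht : orderOf t = 2) (htM : t ∈ M) :
    t ∈ (S : Subgroup G) := by
  obtain ⟨m, hm, hmt⟩ := L.conj_into ht htM
  simpa [mul_assoc] using L.normal_S hns (inv_mem hm) hmt

/-- if an element of order `s` moves `S` then there are `s` involutions in `S` and an `s`-complement -/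
theorem moving_data (L : Setup s S Q) (hns : ¬ Group.IsSolvable G) {n : G}
    (hn : n ∈ normalizer ((S : Subgroup G) : Set G)) (hns' : n ^ s = 1)
    (hmove : ¬ ∀ k ∈ (S : Subgroup G), Commute n k) :
    Nat.card {x : G // x ∈ (S : Subgroup G) ∧ x ≠ 1} = s ∧
      ∃ Y : Subgroup G, Y ≤ M ∧ IsPGroup s ↥Y ∧ (∀ m ∈ M, ∃ a ∈ (S : Subgroup G), ∃ y ∈ Y, m = a * y) ∧
        ∀ t ∈ (S : Subgroup G), t ≠ 1 → (centralizer ({t} : Set G)).relIndex Y = s := by
  haveI : Fact (Nat.Prime 2) := ⟨Nat.prime_two⟩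
  haveI := Fact.mk L.hyp.prime
  have h := L.hyp
  -- a complement of `S` in the strongly embedded subgroup
  have hSn : M ≤ normalizer ((S : Subgroup G) : Set G) := fun m hm => mem_nrm fun t ht => L.normal_S hns hm ht
  have hcop : (Nat.card ↥(S : Subgroup G)).Coprime ((S : Subgroup G).relIndex M) := by
    obtain ⟨i, hi⟩ := IsPGroup.iff_card.1 S.2
    rw [hi]
    exact Nat.Coprime.pow_left _ (Nat.prime_two.coprime_iff_not_dvd.2 (sylow_relIndex S _ L.sylow_le))
  obtain ⟨Y, hYM, hSY, hYc⟩ := Cfsg.Lib.Coprime.exists_complement_in L.sylow_le hSn hcop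
  have hYodd : Odd (Nat.card ↥Y) := by
    rw [hYc]
    exact Nat.not_even_iff_odd.1 fun e => sylow_relIndex S _ L.sylow_le e.two_dvd
  have hSY1 : ∀ y ∈ Y, y ∈ (S : Subgroup G) → y = 1 := fun y hy hyS =>
    eq_one_of_two_odd (two_of_mem S.2 hyS) (Odd.of_dvd_nat hYodd (by
      rw [← orderOf_mk y hy]; exact _root_.orderOf_dvd_natCard _))
  have hprod : ∀ m ∈ M, ∃ a ∈ (S : Subgroup G), ∃ y ∈ Y, m = a * y := by
    intro m hm
    rw [← hSY, ← SetLike.mem_coe, coe_mul_of_right_le_normalizer_left _ _ (hYM.trans hSn)] at hm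
    obtain ⟨a, ha, y, hy, rfl⟩ := hm
    exact ⟨a, ha, y, hy, rfl⟩
  have hQY : Q ≤ Y := by
    intro q hq
    obtain ⟨a, ha, y, hy, e⟩ := hprod q (le_normalizer hq)
    have hqa : Commute a q := L.centralizes hns a ha q hq
    have hya : Commute a y := by
      have : y = a⁻¹ * q := by rw [e]; group
      rw [this]
      exact ((Commute.refl a).inv_right).mul_right hqa
    have ho : (a : G) ^ Nat.card ↥Q * y ^ Nat.card ↥Q = 1 := by
      rw [← hya.mul_pow, ← e]
      exact orderOf_dvd_iff_pow_eq_one.1 (by rw [← orderOf_mk q hq]; exact _root_.orderOf_dvd_natCard _)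
    have ha1 : a ^ Nat.card ↥Q = 1 := by
      refine (inv_eq_one.1 ?_)
      rw [inv_eq_of_mul_eq_one_right ho]
      exact hSY1 _ (pow_mem hy _) (by
        rw [← inv_eq_of_mul_eq_one_right ho]
        exact inv_mem (pow_mem ha _))
    have ha2 : a = 1 := eq_one_of_two_odd (two_of_mem S.2 ha)
      (Odd.of_dvd_nat (L.inv.odd h) (orderOf_dvd_of_pow_eq_one ha1))
    rw [e, ha2, one_mul]
    exact hy
  obtain ⟨R0, hR0Y, hR0s, hQR0, hR0n, hR0⟩ := h.sclosed_in (Cfsg.Agent.PF.isSolvable_of_odd _ hYodd) hQY L.inv.1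
    L.ne (fun g hg x hx => nrm_conj (hYM hg) hx) (fun y _ _ K hKY hK _ k hk => by
      rw [eq_one_of_two_odd (two_of_mem hK hk) (Odd.of_dvd_nat hYodd (by
        rw [← orderOf_mk k (hKY hk)]; exact _root_.orderOf_dvd_natCard _))]
      exact Commute.one_right _)
  -- the complement is an `s`-group
  obtain ⟨a₀, ha₀, y₀, hy₀, e₀⟩ := hprod n (L.normalizer_le hn)
  have hy₀move : ∃ k ∈ (S : Subgroup G), ¬ Commute y₀ k := by
    by_contra hcon
    push Not at hcon
    exact hmove fun k hk => e₀ ▸ (h.comm_two_group S.2 ha₀ hk).mul_left (hcon k hk)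
  have hy₀s : y₀ ^ s = 1 := by
    have h1 : y₀ ^ s ∈ (S : Subgroup G) := by
      haveI : ((S : Subgroup G).subgroupOf M).Normal :=
        (normal_subgroupOf_iff_le_normalizer L.sylow_le).2 hSn
      set ρ := QuotientGroup.mk' ((S : Subgroup G).subgroupOf M)
      have e : ρ ⟨n, L.normalizer_le hn⟩ = ρ ⟨y₀, hYM hy₀⟩ := by
        rw [show (⟨n, L.normalizer_le hn⟩ : ↥M) = ⟨a₀, L.sylow_le ha₀⟩ * ⟨y₀, hYM hy₀⟩ from Subtype.ext e₀,
          map_mul, show ρ ⟨a₀, L.sylow_le ha₀⟩ = 1 from (QuotientGroup.eq_one_iff _).2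
            (mem_subgroupOf.2 ha₀ : (⟨a₀, L.sylow_le ha₀⟩ : ↥M) ∈ (S : Subgroup G).subgroupOf M), one_mul]
      have h2 : ρ (⟨y₀, hYM hy₀⟩ ^ s) = 1 := by
        rw [map_pow, ← e, ← map_pow]
        exact (congrArg ρ (Subtype.ext (by simpa using hns'))).trans (map_one ρ)
      have h3 := (QuotientGroup.eq_one_iff _).1 h2
      rw [mem_subgroupOf] at h3
      simpa using h3
    exact hSY1 _ (pow_mem hy₀ s) h1
  have hsR0 : y₀ ∈ R0 := hR0 y₀ hy₀ hy₀s
  have hYs : IsPGroup s ↥Y := by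
    intro y
    by_contra hy
    obtain ⟨r, hr, hrd, hrs⟩ : ∃ r : ℕ, r.Prime ∧ r ∣ orderOf (y : G) ∧ r ≠ s := by
      by_contra hcon
      push Not at hcon
      refine hy ⟨(orderOf (y : G)).primeFactorsList.length, Subtype.ext ?_⟩
      push_cast
      rw [← orderOf_dvd_iff_pow_eq_one]
      exact (Nat.eq_prime_pow_of_unique_prime_dvd (orderOf_pos _).ne' fun {d} hd hdd => hcon d hd hdd).dvd
    have hr2 : r ≠ 2 := fun e => Nat.not_even_iff_odd.2
      (Odd.of_dvd_nat hYodd (hrd.trans (by rw [← orderOf_mk (y : G) y.2]; exact _root_.orderOf_dvd_natCard _)))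
      (e ▸ even_two)
    set ρ := (y : G) ^ (orderOf (y : G) / r)
    have hρ : orderOf ρ = r := orderOf_pow_orderOf_div (orderOf_pos _).ne' hrd
    have hρY : ρ ∈ Y := pow_mem y.2 _
    have hcomm := h.commute_of_fpf (V := (S : Subgroup G)) (W := R0)
      (fun a ha b hb => h.comm_two_group S.2 ha hb) (Or.inr S.2) hr hr2 hρ
      (fun v hv => L.normal_S hns (hYM hρY) hv) (fun w hw v hv => L.normal_S hns (hYM (hR0Y hw)) hv)
      (fun w hw => hR0n ρ hρY w hw)
      (fun w hw hc' => by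
        by_contra hw1
        exact h.not_comm hr hr2 hrs hρ (Or.inr (h.order_s hR0s hw hw1)) hc')
      (fun _ => hrs)
      (by
        obtain ⟨i, hi⟩ := IsPGroup.iff_card.1 S.2
        obtain ⟨j, hj⟩ := IsPGroup.iff_card.1 hR0s
        rw [hi, hj]
        exact Nat.Coprime.pow _ _ ((Nat.coprime_primes h.prime Nat.prime_two).2 h.ne_two))
    obtain ⟨k, hk, hkn⟩ := hy₀move
    exact hkn (hcomm y₀ hsR0 k hk)
  -- the stabiliser of an involution
  have hrel : ∀ t ∈ (S : Subgroup G), t ≠ 1 → (centralizer ({t} : Set G)).relIndex Y = Nat.card {x : G // x ∈ (S : Subgroup G) ∧ x ≠ 1} :=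
    fun t ht ht1 => relIndex_centralizer _ (fun y hy => ⟨L.normal_S hns (hYM hy) ht, fun e => ht1 (conj_eq_one_iff.1 e)⟩)
      fun z ⟨hz, hz1⟩ => by
        obtain ⟨m, hm, hmt⟩ := L.trans hns ht ht1 hz hz1
        obtain ⟨a, ha, y, hy, rfl⟩ := hprod m (L.normalizer_le hm)
        refine ⟨y, hy, ?_⟩
        rw [← hmt, show a * y * t * (a * y)⁻¹ = a * (y * t * y⁻¹) * a⁻¹ by group,
          (h.comm_two_group S.2 ha (L.normal_S hns (hYM hy) ht)).eq, mul_inv_cancel_right]
  obtain ⟨t, ht, ht1⟩ := L.exists_one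
  obtain ⟨k, hk⟩ := IsPGroup.iff_card.1 hYs
  obtain ⟨a, hak, ha⟩ := (Nat.dvd_prime_pow h.prime).1
    (show Nat.card {x : G // x ∈ (S : Subgroup G) ∧ x ≠ 1} ∣ s ^ k by
      rw [← hrel t ht ht1, ← hk]
      exact Subgroup.index_dvd_card ((centralizer ({t} : Set G)).subgroupOf Y))
  obtain ⟨m, hm⟩ := IsPGroup.iff_card.1 S.2
  have hsum : s ^ a + 1 = 2 ^ m := by rw [← ha, ← hm]; exact card_nonidentity _
  have hm2 : 2 ≤ m := by
    have := L.four
    rw [hm] at this
    exact (Nat.pow_le_pow_iff_right (a := 2) (by norm_num)).1 (by simpa using this)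
  have ha1 := eq_one_of_pow_add_one h.odd_s (by
    have := h.prime.two_le
    have := h.ne_two
    omega) hm2 hsum
  have hl : Nat.card {x : G // x ∈ (S : Subgroup G) ∧ x ≠ 1} = s := by rw [ha, ha1, pow_one]
  exact ⟨hl, Y, hYM, hYs, hprod, fun t ht ht1 => (hrel t ht ht1).trans hl⟩

/-- the centraliser of an involution in `S` is `QS` -/
theorem cent_le_QS (L : Setup s S Q) (hns : ¬ Group.IsSolvable G) {t x : G} (ht : t ∈ (S : Subgroup G))
    (ht1 : t ≠ 1) (hc : Commute x t) : x ∈ Q ⊔ (S : Subgroup G) := by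
  haveI : Fact (Nat.Prime 2) := ⟨Nat.prime_two⟩
  haveI := Fact.mk L.hyp.prime
  have h := L.hyp
  refine L.cent_le_of ht ht1 hc fun n hn hns' hnt => ?_
  by_cases hmove : ∀ k ∈ (S : Subgroup G), Commute n k
  · exact mem_sup_left (L.cent_S hns' hmove)
  obtain ⟨-, Y, hYM, hYs, hprod, hidx⟩ := L.moving_data hns hn hns' hmove
  obtain ⟨a₀, ha₀, y₀, hy₀, e₀⟩ := hprod n (L.normalizer_le hn)
  have hy₀move : ∃ k ∈ (S : Subgroup G), ¬ Commute y₀ k := by
    by_contra hcon
    push Not at hcon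
    exact hmove fun k hk => e₀ ▸ (h.comm_two_group S.2 ha₀ hk).mul_left (hcon k hk)
  obtain ⟨k, hk⟩ := IsPGroup.iff_card.1 hYs
  haveI hnormal : ((centralizer ({t} : Set G)).subgroupOf Y).Normal := by
    refine normal_of_index_eq_minFac_card ?_
    rw [show ((centralizer ({t} : Set G)).subgroupOf Y).index = s from hidx t ht ht1, hk]
    refine (h.prime.pow_minFac fun e0 => ?_).symm
    have h1 : s ∣ Nat.card ↥Y := (hidx t ht ht1) ▸ Subgroup.index_dvd_card ((centralizer ({t} : Set G)).subgroupOf Y)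
    rw [hk, e0, pow_zero] at h1
    exact h.prime.one_lt.ne' (Nat.eq_one_of_dvd_one h1)
  have hyt : Commute y₀ t := by
    have : y₀ = a₀⁻¹ * n := by rw [e₀]; group
    rw [this]
    exact ((h.comm_two_group S.2 ha₀ ht).inv_left).mul_left hnt
  obtain ⟨z, hz, hzn⟩ := hy₀move
  refine absurd ?_ hzn
  rcases eq_or_ne z 1 with rfl | hz1
  · exact Commute.one_right _
  obtain ⟨m', hm', hmt⟩ := L.trans hns ht ht1 hz hz1
  obtain ⟨a', ha', y', hy', rfl⟩ := hprod m' (L.normalizer_le hm')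
  have hzy : y' * t * y'⁻¹ = z := by
    rw [← hmt, show a' * y' * t * (a' * y')⁻¹ = a' * (y' * t * y'⁻¹) * a'⁻¹ by group,
      (h.comm_two_group S.2 ha' (L.normal_S hns (hYM hy') ht)).eq, mul_inv_cancel_right]
  have h1 := hnormal.conj_mem ⟨y₀, hy₀⟩ (mem_subgroupOf.2 (mem_centralizer_singleton_iff.2 hyt.eq)) ⟨y', hy'⟩⁻¹
  rw [mem_subgroupOf, mem_centralizer_singleton_iff] at h1
  push_cast at h1
  rw [← hzy]
  have h2 := (show Commute (y'⁻¹ * y₀ * y'⁻¹⁻¹) t from h1).map (MulAut.conj y').toMonoidHom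
  simpa [mul_assoc] using h2

/-- the index of `QS` in the strongly embedded subgroup is the number of its involutions -/
theorem relIndex_QS (L : Setup s S Q) (hns : ¬ Group.IsSolvable G) :
    (Q ⊔ (S : Subgroup G)).relIndex M = Nat.card {x : G // x ∈ (S : Subgroup G) ∧ x ≠ 1} := by
  obtain ⟨t, ht, ht1⟩ := L.exists_one
  rw [← relIndex_centralizer (K := M) (t := t) _
    (fun m hm => ⟨L.normal_S hns hm ht, fun e => ht1 (conj_eq_one_iff.1 e)⟩)
    fun z ⟨hz, hz1⟩ => by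
      obtain ⟨m, hm, hmt⟩ := L.trans hns ht ht1 hz hz1
      exact ⟨m, L.normalizer_le hm, hmt⟩]
  congr 1
  exact le_antisymm (L.le_cent_S hns ht) fun x hx =>
    L.cent_le_QS hns ht ht1 (mem_centralizer_singleton_iff.1 hx)

end Setup

end Cfsg.Lib.CITExt.TwoS
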